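import Cfsg.Agent.R2.F4L.TupB

/-!
# Multiplicities (helper2, S5931)

* `count_two` : two independent, isotropic and orthogonal copies of `V_b` : multiplicity at least 4;
* `ts4_orth` : the form on two tuples of type `(4, i)`;
* `Em.dul` : the duality; `Cx.hv_of` : `x_4 ^ # = 0` if the label of weight `8 p ^ i` is not a factor;
* `Cx.dead4` : the tuples of type `(4, i)`.
-/

set_option autoImplicit false
set_option linter.unusedSectionVars false
set_option linter.unusedVariables false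

namespace Cfsg.Agent.R2.F4L

open Cfsg.Lie
open Cfsg.Agent.ChevalleyStructure.E6Min.Tables Cfsg.Agent.ChevalleyStructure.E6Min.Basic
open Cfsg.Agent.H952.F4 (sh cr tf tr1 u0)
open Cfsg.Agent.H952.F4.Jord
open Cfsg.Agent.H943.SL2Rel Cfsg.Agent.H943.SL2Mod Cfsg.Agent.R2.H28.SL2 Cfsg.Agent.H943.RepAdd
open Cfsg.Agent.R2.GEO (tfB tfB_apply)

universe u v w

variable {k : Type u} [Field k] [DecidableEq k] {K : Type w} [Field K] [Fintype K] [DecidableEq K] {ι : K →+* k}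
variable {p : ℕ} [Fact p.Prime] [CharP k p] [CharP K p] {a : ℕ}

section Count

variable [IsAlgClosed k]
variable {V : Type v} [AddCommGroup V] [Module k V] [FiniteDimensional k V]
  {σ : Representation k (Matrix.SpecialLinearGroup (Fin 2) K) V}

theorem cf_le_of_inj {V' : Type v} [AddCommGroup V'] [Module k V'] [FiniteDimensional k V']
    {σ' : Representation k (Matrix.SpecialLinearGroup (Fin 2) K) V'} (f : V →ₗ[k] V') (hf : ∀ g x, f (σ g x) = σ' g (f x))
    (hi : Function.Injective f) : cf (Sy.{u, v, w} ι p) σ ≤ cf (Sy.{u, v, w} ι p) σ' := by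
  obtain ⟨hk, hr, h1, -⟩ := cf_exact (Sy.{u, v, w} ι p) σ σ' f hf
  have hsub : Subsingleton (LinearMap.ker f) := by
    rw [LinearMap.ker_eq_bot.2 hi]
    infer_instance
  rw [h1, cf_zero (Sy.{u, v, w} ι p) (subRep σ _ hk), zero_add]
  exact cf_sub_le _ _ _ _

theorem count_sup {b : ℕ} {X Y : Submodule k V} {hX : ∀ g, ∀ x ∈ X, σ g x ∈ X} {hY : ∀ g, ∀ x ∈ Y, σ g x ∈ Y}
    (hVX : IsV ι p (subRep σ X hX) b) (hVY : IsV ι p (subRep σ Y hY) b) (hne : ¬ Y ≤ X)
    (hW : ∀ g, ∀ x ∈ X ⊔ Y, σ g x ∈ X ⊔ Y) : 2 ≤ (cf (Sy.{u, v, w} ι p) (subRep σ (X ⊔ Y) hW)).count b := by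
  set τ := subRep σ (X ⊔ Y) hW with hτ
  let X' : Submodule k (X ⊔ Y : Submodule k V) := X.comap (X ⊔ Y : Submodule k V).subtype
  have hX' : ∀ g, ∀ x ∈ X', τ g x ∈ X' := fun g x hx => hX g _ hx
  have h1 := cf_add (Sy.{u, v, w} ι p) τ X' hX'
  have h2 : b ∈ cf (Sy.{u, v, w} ι p) (subRep τ X' hX') := by
    refine InSoc.mem_cf ι p (inSoc_of_hom ι p hVX
      ((Submodule.inclusion (le_sup_left : X ≤ X ⊔ Y)).codRestrict X' fun x => x.2) (fun g x => rfl) ?_)
    intro h0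
    obtain ⟨x, hx⟩ := @exists_ne X (IsV.irr ι p hVX).1 0
    apply hx
    have e := LinearMap.congr_fun h0 x
    exact Subtype.ext (congrArg (fun z : X' => ((z : (X ⊔ Y : Submodule k V)) : V)) e)
  have h3 : b ∈ cf (Sy.{u, v, w} ι p) (quotRep τ X' hX') := by
    refine InSoc.mem_cf ι p (inSoc_of_hom ι p hVY
      (X'.mkQ ∘ₗ Submodule.inclusion (le_sup_right : Y ≤ X ⊔ Y)) (fun g x => ?_) ?_)
    · rw [LinearMap.comp_apply, LinearMap.comp_apply, quotRep_mk]
      rfl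
    · intro h0
      apply hne
      intro y hy
      have e := LinearMap.congr_fun h0 ⟨y, hy⟩
      exact (Submodule.Quotient.mk_eq_zero X').1 e
  rw [h1, Multiset.count_add]
  have h4 := Multiset.one_le_count_iff_mem.2 h2
  have h5 := Multiset.one_le_count_iff_mem.2 h3
  omega

/-- **two independent, isotropic and orthogonal copies** -/
theorem count_two {P : V →ₗ[k] V →ₗ[k] k} (D : Dul σ σ P) {b : ℕ} {X Y : Submodule k V} {hX : ∀ g, ∀ x ∈ X, σ g x ∈ X}
    {hY : ∀ g, ∀ x ∈ Y, σ g x ∈ Y}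
    (hVX : IsV ι p (subRep σ X hX) b) (hVY : IsV ι p (subRep σ Y hY) b) (hne : ¬ Y ≤ X)
    (hXX : ∀ x ∈ X, ∀ y ∈ X, P x y = 0) (hXY : ∀ x ∈ X, ∀ y ∈ Y, P x y = 0) (hYX : ∀ x ∈ Y, ∀ y ∈ X, P x y = 0)
    (hYY : ∀ x ∈ Y, ∀ y ∈ Y, P x y = 0) : 4 ≤ (cf (Sy.{u, v, w} ι p) σ).count b := by
  have hW : ∀ g, ∀ x ∈ X ⊔ Y, σ g x ∈ X ⊔ Y := by
    intro g x hx
    obtain ⟨y, hy, z, hz, rfl⟩ := Submodule.mem_sup.1 hx
    rw [map_add]
    exact Submodule.add_mem_sup (hX g y hy) (hY g z hz)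
  have h1 := count_sup hVX hVY hne hW
  obtain ⟨B, D', -⟩ := D.sub hW
  have h2 := cf_dual ι p D'
  have h3 := cf_add (Sy.{u, v, w} ι p) σ (orth P (X ⊔ Y)) (D.orth_inv hW)
  have hle : X ⊔ Y ≤ orth P (X ⊔ Y) := by
    intro y hy x hx
    obtain ⟨x1, hx1, x2, hx2, rfl⟩ := Submodule.mem_sup.1 hx
    obtain ⟨y1, hy1, y2, hy2, rfl⟩ := Submodule.mem_sup.1 hy
    rw [map_add, map_add, LinearMap.add_apply, LinearMap.add_apply, hXX x1 hx1 y1 hy1, hXY x1 hx1 y2 hy2,
      hYX x2 hx2 y1 hy1, hYY x2 hx2 y2 hy2]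
    simp
  have h4 : cf (Sy.{u, v, w} ι p) (subRep σ (X ⊔ Y) hW) ≤
      cf (Sy.{u, v, w} ι p) (subRep σ (orth P (X ⊔ Y)) (D.orth_inv hW)) :=
    cf_le_of_inj (Submodule.inclusion hle) (fun _ _ => rfl) (Submodule.inclusion_injective hle)
  have h5 := Multiset.le_iff_count.1 h4 b
  rw [h3, Multiset.count_add, h2]
  omega

/-- **one isotropic copy** -/
theorem count_one {P : V →ₗ[k] V →ₗ[k] k} (D : Dul σ σ P) {b : ℕ} {X : Submodule k V} {hX : ∀ g, ∀ x ∈ X, σ g x ∈ X}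
    (hVX : IsV ι p (subRep σ X hX) b) (hXX : ∀ x ∈ X, ∀ y ∈ X, P x y = 0) : 2 ≤ (cf (Sy.{u, v, w} ι p) σ).count b := by
  obtain ⟨B, D', -⟩ := D.sub hX
  have h2 := cf_dual ι p D'
  have h3 := cf_add (Sy.{u, v, w} ι p) σ (orth P X) (D.orth_inv hX)
  have hle : X ≤ orth P X := fun y hy x hx => hXX x hx y hy
  have h4 : cf (Sy.{u, v, w} ι p) (subRep σ X hX) ≤
      cf (Sy.{u, v, w} ι p) (subRep σ (orth P X) (D.orth_inv hX)) :=
    cf_le_of_inj (Submodule.inclusion hle) (fun _ _ => rfl) (Submodule.inclusion_injective hle)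
  have h5 := Multiset.le_iff_count.1 h4 b
  have h6 : (cf (Sy.{u, v, w} ι p) (subRep σ X hX)).count b = 1 := by
    rw [cf_irr (Sy.{u, v, w} ι p) hVX, Multiset.count_singleton_self]
  rw [h3, Multiset.count_add, h2]
  omega

end Count

section Form

variable {ρ : Representation k (Matrix.SpecialLinearGroup (Fin 2) K) (I27 → k)} {i : ℕ} {x y : ℕ → I27 → k}

/-- the torus -/
theorem ts4_tf_off (H : Act ρ) (hQ : 11 ≤ Fintype.card K) (hx : TS ι p ρ 4 i x) (hy : TS ι p ρ 4 i y) {s t : ℕ}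
    (hs : s ≤ 4) (ht : t ≤ 4) (hst : s + t ≠ 4) : tf (x s) (y t) = 0 := by
  obtain ⟨lam, hlam⟩ := exists_prim (k := k) ι i p
  set α : k := ι lam ^ p ^ i with hα
  have hα0 : α ≠ 0 := pow_ne_zero _ ((map_ne_zero ι).2 lam.ne_zero)
  have h1 := H.tf (Cfsg.Agent.H943.SL2Rel.h lam) (x s) (y t)
  rw [hx.h' hs lam, hy.h' ht lam, tf_smul_left, tf_smul_right, ← hα] at h1
  have h2 : (α ^ (2 * ((s : ℤ) + t - 4)) - 1) * tf (x s) (y t) = 0 := by
    rw [sub_mul, one_mul, sub_eq_zero]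
    refine Eq.trans ?_ h1
    rw [← mul_assoc, ← zpow_add₀ hα0]
    congr 2
    push_cast
    ring
  refine (mul_eq_zero.1 h2).resolve_left (sub_ne_zero.2 ?_)
  intro h3
  have h4 : (Fintype.card K - 1 : ℕ) ∣ (2 * ((s : ℤ) + t - 4)).natAbs := by
    rw [hlam.zpow_eq_one_iff_dvd] at h3
    exact Int.natCast_dvd.1 h3
  have h5 := Nat.le_of_dvd (by omega) h4
  omega

/-- **the form on two tuples** -/
theorem ts4_orth (H : Act ρ) (hp5 : 5 ≤ p) (hQ : 11 ≤ Fintype.card K) (hx : TS ι p ρ 4 i x) (hy : TS ι p ρ 4 i y)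
    (h0 : tf (x 2) (y 2) = 0) (s t : ℕ) : tf (x s) (y t) = 0 := by
  have h2 : (2 : k) ≠ 0 := two_ne p (by omega)
  have key : ∀ {x y : ℕ → I27 → k}, TS ι p ρ 4 i x → TS ι p ρ 4 i y → tf (x 2) (y 2) = 0 →
      tf (x 1) (y 3) = 0 ∧ tf (x 0) (y 4) = 0 := by
    intro x y hx hy h0
    have e1 : tf (x 1) (y 3) = 0 := by
      have h3 : ∀ t : K, ∑ j ∈ Finset.range 6, (ι t ^ p ^ i) ^ j •
          (match j with
            | 1 => 2 * tf (x 1) (y 3) + 3 * tf (x 2) (y 2)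
            | 2 => tf (x 1) (y 4) + 6 * tf (x 2) (y 3) + 3 * tf (x 3) (y 2)
            | 3 => 3 * tf (x 2) (y 4) + 6 * tf (x 3) (y 3) + tf (x 4) (y 2)
            | 4 => 3 * tf (x 3) (y 4) + 2 * tf (x 4) (y 3)
            | 5 => tf (x 4) (y 4)
            | _ => 0 : k) = 0 := by
        intro t
        have h4 := H.tf (Cfsg.Agent.H943.SL2Rel.u t) (x 1) (y 2)
        rw [ts4_u1 hx, ts4_u2 hy] at h4
        simp only [tf_add_left, tf_add_right, tf_smul_left, tf_smul_right] at h4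
        simp only [Finset.sum_range_succ, Finset.sum_range_zero, smul_eq_mul]
        linear_combination h4
      have h4 := poly0 ι (by omega) p i h3 1 (by norm_num)
      have h5 : 2 * tf (x 1) (y 3) + 3 * tf (x 2) (y 2) = 0 := h4
      rw [h0, mul_zero, add_zero] at h5
      exact (mul_eq_zero.1 h5).resolve_left h2
    refine ⟨e1, ?_⟩
    have h3 : ∀ t : K, ∑ j ∈ Finset.range 6, (ι t ^ p ^ i) ^ j •
          (match j with
            | 1 => tf (x 0) (y 4) + 4 * tf (x 1) (y 3)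
            | 2 => 4 * tf (x 1) (y 4) + 6 * tf (x 2) (y 3)
            | 3 => 6 * tf (x 2) (y 4) + 4 * tf (x 3) (y 3)
            | 4 => 4 * tf (x 3) (y 4) + tf (x 4) (y 3)
            | 5 => tf (x 4) (y 4)
            | _ => 0 : k) = 0 := by
      intro t
      have h4 := H.tf (Cfsg.Agent.H943.SL2Rel.u t) (x 0) (y 3)
      rw [ts4_u0 hx, ts4_u3 hy] at h4
      simp only [tf_add_left, tf_add_right, tf_smul_left, tf_smul_right] at h4
      simp only [Finset.sum_range_succ, Finset.sum_range_zero, smul_eq_mul]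
      linear_combination h4
    have h4 := poly0 ι (by omega) p i h3 1 (by norm_num)
    have h5 : tf (x 0) (y 4) + 4 * tf (x 1) (y 3) = 0 := h4
    rw [e1, mul_zero, add_zero] at h5
    exact h5
  obtain ⟨e13, e04⟩ := key hx hy h0
  obtain ⟨e31, e40⟩ := key hy hx (by rw [tf_comm]; exact h0)
  by_cases hs : 4 < s
  · rw [hx.zero s hs, tf_zero_left]
  by_cases ht : 4 < t
  · rw [hy.zero t ht, tf_comm, tf_zero_left]
  by_cases hst : s + t = 4
  · have hs' : s = 0 ∨ s = 1 ∨ s = 2 ∨ s = 3 ∨ s = 4 := by omega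
    rcases hs' with rfl | rfl | rfl | rfl | rfl
    · rw [show t = 4 by omega]; exact e04
    · rw [show t = 3 by omega]; exact e13
    · rw [show t = 2 by omega]; exact h0
    · rw [show t = 1 by omega, tf_comm]; exact e31
    · rw [show t = 0 by omega, tf_comm]; exact e40
  · exact ts4_tf_off H hQ hx hy (by omega) (by omega) hst

end Form

end Cfsg.Agent.R2.F4L
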