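import Cfsg.Agent.R2.F4L.Wey
import Cfsg.Agent.R2.F4L.TupC

/-!
# Factors of nested submodules, weights (helper2, S5931)

* `cf_pair`, `cf_disj` : factors of nested submodules;
* `wt_mem` : weight vectors;
* `Sx`, `not_mem_Sx` : the weights `-8, ..., 8`.
-/

set_option autoImplicit false
set_option linter.unusedSectionVars false
set_option linter.unusedVariables false

namespace Cfsg.Agent.R2.F4L

open Cfsg.Agent.H943.SL2Rel Cfsg.Agent.H943.SL2Mod Cfsg.Agent.R2.H28.SL2 Cfsg.Agent.H943.RepAdd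

universe u v w

section Wt

variable {k : Type u} [Field k] {V : Type v} [AddCommGroup V] [Module k V]

theorem aeval_eig' {T : V →ₗ[k] V} {v : V} {μ : k} (h : T v = μ • v) (P : Polynomial k) :
    (Polynomial.aeval T P) v = P.eval μ • v := by
  induction P using Polynomial.induction_on' with
  | add p q hp hq => rw [map_add, LinearMap.add_apply, hp, hq, Polynomial.eval_add, add_smul]
  | monomial n a =>
    rw [Polynomial.aeval_monomial, Polynomial.eval_monomial]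
    have h1 : ∀ n : ℕ, (T ^ n) v = μ ^ n • v := by
      intro n
      induction n with
      | zero => rw [pow_zero, pow_zero, one_smul]; rfl
      | succ n ih => rw [pow_succ, Module.End.mul_apply, h, map_smul, ih, smul_smul, pow_succ, mul_comm]
    rw [Module.End.mul_apply, h1, map_smul, Module.algebraMap_end_apply, smul_smul, mul_comm]

/-- **weight vectors** -/
theorem wt_mem {T : V →ₗ[k] V} {G : Set V} {M : Submodule k V} {S : Finset k} {ν : k} (hν : ν ∉ S)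
    (hG : ∀ g ∈ G, (T g = ν • g ∧ g ∈ M) ∨ ∃ μ ∈ S, T g = μ • g) {v : V} (hv : v ∈ Submodule.span k G)
    (hT : T v = ν • v) : v ∈ M := by
  let P : Polynomial k := ∏ μ ∈ S, (Polynomial.X - Polynomial.C μ)
  have h1 : (Polynomial.aeval T P) v ∈ M := by
    have h2 : Submodule.span k G ≤ M.comap (Polynomial.aeval T P) := by
      rw [Submodule.span_le]
      intro g hg
      show (Polynomial.aeval T P) g ∈ M
      rcases hG g hg with ⟨h3, h4⟩ | ⟨μ, hμ, h3⟩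
      · rw [aeval_eig' h3]
        exact M.smul_mem _ h4
      · rw [aeval_eig' h3]
        have h4 : P.eval μ = 0 := by
          rw [Polynomial.eval_prod]
          refine Finset.prod_eq_zero hμ ?_
          rw [Polynomial.eval_sub, Polynomial.eval_X, Polynomial.eval_C, sub_self]
        rw [h4, zero_smul]
        exact M.zero_mem
    exact h2 hv
  rw [aeval_eig' hT] at h1
  have h5 : P.eval ν ≠ 0 := by
    rw [Polynomial.eval_prod]
    refine Finset.prod_ne_zero_iff.2 fun μ hμ => ?_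
    rw [Polynomial.eval_sub, Polynomial.eval_X, Polynomial.eval_C]
    refine sub_ne_zero.2 ?_
    rintro rfl
    exact hν hμ
  have h6 := M.smul_mem (P.eval ν)⁻¹ h1
  rwa [smul_smul, inv_mul_cancel₀ h5, one_smul] at h6

open Classical in
/-- the weights different from `n` -/
noncomputable def Sx (μ : k) (n : ℤ) : Finset k := ((Finset.Icc (-8 : ℤ) 8).erase n).image (fun m => μ ^ m)

theorem mem_Sx {μ : k} {n m : ℤ} (h1 : -8 ≤ m) (h2 : m ≤ 8) (h : m ≠ n) : μ ^ m ∈ Sx μ n := by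
  classical
  unfold Sx
  exact Finset.mem_image_of_mem _ (Finset.mem_erase.2 ⟨h, Finset.mem_Icc.2 ⟨h1, h2⟩⟩)

theorem not_mem_Sx {μ : k} {N : ℕ} (hμ : IsPrimitiveRoot μ N) (hN : 17 ≤ N) {n : ℤ} (h1 : -8 ≤ n) (h2 : n ≤ 8) :
    μ ^ n ∉ Sx μ n := by
  classical
  intro h
  unfold Sx at h
  obtain ⟨m, hm, he⟩ := Finset.mem_image.1 h
  rw [Finset.mem_erase, Finset.mem_Icc] at hm
  have h0 : μ ≠ 0 := hμ.ne_zero (by omega)
  have h3 : μ ^ (m - n) = 1 := by
    rw [zpow_sub₀ h0, he, div_self (zpow_ne_zero _ h0)]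
  have h4 := (hμ.zpow_eq_one_iff_dvd _).1 h3
  obtain ⟨c, hc⟩ := h4
  have h5 : c = 0 := by
    by_contra h5
    have h6 : (1 : ℤ) ≤ |c| := Int.one_le_abs h5
    have h7 : |m - n| = N * |c| := by rw [hc, abs_mul, Nat.abs_cast]
    have h8 : (N : ℤ) ≤ |m - n| := by
      rw [h7]
      nlinarith
    have h9 : |m - n| ≤ 16 := by
      rw [abs_le]
      constructor <;> omega
    omega
  rw [h5, mul_zero] at hc
  exact hm.1 (by omega)

end Wt

section Cf

variable {k : Type u} [Field k] [DecidableEq k] {K : Type w} [Field K] [Fintype K] [DecidableEq K] {ι : K →+* k}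
variable {p : ℕ} [Fact p.Prime] [CharP k p] [CharP K p] {a : ℕ}
variable [IsAlgClosed k]
variable {V : Type v} [AddCommGroup V] [Module k V] [FiniteDimensional k V]
  {σ : Representation k (Matrix.SpecialLinearGroup (Fin 2) K) V}

theorem cf_pair {W I : Submodule k V} (hW : ∀ g, ∀ x ∈ W, σ g x ∈ W) (hI : ∀ g, ∀ x ∈ I, σ g x ∈ I) (hle : W ≤ I) :
    ∃ n : Multiset ℕ, cf (Sy.{u, v, w} ι p) (subRep σ I hI) = cf (Sy.{u, v, w} ι p) (subRep σ W hW) + n ∧
      (n = 0 → I ≤ W) := by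
  let W' : Submodule k I := W.comap I.subtype
  have hW' : ∀ g, ∀ x ∈ W', subRep σ I hI g x ∈ W' := fun g x hx => hW g _ hx
  have h1 : cf (Sy.{u, v, w} ι p) (subRep (subRep σ I hI) W' hW') = cf (Sy.{u, v, w} ι p) (subRep σ W hW) :=
    cf_iso _ ⟨Submodule.comapSubtypeEquivOfLe hle, fun g x => rfl⟩
  refine ⟨cf (Sy.{u, v, w} ι p) (quotRep (subRep σ I hI) W' hW'), ?_, fun h x hx => ?_⟩
  · rw [cf_add _ (subRep σ I hI) W' hW', h1]
  · have h2 := cf_eq_zero _ h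
    have h3 : W' = ⊤ := Submodule.Quotient.subsingleton_iff.1 h2
    have h4 : (⟨x, hx⟩ : I) ∈ W' := by
      rw [h3]
      trivial
    exact h4

theorem cf_disj0 {R W : Submodule k V} (hR : ∀ g, ∀ x ∈ R, σ g x ∈ R) (hW : ∀ g, ∀ x ∈ W, σ g x ∈ W) (hd : R ⊓ W = ⊥)
    (hS : ∀ g, ∀ x ∈ R ⊔ W, σ g x ∈ R ⊔ W) : cf (Sy.{u, v, w} ι p) (subRep σ (R ⊔ W) hS) =
      cf (Sy.{u, v, w} ι p) (subRep σ R hR) + cf (Sy.{u, v, w} ι p) (subRep σ W hW) := by
  set τ := subRep σ (R ⊔ W) hS with hτ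
  let W' : Submodule k (R ⊔ W : Submodule k V) := W.comap (R ⊔ W : Submodule k V).subtype
  have hW' : ∀ g, ∀ x ∈ W', τ g x ∈ W' := fun g x hx => hW g _ hx
  have h1 : cf (Sy.{u, v, w} ι p) (subRep τ W' hW') = cf (Sy.{u, v, w} ι p) (subRep σ W hW) :=
    cf_iso _ ⟨Submodule.comapSubtypeEquivOfLe le_sup_right, fun g x => rfl⟩
  let f : R →ₗ[k] (R ⊔ W : Submodule k V) ⧸ W' := W'.mkQ ∘ₗ Submodule.inclusion le_sup_left
  have hf : ∀ g x, f (subRep σ R hR g x) = quotRep τ W' hW' g (f x) := fun g x => by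
    rw [LinearMap.comp_apply, LinearMap.comp_apply, quotRep_mk]
    rfl
  have hfi : Function.Injective f := by
    rw [← LinearMap.ker_eq_bot, eq_bot_iff]
    intro x hx
    have h2 : (x : V) ∈ R ⊓ W := ⟨x.2, (Submodule.Quotient.mk_eq_zero W').1 hx⟩
    rw [hd, Submodule.mem_bot] at h2
    exact (Submodule.mem_bot k).2 (Subtype.ext h2)
  have hfs : Function.Surjective f := by
    intro z
    obtain ⟨⟨z, hz⟩, rfl⟩ := W'.mkQ_surjective z
    obtain ⟨r, hr, w', hw', rfl⟩ := Submodule.mem_sup.1 hz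
    refine ⟨⟨r, hr⟩, ?_⟩
    show W'.mkQ _ = W'.mkQ _
    rw [Submodule.mkQ_apply, Submodule.mkQ_apply, Submodule.Quotient.eq]
    show (r : V) - (r + w') ∈ W
    rw [sub_add_cancel_left]
    exact W.neg_mem hw'
  have h2 : cf (Sy.{u, v, w} ι p) (subRep σ R hR) = cf (Sy.{u, v, w} ι p) (quotRep τ W' hW') :=
    cf_iso _ ⟨LinearEquiv.ofBijective f ⟨hfi, hfs⟩, hf⟩
  rw [cf_add _ τ W' hW', h1, ← h2, add_comm]

theorem sup_st {R W : Submodule k V} (hR : ∀ g, ∀ x ∈ R, σ g x ∈ R) (hW : ∀ g, ∀ x ∈ W, σ g x ∈ W) :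
    ∀ g, ∀ x ∈ R ⊔ W, σ g x ∈ R ⊔ W := by
  intro g x hx
  obtain ⟨y, hy, z, hz, rfl⟩ := Submodule.mem_sup.1 hx
  rw [map_add]
  exact Submodule.add_mem_sup (hR g y hy) (hW g z hz)

theorem inf_st {R W : Submodule k V} (hR : ∀ g, ∀ x ∈ R, σ g x ∈ R) (hW : ∀ g, ∀ x ∈ W, σ g x ∈ W) :
    ∀ g, ∀ x ∈ R ⊓ W, σ g x ∈ R ⊓ W := fun g x hx => ⟨hR g x hx.1, hW g x hx.2⟩

theorem cf_disj {R W I : Submodule k V} (hR : ∀ g, ∀ x ∈ R, σ g x ∈ R) (hW : ∀ g, ∀ x ∈ W, σ g x ∈ W)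
    (hI : ∀ g, ∀ x ∈ I, σ g x ∈ I) (hd : R ⊓ W = ⊥) (hRI : R ≤ I) (hWI : W ≤ I) :
    ∃ n : Multiset ℕ, cf (Sy.{u, v, w} ι p) (subRep σ I hI) =
      cf (Sy.{u, v, w} ι p) (subRep σ R hR) + cf (Sy.{u, v, w} ι p) (subRep σ W hW) + n ∧ (n = 0 → I ≤ R ⊔ W) := by
  have hS := sup_st hR hW
  obtain ⟨n, h1, h2⟩ := cf_pair (ι := ι) (p := p) hS hI (sup_le hRI hWI)
  exact ⟨n, by rw [h1, cf_disj0 hR hW hd hS], h2⟩

/-- nonzero submodules -/
theorem cf_ne_zero {R : Submodule k V} (hR : ∀ g, ∀ x ∈ R, σ g x ∈ R) (h : R ≠ ⊥) :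
    cf (Sy.{u, v, w} ι p) (subRep σ R hR) ≠ 0 := by
  intro h0
  have h1 := cf_eq_zero _ h0
  apply h
  rw [eq_bot_iff]
  intro x hx
  have h2 : (⟨x, hx⟩ : R) = 0 := Subsingleton.elim _ _
  exact (Submodule.mem_bot k).2 (congrArg Subtype.val h2)

end Cf

end Cfsg.Agent.R2.F4L
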