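import Cfsg.Agent.R2.H28.SL2.Bas
import Cfsg.Agent.R2.H28.SL2.SPres

/-!
# Tuples: equivariant maps from the modules `V_{n p ^ i}` in coordinates (helper2, S5931)

* `hw_mem_cf` : the weights of the vectors fixed by the upper unitriangular group are labels of composition factors;
* `poly0` : polynomial identities over a finite subfield;
* `TS ρ n i x` : `x : ℕ → V` transforms like the basis of `V_{n p ^ i}` (possibly `x = 0`).
-/

set_option autoImplicit false
set_option linter.unusedSectionVars false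

namespace Cfsg.Agent.R2.F4L

open Matrix Cfsg.Agent.H943.SL2Rel Cfsg.Agent.H943.SL2Mod Cfsg.Agent.H943.RepAdd Cfsg.Agent.R2.H28.SL2

universe u v w

section Gen

variable {k : Type u} [Field k] [DecidableEq k] {K : Type w} [Field K] [Fintype K] [DecidableEq K] (ι : K →+* k)

/-- polynomial identities -/
theorem poly0 {V : Type*} [AddCommGroup V] [Module k V] {N : ℕ} (hN : N ≤ Fintype.card K) (p : ℕ) [Fact p.Prime]
    [CharP k p] [CharP K p] (i : ℕ) {a : ℕ → V}
    (h0 : ∀ t : K, ∑ j ∈ Finset.range N, (ι t ^ p ^ i) ^ j • a j = 0) : ∀ j < N, a j = 0 := by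
  classical
  -- the values are the values of a polynomial at all the elements of `ι K`
  have h1 : ∀ s : K, ∑ j ∈ Finset.range N, ι s ^ j • a j = 0 := by
    intro s
    obtain ⟨t, ht⟩ : ∃ t : K, t ^ p ^ i = s := by
      have hinj : Function.Injective (fun t : K => t ^ p ^ i) := by
        have : (fun t : K => t ^ p ^ i) = iterateFrobenius K p i := by
          funext t
          rw [iterateFrobenius_def]
        rw [this]
        exact (iterateFrobenius K p i).injective
      exact (Finite.injective_iff_surjective.1 hinj) s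
    rw [← h0 t]
    refine Finset.sum_congr rfl fun j _ => ?_
    rw [← ht, map_pow]
  intro j hj
  -- interpolation with the sums over `K^*`
  have hcard : 1 < Fintype.card K := Fintype.one_lt_card
  by_cases hj0 : j = 0
  · subst hj0
    have h2 := h1 0
    rw [Finset.sum_eq_single 0 (fun m _ hm => by rw [map_zero, zero_pow hm, zero_smul]) (fun h => absurd (Finset.mem_range.2 hj) h),
      pow_zero, one_smul] at h2
    exact h2
  · have h2 : ∑ s : K, ι s ^ (Fintype.card K - 1 - j) • ∑ m ∈ Finset.range N, ι s ^ m • a m = 0 := by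
      refine Finset.sum_eq_zero fun s _ => ?_
      rw [h1, smul_zero]
    have h3 : ∑ m ∈ Finset.range N, (∑ s : K, ι s ^ (Fintype.card K - 1 - j + m)) • a m = 0 := by
      rw [← h2]
      simp only [Finset.smul_sum, Finset.sum_smul]
      rw [Finset.sum_comm]
      refine Finset.sum_congr rfl fun m _ => Finset.sum_congr rfl fun s _ => ?_
      rw [smul_smul, pow_add]
    rw [Finset.sum_eq_single j] at h3
    · rw [psum ι (by omega), if_pos (by omega), neg_smul, one_smul, neg_eq_zero] at h3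
      exact h3
    · intro m hm hmj
      rw [Finset.mem_range] at hm
      rw [psum ι (by omega), if_neg (by omega), zero_smul]
    · intro h
      exact absurd (Finset.mem_range.2 hj) h

end Gen

section HW

variable {k : Type u} [Field k] [DecidableEq k] {K : Type w} [Field K] [Fintype K] [DecidableEq K] (ι : K →+* k)
variable (p : ℕ) [Fact p.Prime] [CharP k p] [CharP K p] [IsAlgClosed k]

theorem hw_mem_JHn {c : ℕ} (n : ℕ) : ∀ {V : Type v} [AddCommGroup V] [Module k V]
    {ρ : Representation k (SpecialLinearGroup (Fin 2) K) V} {s : Multiset ℕ}, JHn (Sy.{u, v, w} ι p) n ρ s →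
    ∀ y : V, y ≠ 0 → (∀ t, ρ (u t) y = y) → (∀ a : Kˣ, ρ (Cfsg.Agent.H943.SL2Rel.h a) y = ι a ^ c • y) →
    ∃ b ∈ s, ∀ a : Kˣ, ι a ^ b = ι a ^ c := by
  induction n with
  | zero =>
    intro V _ _ ρ s h y hy _ _
    have := h.1
    exact absurd (Subsingleton.elim y 0) hy
  | succ n ih =>
    intro V _ _ ρ s h y hy hu hh
    obtain ⟨W, hW, b, t, hb, rfl, ht⟩ := h
    by_cases hyW : y ∈ W
    · obtain ⟨m, hm0, -, hmh, -, huniq⟩ := IsV.hw ι p hb
      obtain ⟨c', hc'⟩ := huniq ⟨y, hyW⟩ (fun t => Subtype.ext (hu t))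
      refine ⟨b, Multiset.mem_cons_self _ _, fun a => ?_⟩
      have h1 : c' ≠ 0 := by
        rintro rfl
        rw [zero_smul] at hc'
        exact hy (congrArg Subtype.val hc')
      have h2 : (subRep ρ W hW) (Cfsg.Agent.H943.SL2Rel.h a) (⟨y, hyW⟩ : W) = ι a ^ c • (⟨y, hyW⟩ : W) :=
        Subtype.ext (hh a)
      rw [hc', map_smul, hmh, smul_comm (ι (a : K) ^ c) c'] at h2
      have h3 : (ι (a : K) ^ b - ι (a : K) ^ c) • m = 0 := by
        rw [sub_smul]
        have h4 : c' • (ι (a : K) ^ b • m - ι (a : K) ^ c • m) = 0 := by rw [smul_sub, h2, sub_self]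
        exact (smul_eq_zero.1 h4).resolve_left h1
      exact sub_eq_zero.1 ((smul_eq_zero.1 h3).resolve_right hm0)
    · obtain ⟨b', hb', h1⟩ := ih ht (W.mkQ y) (fun h0 => hyW ((Submodule.Quotient.mk_eq_zero W).1 h0))
        (fun t => by rw [quotRep_mk, hu]) (fun a => by rw [quotRep_mk, hh, map_smul])
      exact ⟨b', Multiset.mem_cons_of_mem hb', h1⟩

/-- **highest weight vectors** -/
theorem hw_mem_cf {V : Type v} [AddCommGroup V] [Module k V] [FiniteDimensional k V]
    {ρ : Representation k (SpecialLinearGroup (Fin 2) K) V} {y : V} (hy : y ≠ 0) {c : ℕ} (hu : ∀ t, ρ (u t) y = y)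
    (hh : ∀ a : Kˣ, ρ (Cfsg.Agent.H943.SL2Rel.h a) y = ι a ^ c • y) :
    ∃ b ∈ cf (Sy.{u, v, w} ι p) ρ, ∀ a : Kˣ, ι a ^ b = ι a ^ c := by
  obtain ⟨n, hn⟩ := cf_spec (Sy.{u, v, w} ι p) ρ
  exact hw_mem_JHn ι p n hn y hy hu hh

end HW

variable {k : Type u} [Field k] [DecidableEq k] {K : Type w} [Field K] [Fintype K] [DecidableEq K] (ι : K →+* k)
variable (p : ℕ) [Fact p.Prime] [CharP k p] [CharP K p]

/-- labels modulo `q - 1` -/
theorem label_eq {b c : ℕ} (hb : b < Fintype.card K) (hc : c < Fintype.card K) (hc0 : c ≠ 0) (hc1 : c ≠ Fintype.card K - 1)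
    (h : ∀ a : Kˣ, ι a ^ b = ι a ^ c) : b = c := by
  obtain ⟨lam, hlam⟩ := IsCyclic.exists_generator (α := Kˣ)
  have hprim := primitive ι ι.injective hlam
  have h1 := h lam
  by_cases hb' : b = Fintype.card K - 1
  · rw [hb', hprim.pow_eq_one] at h1
    exact absurd (hprim.pow_inj (i := 0) (j := c) (by omega) (by omega) (by rw [pow_zero]; exact h1)) (Ne.symm hc0)
  · exact hprim.pow_inj (by omega) (by omega) h1

variable {V : Type*} [AddCommGroup V] [Module k V]

/-- an equivariant map `V_{n p ^ i} → V` in coordinates -/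
structure TS (ρ : Representation k (SpecialLinearGroup (Fin 2) K) V) (n i : ℕ) (x : ℕ → V) : Prop where
  zero : ∀ s, n < s → x s = 0
  u : ∀ s ≤ n, ∀ t, ρ (u t) (x s) =
    ∑ j ∈ Finset.range (n - s + 1), (((n - s).choose j : k) * (ι t ^ p ^ i) ^ j) • x (s + j)
  h : ∀ s ≤ n, ∀ a : Kˣ, ρ (h a) (x s) = ((ι a ^ p ^ i) ^ s * ((ι a ^ p ^ i)⁻¹) ^ (n - s)) • x s
  w : ∀ s ≤ n, ρ w (x s) = (-1 : k) ^ s • x (n - s)

variable {ι p} {ρ : Representation k (SpecialLinearGroup (Fin 2) K) V} {n i : ℕ} {x y : ℕ → V}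

theorem TS.add (hx : TS ι p ρ n i x) (hy : TS ι p ρ n i y) : TS ι p ρ n i (x + y) where
  zero := fun s hs => by rw [Pi.add_apply, hx.zero s hs, hy.zero s hs, add_zero]
  u := fun s hs t => by
    rw [Pi.add_apply, map_add, hx.u s hs, hy.u s hs, ← Finset.sum_add_distrib]
    exact Finset.sum_congr rfl fun j _ => by rw [Pi.add_apply, smul_add]
  h := fun s hs a => by rw [Pi.add_apply, map_add, hx.h s hs, hy.h s hs, smul_add]
  w := fun s hs => by rw [Pi.add_apply, map_add, hx.w s hs, hy.w s hs, Pi.add_apply, smul_add]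

theorem TS.smul (c : k) (hx : TS ι p ρ n i x) : TS ι p ρ n i (c • x) where
  zero := fun s hs => by rw [Pi.smul_apply, hx.zero s hs, smul_zero]
  u := fun s hs t => by
    rw [Pi.smul_apply, map_smul, hx.u s hs, Finset.smul_sum]
    exact Finset.sum_congr rfl fun j _ => by rw [Pi.smul_apply, smul_comm]
  h := fun s hs a => by rw [Pi.smul_apply, map_smul, hx.h s hs, smul_comm]
  w := fun s hs => by rw [Pi.smul_apply, map_smul, hx.w s hs, Pi.smul_apply, smul_comm]

theorem TS.zero' : TS ι p ρ n i (0 : ℕ → V) where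
  zero := fun _ _ => rfl
  u := fun s _ t => by simp
  h := fun s _ a => by simp
  w := fun s _ => by simp

/-- the tuple of a submodule -/
theorem BasS.ts {W : Submodule k V} {hW : ∀ g, ∀ x ∈ W, ρ g x ∈ W} {v : ℕ → W} (hv : BasS ι p (subRep ρ W hW) n i v) :
    TS ι p ρ n i (fun s => (v s : V)) where
  zero := fun s hs => by rw [hv.zero s hs]; rfl
  u := fun s hs t => by
    have := congrArg Subtype.val (hv.u s hs t)
    rw [Submodule.coe_sum] at this
    exact this
  h := fun s hs a => congrArg Subtype.val (hv.h s hs a)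
  w := fun s hs => congrArg Subtype.val (hv.w s hs)

/-- the last vector is fixed -/
theorem TS.u_top (hx : TS ι p ρ n i x) (t : K) : ρ (Cfsg.Agent.H943.SL2Rel.u t) (x n) = x n := by
  rw [hx.u n le_rfl t, Nat.sub_self, Finset.sum_range_one, Nat.choose_zero_right, Nat.cast_one, pow_zero, mul_one,
    one_smul, add_zero]

/-- the first vector generates -/
theorem TS.u_bot (hx : TS ι p ρ n i x) (t : K) : ρ (Cfsg.Agent.H943.SL2Rel.u t) (x 0) =
    ∑ j ∈ Finset.range (n + 1), ((n.choose j : k) * (ι t ^ p ^ i) ^ j) • x j := by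
  rw [hx.u 0 (Nat.zero_le _) t, Nat.sub_zero]
  simp only [zero_add]

/-- `sl_2` weights of a product -/
theorem pow_wt {α : k} (hα : α ≠ 0) {s n : ℕ} (hs : s ≤ n) : α ^ s * α⁻¹ ^ (n - s) = α ^ (2 * (s : ℤ) - n) := by
  rw [inv_pow, ← zpow_natCast, ← zpow_natCast, ← _root_.zpow_neg, ← zpow_add₀ hα]
  congr 1
  push_cast [Nat.cast_sub hs]
  ring

theorem TS.h' (hx : TS ι p ρ n i x) {s : ℕ} (hs : s ≤ n) (a : Kˣ) :
    ρ (Cfsg.Agent.H943.SL2Rel.h a) (x s) = ((ι a ^ p ^ i) ^ (2 * (s : ℤ) - n)) • x s := by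
  rw [hx.h s hs a, pow_wt _ hs]
  exact pow_ne_zero _ ((map_ne_zero ι).2 a.ne_zero)

end Cfsg.Agent.R2.F4L
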