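import Cfsg.Agent.R2.F4L.M
import Cfsg.Agent.R2.F4L.Tup

/-!
# Actions preserving the Albert algebra (helper2, S5931)

`Act ρ` : `ρ` preserves `#` and `1`; then also `×`, `N`, `tr`, `T`.
`trilinear weights` : `Act.wt`; `Act.fix` : invariants from generators.
-/

set_option autoImplicit false
set_option linter.unusedSectionVars false

namespace Cfsg.Agent.R2.F4L

open Cfsg.Lie
open Cfsg.Agent.ChevalleyStructure.E6Min.Tables Cfsg.Agent.ChevalleyStructure.E6Min.Basic
open Cfsg.Agent.H952.F4 (sh cr tf tr1 u0)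
open Cfsg.Agent.H952.F4.Jord

universe u v w

variable {k : Type u} [Field k]

/-- the action preserves `#` and `1` -/
structure Act {A : Type*} [Group A] (ρ : Representation k A (I27 → k)) : Prop where
  sh : ∀ a x, ρ a (sh x) = sh (ρ a x)
  u0 : ∀ a, ρ a (u0 k) = u0 k

section

variable {A : Type*} [Group A] {ρ : Representation k A (I27 → k)}

theorem cr_eq (x y : I27 → k) : cr x y = sh (x + y) - sh x - sh y := by
  rw [sh_add]
  abel

theorem Act.cr (H : Act ρ) (a : A) (x y : I27 → k) : ρ a (cr x y) = cr (ρ a x) (ρ a y) := by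
  rw [cr_eq, cr_eq, map_sub, map_sub, H.sh, H.sh, H.sh, map_add]

theorem Act.tr (H : Act ρ) (a : A) (x : I27 → k) : tr1 (ρ a x) = tr1 x := by
  have h1 := congrArg (ρ a) (cr_u0 x)
  rw [H.cr, H.u0, cr_u0, map_sub, map_smul, H.u0] at h1
  have h2 : (tr1 (ρ a x) - tr1 x) • (H952.F4.u0 k) = 0 := by
    rw [sub_smul, sub_eq_zero]
    exact sub_left_injective h1
  exact sub_eq_zero.1 ((smul_eq_zero.1 h2).resolve_right u0_ne)

theorem rho_ne (ρ : Representation k A (I27 → k)) (a : A) {x : I27 → k} (hx : x ≠ 0) : ρ a x ≠ 0 := by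
  intro h
  apply hx
  have h1 : ρ a⁻¹ (ρ a x) = x := by
    rw [← Module.End.mul_apply, ← map_mul, inv_mul_cancel, map_one, Module.End.one_apply]
  rw [← h1, h, map_zero]

theorem Act.N (H : Act ρ) (a : A) (x : I27 → k) : cubicT (ρ a x) = cubicT x := by
  by_cases hx : x = 0
  · rw [hx, map_zero]
  · have h1 := congrArg (ρ a) (sh_sh x)
    rw [H.sh, H.sh, sh_sh, map_smul] at h1
    have h2 : (cubicT (ρ a x) - cubicT x) • ρ a x = 0 := by
      rw [sub_smul, h1, sub_self]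
    exact sub_eq_zero.1 ((smul_eq_zero.1 h2).resolve_right (rho_ne ρ a hx))

theorem Act.tf (H : Act ρ) (a : A) (x y : I27 → k) : tf (ρ a x) (ρ a y) = tf x y := by
  have h1 := tr1_cr x y
  have h2 := tr1_cr (ρ a x) (ρ a y)
  rw [← H.cr, H.tr, H.tr, H.tr] at h2
  linear_combination h2 - h1

theorem Act.tf3 (H : Act ρ) (a : A) (x y z : I27 → k) :
    H952.F4.tf (H952.F4.cr (ρ a x) (ρ a y)) (ρ a z) = H952.F4.tf (H952.F4.cr x y) z := by
  rw [← H.cr, H.tf]

/-- trilinear weights -/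
theorem Act.wt3 (H : Act ρ) {a : A} {x y z : I27 → k} {α β γ : k} (hx : ρ a x = α • x) (hy : ρ a y = β • y)
    (hz : ρ a z = γ • z) (h : α * β * γ ≠ 1) : H952.F4.tf (H952.F4.cr x y) z = 0 := by
  have h1 := H.tf3 a x y z
  rw [hx, hy, hz, cr_smul_left, cr_smul_right, tf_smul_left, tf_smul_left, tf_smul_right] at h1
  have h2 : (α * β * γ - 1) * H952.F4.tf (H952.F4.cr x y) z = 0 := by linear_combination h1
  exact (mul_eq_zero.1 h2).resolve_left (sub_ne_zero.2 h)

theorem Act.wtN (H : Act ρ) {a : A} {x : I27 → k} {α : k} (hx : ρ a x = α • x) (h : α ^ 3 ≠ 1) : cubicT x = 0 := by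
  have h1 := H.N a x
  rw [hx, N_smul] at h1
  have h2 : (α ^ 3 - 1) * cubicT x = 0 := by linear_combination h1
  exact (mul_eq_zero.1 h2).resolve_left (sub_ne_zero.2 h)

theorem Act.wts (H : Act ρ) {a : A} {x y : I27 → k} {α β : k} (hx : ρ a x = α • x) (hy : ρ a y = β • y)
    (h : α ^ 2 * β ≠ 1) : H952.F4.tf (H952.F4.sh x) y = 0 := by
  have h1 := H.tf a (H952.F4.sh x) y
  rw [H.sh, hx, hy, sh_smul, tf_smul_left, tf_smul_right] at h1
  have h2 : (α ^ 2 * β - 1) * H952.F4.tf (H952.F4.sh x) y = 0 := by linear_combination h1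
  exact (mul_eq_zero.1 h2).resolve_left (sub_ne_zero.2 h)

theorem tf3_symm (x y z : I27 → k) : H952.F4.tf (H952.F4.cr x y) z = H952.F4.tf (H952.F4.cr y z) x := by
  rw [tf_cr, tf_comm]

/-- the norm of a combination of three vectors -/
theorem N_lin3 (a b c : k) (x y z : I27 → k) : cubicT (a • x + b • y + c • z) =
    a ^ 3 * cubicT x + b ^ 3 * cubicT y + c ^ 3 * cubicT z +
    a ^ 2 * b * H952.F4.tf (H952.F4.sh x) y + a ^ 2 * c * H952.F4.tf (H952.F4.sh x) z +
    a * b ^ 2 * H952.F4.tf (H952.F4.sh y) x + b ^ 2 * c * H952.F4.tf (H952.F4.sh y) z +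
    a * c ^ 2 * H952.F4.tf (H952.F4.sh z) x + b * c ^ 2 * H952.F4.tf (H952.F4.sh z) y +
    a * b * c * H952.F4.tf (H952.F4.cr x y) z := by
  rw [N_add, N_add, N_smul, N_smul, N_smul, sh_add, sh_smul, sh_smul, sh_smul, cr_smul_left, cr_smul_right]
  simp only [tf_add_left, tf_smul_left, tf_smul_right]
  rw [tf_comm x (H952.F4.sh y), tf_comm x (H952.F4.sh z), tf_comm y (H952.F4.sh z)]
  ring

theorem tf_zero_left (y : I27 → k) : H952.F4.tf 0 y = 0 := by
  have := tf_smul_left (0 : k) 0 y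
  rwa [zero_smul, zero_mul] at this

theorem tr1_zero : tr1 (0 : I27 → k) = 0 := by
  have := tr1_smul (0 : k) (0 : I27 → k)
  rwa [zero_smul, zero_mul] at this

end

/-! ## `SL(2, K)` -/

open Cfsg.Agent.H943.SL2Rel Cfsg.Agent.R2.H28.SL2

variable {K : Type w} [Field K] [Fintype K] [DecidableEq K] {ι : K →+* k}
variable {p : ℕ} [Fact p.Prime] [CharP k p] [CharP K p]

/-- invariants -/
theorem fix_of {V : Type*} [AddCommGroup V] [Module k V] {ρ : Representation k (Matrix.SpecialLinearGroup (Fin 2) K) V} {y : V}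
    (hu : ∀ t, ρ (u t) y = y) (hh : ∀ a, ρ (h a) y = y) (hw : ρ w y = y) (g : Matrix.SpecialLinearGroup (Fin 2) K) : ρ g y = y := by
  refine induct (P := fun g => ρ g y = y) hu hh hw (fun a b ha hb => ?_) g
  rw [map_mul, Module.End.mul_apply, hb, ha]

theorem two_ne (p : ℕ) [Fact p.Prime] [CharP k p] (hp2 : p ≠ 2) : (2 : k) ≠ 0 := by
  intro h
  have h1 : ((2 : ℕ) : k) = 0 := by exact_mod_cast h
  rw [CharP.cast_eq_zero_iff k p] at h1
  have hp : p.Prime := Fact.out
  exact hp2 ((Nat.prime_dvd_prime_iff_eq hp Nat.prime_two).1 h1)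

theorem exists_prim (ι : K →+* k) (i : ℕ) (p : ℕ) [Fact p.Prime] [CharP K p] :
    ∃ lam : Kˣ, IsPrimitiveRoot (ι lam ^ p ^ i) (Fintype.card K - 1) := by
  classical
  obtain ⟨lam, hlam⟩ := IsCyclic.exists_generator (α := Kˣ)
  have hprim := Cfsg.Agent.H943.SL2Mod.primitive ι ι.injective hlam
  refine ⟨lam, hprim.pow_of_coprime _ ?_⟩
  obtain ⟨n, hp, hn⟩ := FiniteField.card K p
  apply Nat.Coprime.pow_left
  rw [Nat.Prime.coprime_iff_not_dvd hp]
  intro h
  have h1 : p ∣ Fintype.card K := by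
    rw [hn]
    exact dvd_pow_self p n.ne_zero
  have h2 : 1 ≤ Fintype.card K := Fintype.card_pos
  have h3 := Nat.dvd_sub h1 h
  rw [Nat.sub_sub_self h2] at h3
  exact hp.one_lt.ne' (Nat.dvd_one.1 h3)

end Cfsg.Agent.R2.F4L
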