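import Cfsg.Agent.R2.H1.A7.Dat
import Cfsg.Agent.R2.H1.A7.Base
import Cfsg.Agent.R2.H1.F4.AlphaG
import Cfsg.Agent.R2.F4T.SdX
import Cfsg.Agent.R2.F4L.Cfs

/-!
# Module theory of the case `T(8) + 4 + 6` (helper2, S5931)

`exists_dat` : the strings `x`, `m`, `v` and the structure `H1.A7.Dat` from the submodules of the table.
-/

set_option autoImplicit false
set_option linter.unusedSectionVars false

namespace Cfsg.Agent.R2.F4L.A7

open Cfsg Cfsg.Lie Module Cfsg.Agent.H952.F4 Cfsg.Agent.H952.F4.Jord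
open Cfsg.Agent.ChevalleyStructure.E6Min.Tables Cfsg.Agent.ChevalleyStructure.E6Min.Basic
open Cfsg.Agent.R2.F4N (Str)
open Cfsg.Agent.R2.F4L (Act Cx Em)
open Cfsg.Agent.R2.H1.F4 Cfsg.Agent.R2.H1.A7
open Cfsg.Agent.H943.RepAdd Cfsg.Agent.R2.H28.SL2 Cfsg.Agent.R2.F4T
open Finset

universe u v w

section str

variable {k : Type u} [Field k] {K : Type w} [Field K] [Fintype K] {κ : K →+* k}
variable {ρ : Representation k (Matrix.SpecialLinearGroup (Fin 2) K) (I27 → k)}
variable {p : ℕ} [Fact p.Prime] [CharP k p] (hpK : p ≤ Fintype.card K)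

include hpK

theorem str_top_zero {n : ℕ} {x : ℕ → (I27 → k)} (hx : Str κ ρ n x) (hn : n < p) (h : x n = 0) : ∀ a ≤ n, x a = 0 := by
  intro a ha
  have h1 := str_all_mem hpK hx hn (S := ⊥) (fun g v hv => by
    rw [Submodule.mem_bot] at hv ⊢
    rw [hv, map_zero]) ((Submodule.mem_bot k).2 h) a ha
  exact (Submodule.mem_bot k).1 h1

theorem str_zero {n : ℕ} {x : ℕ → (I27 → k)} (hx : Str κ ρ n x) (hn : n < p) (h : x 0 = 0) : ∀ a ≤ n, x a = 0 := by
  refine str_top_zero hpK hx hn ?_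
  have h1 := hx.w 0 (Nat.zero_le n)
  rw [h, map_zero, pow_zero, one_smul, Nat.sub_zero] at h1
  exact h1.symm

/-- the fixed vectors of the unipotent group in the span of a string -/
theorem fix_top {n : ℕ} {x : ℕ → (I27 → k)} (hx : Str κ ρ n x) (hn : n < p) (hn0 : 1 ≤ n) (h0 : x 0 ≠ 0) {c : ℕ → k}
    (h : ∀ t, ρ (Cfsg.Agent.H943.SL2Rel.u t) (∑ b ∈ range (n + 1), c b • x b) = ∑ b ∈ range (n + 1), c b • x b) :
    ∀ b < n, c b = 0 := by
  have h1 := coef_mem κ (S := (⊥ : Submodule k (I27 → k))) (d := n + 1) (by omega)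
    (c := fun j => (∑ b ∈ range (n + 1), (c b * ((n - b).choose j : k)) • x (b + j)) -
      if j = 0 then ∑ b ∈ range (n + 1), c b • x b else 0) (fun t => by
    have h2 := h t
    rw [Submodule.mem_bot]
    have h3 : ∑ j ∈ range (n + 1), κ t ^ j • ∑ b ∈ range (n + 1), (c b * ((n - b).choose j : k)) • x (b + j) =
        ρ (Cfsg.Agent.H943.SL2Rel.u t) (∑ b ∈ range (n + 1), c b • x b) := by
      rw [map_sum]
      simp only [smul_sum]
      rw [sum_comm]
      refine sum_congr rfl fun b hb => ?_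
      rw [mem_range] at hb
      rw [map_smul, hx.u' (d := n + 1) (by omega) (by omega), smul_sum]
      refine sum_congr rfl fun j _ => ?_
      rw [smul_smul, smul_smul]
      congr 1
      ring
    simp only [smul_sub, sum_sub_distrib]
    rw [h3, h2, sub_eq_zero]
    symm
    rw [sum_eq_single 0]
    · rw [pow_zero, one_smul, if_pos rfl]
    · intro j _ hj
      rw [if_neg hj, smul_zero]
    · intro h
      exact absurd (mem_range.2 (by omega)) h) 1 (by omega)
  rw [Submodule.mem_bot] at h1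
  simp only [one_ne_zero, if_false, sub_zero] at h1
  have h4 : ∑ a ∈ range (n + 1), (if a = 0 then 0 else c (a - 1) * ((n - (a - 1)).choose 1 : k)) • x a = 0 := by
    rw [sum_range_succ']
    rw [sum_range_succ] at h1
    rw [Nat.sub_self, Nat.choose_zero_succ, Nat.cast_zero, mul_zero, zero_smul, add_zero] at h1
    rw [if_pos rfl, zero_smul, add_zero, ← h1]
    refine sum_congr rfl fun a _ => ?_
    rw [if_neg (Nat.succ_ne_zero a), Nat.add_sub_cancel]
  intro b hb
  have h5 := str_li hx (by omega) h0 h4 (b + 1) hb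
  rw [if_neg (Nat.succ_ne_zero b), Nat.add_sub_cancel] at h5
  exact (mul_eq_zero.1 h5).resolve_right (R2.F4N.choose_ne (p := p) (by omega) (by omega))

/-- strings in the span of a string -/
theorem str_uniq {n : ℕ} {x s : ℕ → (I27 → k)} (hx : Str κ ρ n x) (hs : Str κ ρ n s) (hn : n < p) (hn0 : 1 ≤ n)
    (h0 : x 0 ≠ 0) (h : s n ∈ spx n x) : ∃ α : k, ∀ a ≤ n, s a = α • x a := by
  obtain ⟨c, hc⟩ := spx_coord h
  have h1 := fix_top hpK hx hn hn0 h0 (c := c) (fun t => by rw [← hc]; exact hs.top t)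
  refine ⟨c n, ?_⟩
  have h2 : s n = c n • x n := by
    rw [hc, sum_eq_single n]
    · intro b hb hbn
      rw [mem_range] at hb
      rw [h1 b (by omega), zero_smul]
    · intro h
      exact absurd (mem_range.2 (by omega)) h
  have h3 : Str κ ρ n (fun a => s a + (-c n) • x a) := str_add hs (str_smul hx _)
  intro a ha
  have h4 := str_top_zero hpK h3 hn (by
    show s n + (-c n) • x n = 0
    rw [h2, neg_smul, add_neg_cancel]) a ha
  have h5 : s a + (-c n) • x a = 0 := h4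
  rw [neg_smul, ← sub_eq_add_neg] at h5
  exact sub_eq_zero.1 h5

theorem tf_all (H : Act ρ) (h3 : (3 : k) ≠ 0) {i l : ℕ} {x z : ℕ → (I27 → k)} (hx : Str κ ρ i x) (hz : Str κ ρ l z)
    (hi : i < p) (hl : l < p) (h : i = l → tf (x 0) (z l) = 0) : ∀ a ≤ i, ∀ c ≤ l, tf (x a) (z c) = 0 := by
  intro a ha c hc
  have h1 := tf_str_val hpK H h3 hx hz hi hl ha hc
  have h2 : (i.choose a : k) ≠ 0 := R2.F4N.choose_ne (p := p) hi ha
  refine (mul_eq_zero.1 ?_).resolve_left h2
  rw [h1]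
  split_ifs with h4
  · rw [h h4.1, mul_zero]
  · rfl

end str

theorem spx_orth {k : Type u} [Field k] {n : ℕ} {x : ℕ → (I27 → k)} {w : I27 → k} (h : ∀ a ≤ n, tf (x a) w = 0) :
    ∀ z ∈ spx n x, tf z w = 0 := by
  intro z hz
  induction hz using Submodule.span_induction with
  | mem z hz =>
    obtain ⟨a, ha, rfl⟩ := hz
    exact h a ha
  | zero =>
    have := tf_smul_left (0 : k) (0 : I27 → k) w
    rwa [zero_smul, zero_mul] at this
  | add z z' _ _ ih ih' => rw [tf_add_left, ih, ih', add_zero]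
  | smul r z _ ih => rw [tf_smul_left, ih, mul_zero]

theorem spx_st {k : Type u} [Field k] {n : ℕ} {x : ℕ → (I27 → k)} (h : ∀ a ≤ n, ∀ b ≤ n, st (x a) (x b) = 0) :
    ∀ y ∈ spx n x, ∀ z ∈ spx n x, st y z = 0 := by
  have h1 : ∀ y ∈ spx n x, ∀ b ≤ n, st y (x b) = 0 := by
    intro y hy b hb
    induction hy using Submodule.span_induction with
    | mem z hz =>
      obtain ⟨a, ha, rfl⟩ := hz
      exact h a ha b hb
    | zero =>
      have := st_smul_left (0 : k) (0 : I27 → k) (x b)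
      rwa [zero_smul, zero_smul] at this
    | add z z' _ _ ih ih' => rw [st_add_left, ih, ih', add_zero]
    | smul r z _ ih => rw [st_smul_left, ih, smul_zero]
  intro y hy z hz
  induction hz using Submodule.span_induction with
  | mem z hz =>
    obtain ⟨a, ha, rfl⟩ := hz
    exact h1 y hy a ha
  | zero =>
    have := st_smul_right (0 : k) y (0 : I27 → k)
    rwa [zero_smul, zero_smul] at this
  | add z z' _ _ ih ih' => rw [st_add_right, ih, ih', add_zero]
  | smul r z _ ih => rw [st_smul_right, ih, smul_zero]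

section mod

variable {k : Type u} [Field k] [DecidableEq k] {K : Type w} [Field K] [Fintype K] [DecidableEq K] {ι : K →+* k}
variable {p : ℕ} [Fact p.Prime] [CharP k p] [CharP K p] [IsAlgClosed k] {a : ℕ}
variable {V : Type v} [AddCommGroup V] [Module k V] [FiniteDimensional k V]
  {σ : Representation k (Matrix.SpecialLinearGroup (Fin 2) K) V} {P : V →ₗ[k] V →ₗ[k] k}

/-- an irreducible submodule -/
theorem exists_irr_le {Z : Submodule k V} (hZ : ∀ g, ∀ x ∈ Z, σ g x ∈ Z) (h0 : Z ≠ ⊥) :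
    ∃ (R : Submodule k V) (hR : ∀ g, ∀ x ∈ R, σ g x ∈ R) (c : ℕ), R ≤ Z ∧ IsV ι p (subRep σ R hR) c := by
  obtain ⟨c, ⟨R', hR', hRc⟩, -⟩ := exists_inSoc_sub ι p hZ h0
  obtain ⟨hR1, hRb⟩ := isV_map' hRc
  refine ⟨_, hR1, c, ?_, hRb⟩
  rintro _ ⟨y, -, rfl⟩
  exact y.2

/-- the labels of paired irreducible submodules -/
theorem lab_eq (S : SD σ P) {R M : Submodule k V} {hR : ∀ g, ∀ x ∈ R, σ g x ∈ R} {hM : ∀ g, ∀ x ∈ M, σ g x ∈ M} {c d : ℕ}
    (hc : IsV ι p (subRep σ R hR) c) (hd : IsV ι p (subRep σ M hM) d) (h : ∃ x ∈ R, ∃ y ∈ M, P y x ≠ 0) : c = d := by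
  obtain ⟨x, hx, y, hy, hxy⟩ := h
  have h1 : R ⊓ orth P M = ⊥ := by
    rcases IsV.inf_or_le ι p hc (S.orth_inv hM) with h1 | h1
    · exact h1
    · exact absurd (h1 hx y hy) hxy
  have h2 : M ⊓ orth P R = ⊥ := by
    rcases IsV.inf_or_le ι p hd (S.orth_inv hR) with h2 | h2
    · exact h2
    · exact absurd (by rw [S.symm]; exact h2 hy x hx) hxy
  have D : Dul (subRep σ R hR) (subRep σ M hM) (P.compl₁₂ R.subtype M.subtype) := by
    refine ⟨fun g x y => S.dul.inv g x y, fun x hx => Subtype.ext ?_, fun y hy => Subtype.ext ?_⟩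
    · have h3 : (x : V) ∈ R ⊓ orth P M := ⟨x.2, fun y hy => by
        rw [S.symm]
        exact hx ⟨y, hy⟩⟩
      rwa [h1, Submodule.mem_bot] at h3
    · have h3 : (y : V) ∈ M ⊓ orth P R := ⟨y.2, fun x hx => hy ⟨x, hx⟩⟩
      rwa [h2, Submodule.mem_bot] at h3
  have h3 := IsV.dual ι p hc D
  have h4 := cf_irr (Sy.{u, v, w} ι p) h3
  have h5 := cf_irr (Sy.{u, v, w} ι p) hd
  rw [h4] at h5
  exact Multiset.singleton_inj.1 h5

/-- elements orthogonal to `M` and `T` -/
theorem mem_of_orth (S : SD σ P) {Y M T : Submodule k V} (hMn : Nd P M) (hTn : Nd P T)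
    (hYM : ∀ x ∈ Y, ∀ y ∈ M, P x y = 0) (hYT : ∀ x ∈ Y, ∀ y ∈ T, P x y = 0) (hMT : ∀ x ∈ M, ∀ y ∈ T, P x y = 0)
    (hsup : Y ⊔ M ⊔ T = ⊤) {y : V} (h1 : ∀ z ∈ M, P z y = 0) (h2 : ∀ z ∈ T, P z y = 0) : y ∈ Y := by
  obtain ⟨y12, h12, y3, h3, e⟩ := Submodule.mem_sup.1 (show y ∈ Y ⊔ M ⊔ T by rw [hsup]; trivial)
  obtain ⟨y1, hy1, y2, hy2, e'⟩ := Submodule.mem_sup.1 h12
  subst e'
  have e2 : y2 = 0 := hMn.eq_zero hy2 fun z hz => by
    have h4 := h1 z hz
    rw [← e, map_add, map_add, S.symm z y1, hYM y1 hy1 z hz, hMT z hz y3 h3, zero_add, add_zero] at h4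
    exact h4
  have e3 : y3 = 0 := hTn.eq_zero h3 fun z hz => by
    have h4 := h2 z hz
    rw [← e, map_add, map_add, S.symm z y1, hYT y1 hy1 z hz, S.symm z y2, hMT y2 hy2 z hz, zero_add, zero_add] at h4
    exact h4
  rw [← e, e2, e3, add_zero, add_zero]
  exact hy1

end mod

section main

variable {k : Type u} [Field k] [DecidableEq k] {K : Type w} [Field K] [Fintype K] [DecidableEq K] {ι : K →+* k}
variable {p : ℕ} [Fact p.Prime] [CharP k p] [CharP K p] [IsAlgClosed k] {a : ℕ}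
variable {ρ : Representation k (Matrix.SpecialLinearGroup (Fin 2) K) (I27 → k)}
variable {V : Type v} [AddCommGroup V] [Module k V] [FiniteDimensional k V]
  {σ : Representation k (Matrix.SpecialLinearGroup (Fin 2) K) V} {P : V →ₗ[k] V →ₗ[k] k} {j : V →ₗ[k] (I27 → k)}

/-- **the data of the case `T(8) + 4 + 6`** -/
theorem exists_dat (C : Cx ι p a ρ) (E : Em ρ σ j) (S : SD σ P) (hP : ∀ x y, P x y = tf (j x) (j y)) (hp : 6 < p)
    (hpK : p ≤ Fintype.card K) {r : ℕ} {Y M T X : Submodule k V} (hM : ∀ g, ∀ x ∈ M, σ g x ∈ M)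
    (hT : ∀ g, ∀ x ∈ T, σ g x ∈ T) (hX : ∀ g, ∀ x ∈ X, σ g x ∈ X)
    (hMn : Nd P M) (hTn : Nd P T) (hYM : ∀ x ∈ Y, ∀ y ∈ M, P x y = 0) (hYT : ∀ x ∈ Y, ∀ y ∈ T, P x y = 0)
    (hMT : ∀ x ∈ M, ∀ y ∈ T, P x y = 0) (hsup : Y ⊔ M ⊔ T = ⊤) (hMV : IsV ι p (subRep σ M hM) (4 * p ^ r))
    (hTV : IsV ι p (subRep σ T hT) (6 * p ^ r)) (hXY : X ≤ Y) (hXV : IsV ι p (subRep σ X hX) (4 * p ^ r))
    (hXi : Iso P X)
    (hu : ∀ (Z : Submodule k V) (hZ : ∀ g, ∀ x ∈ Z, σ g x ∈ Z) (c : ℕ), IsV ι p (subRep σ Z hZ) c → Z ≤ Y → Z = X)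
    (h4 : (cf (Sy.{u, v, w} ι p) σ).count (4 * p ^ r) = 3)
    (hc1 : ∀ c, c ≠ 4 * p ^ r → (cf (Sy.{u, v, w} ι p) σ).count c ≤ 1) :
    ∃ x m v, Dat ((iterateFrobenius k p r).comp ι) ρ x m v := by
  have H := C.act
  have h2' := C.two
  have h3' := C.three
  obtain ⟨x, sx, jx, spX⟩ := exists_str (ρ := ρ) E.eqv (by omega) hXV
  obtain ⟨m, sm, jm, spM⟩ := exists_str (ρ := ρ) E.eqv (by omega) hMV
  obtain ⟨v, sv, jv, spT⟩ := exists_str (ρ := ρ) E.eqv (by omega) hTV
  -- nonzero strings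
  have ne0 : ∀ {n : ℕ} {A : Submodule k V} {hA : ∀ g, ∀ x ∈ A, σ g x ∈ A} {c : ℕ} {s : ℕ → (I27 → k)},
      n < p → IsV ι p (subRep σ A hA) c → Str ((iterateFrobenius k p r).comp ι) ρ n s →
      (∀ y ∈ A, j y ∈ Submodule.span k {w | ∃ a, a ≤ n ∧ w = s a}) → s 0 ≠ 0 := by
    intro n A hA c s hn hV hs hsp h0
    have h1 := str_zero hpK hs hn h0
    obtain ⟨y, hy⟩ := @exists_ne _ hV.irr.1 0
    apply hy
    apply Subtype.ext
    apply E.inj
    have h2 := hsp y y.2
    have h3 : Submodule.span k {w | ∃ a, a ≤ n ∧ w = s a} ≤ ⊥ := by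
      rw [Submodule.span_le]
      rintro w ⟨b, hb, rfl⟩
      exact h1 b hb
    rw [(Submodule.mem_bot k).1 (h3 h2)]
    exact (map_zero j).symm
  have x0 := ne0 (by omega) hXV sx spX
  have m0 := ne0 (by omega) hMV sm spM
  have v0 := ne0 (by omega) hTV sv spT
  have tx : ∀ c, tr1 (x c) = 0 := fun c => by
    obtain ⟨y, -, hy⟩ := jx c
    rw [hy]; exact E.tr y
  have tm : ∀ c, tr1 (m c) = 0 := fun c => by
    obtain ⟨y, -, hy⟩ := jm c
    rw [hy]; exact E.tr y
  have tv : ∀ c, tr1 (v c) = 0 := fun c => by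
    obtain ⟨y, -, hy⟩ := jv c
    rw [hy]; exact E.tr y
  have xx : ∀ a b, tf (x a) (x b) = 0 := fun a b => by
    obtain ⟨y, h, hy⟩ := jx a
    obtain ⟨z, h', hz⟩ := jx b
    rw [hy, hz, ← hP]; exact hXi y h z h'
  have xm : ∀ a b, tf (x a) (m b) = 0 := fun a b => by
    obtain ⟨y, h, hy⟩ := jx a
    obtain ⟨z, h', hz⟩ := jm b
    rw [hy, hz, ← hP]; exact hYM y (hXY h) z h'
  have xv : ∀ a b, tf (x a) (v b) = 0 := fun a b => by
    obtain ⟨y, h, hy⟩ := jx a
    obtain ⟨z, h', hz⟩ := jv b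
    rw [hy, hz, ← hP]; exact hYT y (hXY h) z h'
  have mv : ∀ a b, tf (m a) (v b) = 0 := fun a b => by
    obtain ⟨y, h, hy⟩ := jm a
    obtain ⟨z, h', hz⟩ := jv b
    rw [hy, hz, ← hP]; exact hMT y h z h'
  -- nondegeneracy
  have nd : ∀ {n : ℕ} {A : Submodule k V} {s : ℕ → (I27 → k)}, n < p → Nd P A →
      Str ((iterateFrobenius k p r).comp ι) ρ n s → (∀ c, ∃ y ∈ A, s c = j y) →
      (∀ y ∈ A, j y ∈ Submodule.span k {w | ∃ a, a ≤ n ∧ w = s a}) → s 0 ≠ 0 → tf (s 0) (s n) ≠ 0 := by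
    intro n A s hn hA hs hj hsp hs0 h0
    apply hs0
    obtain ⟨y, hy, e⟩ := hj 0
    have h1 := tf_all hpK H h3' hs hs hn hn fun _ => h0
    have h2 : y = 0 := hA.eq_zero hy fun z hz => by
      rw [hP, ← e]
      exact spx_orth (fun c hc => h1 c hc 0 (Nat.zero_le n)) _ (hsp z hz)
    rw [e, h2, map_zero]
  have mm := nd (by omega) hMn sm jm spM m0
  have vv := nd (by omega) hTn sv jv spT v0
  -- the comap of a stable subspace
  have stab : ∀ {Z : Submodule k (I27 → k)}, (∀ g, ∀ y ∈ Z, ρ g y ∈ Z) → ∀ g, ∀ y ∈ Z.comap j, σ g y ∈ Z.comap j := by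
    intro Z hZ g y hy
    show j (σ g y) ∈ Z
    rw [E.eqv]
    exact hZ g _ hy
  -- a string orthogonal to `m` and `v` is in the span of `x`
  have key : ∀ {n : ℕ} {s : ℕ → (I27 → k)}, n < p → Str ((iterateFrobenius k p r).comp ι) ρ n s →
      (∀ c ≤ n, tr1 (s c) = 0) → (∀ c ≤ n, ∀ b ≤ 4, tf (s c) (m b) = 0) → (∀ c ≤ n, ∀ b ≤ 6, tf (s c) (v b) = 0) →
      ∀ c ≤ n, s c ∈ spx 4 x := by
    intro n s hn hs ht hsm hsv
    by_cases hs0 : s 0 = 0
    · intro c hc
      rw [str_zero hpK hs hn hs0 c hc]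
      exact Submodule.zero_mem _
    have htr : ∀ y ∈ spx n s, tr1 y = 0 := by
      intro y hy
      induction hy using Submodule.span_induction with
      | mem z hz =>
        obtain ⟨b, hb, rfl⟩ := hz
        exact ht b hb
      | zero =>
        have := tr1_smul (0 : k) (0 : I27 → k)
        rwa [zero_smul, zero_mul] at this
      | add z z' _ _ ih ih' => rw [tr1_add, ih, ih', add_zero]
      | smul r z _ ih => rw [tr1_smul, ih, mul_zero]
    have hZ := stab (str_stable hs)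
    have hZY : (spx n s).comap j ≤ Y := by
      intro y hy
      refine mem_of_orth S hMn hTn hYM hYT hMT hsup (fun z hz => ?_) fun z hz => ?_
      · rw [hP]
        refine spx_orth (fun b hb => ?_) _ (spM z hz)
        rw [tf_comm]
        exact spx_orth (fun c hc => hsm c hc b hb) _ hy
      · rw [hP]
        refine spx_orth (fun b hb => ?_) _ (spT z hz)
        rw [tf_comm]
        exact spx_orth (fun c hc => hsv c hc b hb) _ hy
    have hne : (spx n s).comap j ≠ ⊥ := by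
      intro h0
      have h1 : s 0 ∈ spx n s := Submodule.subset_span ⟨0, Nat.zero_le n, rfl⟩
      obtain ⟨y, hy⟩ := E.sur (s 0) (htr _ h1)
      have h2 : y ∈ (spx n s).comap j := by
        show j y ∈ spx n s
        rw [hy]; exact h1
      rw [h0, Submodule.mem_bot] at h2
      rw [h2, map_zero] at hy
      exact hs0 hy.symm
    obtain ⟨R, hR, c, hRZ, hRV⟩ := exists_irr_le (ι := ι) (p := p) hZ hne
    have hRX := hu R hR c hRV (hRZ.trans hZY)
    obtain ⟨y, hy, e⟩ := jx 0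
    have h1 : x 0 ∈ spx n s := by
      rw [e]
      exact hRZ (hRX ▸ hy)
    exact str_mem_of hpK hs hn (str_stable sx) (v := x 0) (Submodule.subset_span ⟨0, Nat.zero_le 4, rfl⟩) x0 h1
  have s4 : ∀ s, Str ((iterateFrobenius k p r).comp ι) ρ 4 s → (∀ c ≤ 4, tr1 (s c) = 0) →
      ∃ α β : k, ∀ c ≤ 4, s c = α • x c + β • m c := by
    intro s hs ht
    obtain ⟨β, hβ⟩ : ∃ β : k, tf (s 0) (m 4) = β * tf (m 0) (m 4) := ⟨tf (s 0) (m 4) / tf (m 0) (m 4), by
      rw [div_mul_cancel₀ _ mm]⟩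
    have hs' : Str ((iterateFrobenius k p r).comp ι) ρ 4 (fun c => s c + (-β) • m c) := str_add hs (str_smul sm _)
    have h1 := key (by omega) hs' (fun c hc => by rw [tr1_add, tr1_smul, ht c hc, tm, mul_zero, add_zero])
      (tf_all hpK H h3' hs' sm (by omega) (by omega) fun _ => by
        rw [tf_add_left, tf_smul_left, hβ]; ring)
      (tf_all hpK H h3' hs' sv (by omega) (by omega) fun h => by omega)
    obtain ⟨α, hα⟩ := str_uniq hpK sx hs' (by omega) (by norm_num) x0 (h1 4 le_rfl)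
    refine ⟨α, β, fun c hc => ?_⟩
    rw [← hα c hc, neg_smul, neg_add_cancel_right]
  have s6 : ∀ s, Str ((iterateFrobenius k p r).comp ι) ρ 6 s → (∀ c ≤ 6, tr1 (s c) = 0) →
      ∃ γ : k, ∀ c ≤ 6, s c = γ • v c := by
    intro s hs ht
    obtain ⟨β, hβ⟩ : ∃ β : k, tf (s 0) (v 6) = β * tf (v 0) (v 6) := ⟨tf (s 0) (v 6) / tf (v 0) (v 6), by
      rw [div_mul_cancel₀ _ vv]⟩
    have hs' : Str ((iterateFrobenius k p r).comp ι) ρ 6 (fun c => s c + (-β) • v c) := str_add hs (str_smul sv _)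
    have h1 := key (by omega) hs' (fun c hc => by rw [tr1_add, tr1_smul, ht c hc, tv, mul_zero, add_zero])
      (tf_all hpK H h3' hs' sm (by omega) (by omega) fun h => by omega)
      (tf_all hpK H h3' hs' sv (by omega) (by omega) fun _ => by
        rw [tf_add_left, tf_smul_left, hβ]; ring)
    have h2 : (fun c => s c + (-β) • v c) 0 = 0 := by
      by_contra h0
      set s' : ℕ → (I27 → k) := fun c => s c + (-β) • v c
      have li : LinearIndependent k (fun c : Fin 7 => s' c) := by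
        rw [Fintype.linearIndependent_iff]
        intro g hg i
        have h3 := str_li hs' (by omega) h0 (c := fun c => if h : c < 7 then g ⟨c, h⟩ else 0) (by
          rw [Finset.sum_range]
          rw [← hg]
          refine Finset.sum_congr rfl fun c _ => ?_
          rw [dif_pos c.2]) i (by omega)
        rw [dif_pos i.2] at h3
        exact h3
      have h3 : Submodule.span k (Set.range fun c : Fin 7 => s' c) ≤ spx 4 x := by
        rw [Submodule.span_le]
        rintro _ ⟨c, rfl⟩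
        exact h1 c (by omega)
      have h4 : spx 4 x ≤ Submodule.span k (Set.range fun c : Fin 5 => x c) := by
        unfold spx
        rw [Submodule.span_le]
        rintro _ ⟨c, hc, rfl⟩
        exact Submodule.subset_span ⟨⟨c, by omega⟩, rfl⟩
      have h5 := Submodule.finrank_mono (h3.trans h4)
      rw [finrank_span_eq_card li, Fintype.card_fin] at h5
      have h6 := finrank_range_le_card (R := k) (fun c : Fin 5 => x c)
      rw [Fintype.card_fin] at h6
      have h7 : Set.finrank k (Set.range fun c : Fin 5 => x c) =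
        Module.finrank k (Submodule.span k (Set.range fun c : Fin 5 => x c)) := rfl
      omega
    refine ⟨β, fun c hc => ?_⟩
    have h3 := str_zero hpK hs' (by omega) h2 c hc
    have h4 : s c + (-β) • v c = 0 := h3
    rw [neg_smul, ← sub_eq_add_neg] at h4
    exact sub_eq_zero.1 h4
  refine ⟨x, m, v, ⟨H, sx, sm, sv, fun c _ => tx c, fun c _ => tm c, fun c _ => tv c, x0, fun a _ b _ => xx a b,
    fun a _ b _ => xm a b, fun a _ b _ => xv a b, fun a _ b _ => mv a b, mm, vv, s4, s6, ?_, ?_,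
    fun y hy h => C.fix0 hy h, ?_⟩⟩
  · -- socle
    intro Z hZ hZt hZ0
    have hZ' := stab hZ
    have hne : Z.comap j ≠ ⊥ := by
      intro h0
      apply hZ0
      rw [eq_bot_iff]
      intro y hy
      obtain ⟨y', rfl⟩ := E.sur y (hZt y hy)
      have h2 : y' ∈ Z.comap j := hy
      rw [h0, Submodule.mem_bot] at h2
      rw [h2, map_zero]
      exact Submodule.zero_mem _
    obtain ⟨R, hR, c, hRZ, hRV⟩ := exists_irr_le (ι := ι) (p := p) hZ' hne
    have hc : c = 4 * p ^ r ∨ c = 6 * p ^ r := by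
      by_cases h1 : ∃ x ∈ R, ∃ y ∈ M, P y x ≠ 0
      · exact Or.inl (lab_eq S hRV hMV h1)
      by_cases h2 : ∃ x ∈ R, ∃ y ∈ T, P y x ≠ 0
      · exact Or.inr (lab_eq S hRV hTV h2)
      push Not at h1 h2
      left
      have h3 : R ≤ Y := fun y hy => mem_of_orth S hMn hTn hYM hYT hMT hsup (h1 y hy) (h2 y hy)
      have h4 := hu R hR c hRV h3
      subst h4
      have h5 := cf_irr (Sy.{u, v, w} ι p) hRV
      rw [cf_irr (Sy.{u, v, w} ι p) hXV] at h5
      exact (Multiset.singleton_inj.1 h5).symm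
    have fin : ∀ n, n < p → IsV ι p (subRep σ R hR) (n * p ^ r) →
        ∃ s, Str ((iterateFrobenius k p r).comp ι) ρ n s ∧ (∀ c ≤ n, s c ∈ Z) ∧ s 0 ≠ 0 := by
      intro n hn hV
      obtain ⟨s, hs, js, sps⟩ := exists_str (ρ := ρ) E.eqv hn hV
      refine ⟨s, hs, fun c _ => ?_, ne0 hn hV hs sps⟩
      obtain ⟨y, hy, e⟩ := js c
      rw [e]
      exact hRZ hy
    rcases hc with rfl | rfl
    · exact ⟨4, Or.inl rfl, fin 4 (by omega) hRV⟩
    · exact ⟨6, Or.inr rfl, fin 6 (by omega) hRV⟩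
  · -- isotropic subspaces
    intro Z hZ hZt hZi
    have hZ' := stab hZ
    have hiso : Iso P (Z.comap j) := fun y hy z hz => by rw [hP]; exact hZi _ hy _ hz
    intro y hy
    obtain ⟨y', rfl⟩ := E.sur y (hZt y hy)
    by_cases hy0 : y' = 0
    · rw [hy0, map_zero]
      exact Submodule.zero_mem _
    have hne : Z.comap j ≠ ⊥ := by
      intro h0
      have h2 : y' ∈ Z.comap j := hy
      rw [h0, Submodule.mem_bot] at h2
      exact hy0 h2
    have hcnt := S.iso_count (ι := ι) (p := p) hZ' hiso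
    have h1 : cf (Sy.{u, v, w} ι p) (subRep σ (Z.comap j) hZ') = {4 * p ^ r} := by
      obtain ⟨c, hc⟩ := Multiset.exists_mem_of_ne_zero (cf_ne_zero (ι := ι) (p := p) hZ' hne)
      have h2 : ∀ c, c ≠ 4 * p ^ r → (cf (Sy.{u, v, w} ι p) (subRep σ (Z.comap j) hZ')).count c = 0 := by
        intro c hc
        have h3 := Multiset.count_le_of_le c hcnt
        rw [Multiset.count_add] at h3
        have := hc1 c hc
        omega
      have h3 := Multiset.count_le_of_le (4 * p ^ r) hcnt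
      rw [Multiset.count_add, h4] at h3
      have h5 : c = 4 * p ^ r := by
        by_contra h6
        have h7 := Multiset.one_le_count_iff_mem.2 hc
        rw [h2 c h6] at h7
        omega
      have h6 := Multiset.one_le_count_iff_mem.2 hc
      rw [h5] at h6
      ext d
      rw [Multiset.count_singleton]
      split_ifs with hd
      · rw [hd]; omega
      · exact h2 d hd
    have h2 : IsV ι p (subRep σ (Z.comap j) hZ') (4 * p ^ r) := irr_of_cf (Sy.{u, v, w} ι p) h1
    obtain ⟨s, hs, js, sps⟩ := exists_str (ρ := ρ) E.eqv (by omega) h2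
    have sZ : ∀ c, s c ∈ Z := fun c => by
      obtain ⟨z, hz, e⟩ := js c
      rw [e]; exact hz
    obtain ⟨α, β, hαβ⟩ := s4 s hs fun c _ => hZt _ (sZ c)
    have h5 := hZi _ (sZ 0) _ (sZ 4)
    rw [hαβ 0 (by norm_num), hαβ 4 le_rfl, tf_add_left, tf_smul_left, tf_smul_left, tf_add_right, tf_add_right,
      tf_smul_right, tf_smul_right, tf_smul_right, tf_smul_right, xx, xm, tf_comm (m 0) (x 4), xm] at h5
    have h6 : β = 0 := by
      by_contra hβ
      apply mm
      have : β * (β * tf (m 0) (m 4)) = 0 := by linear_combination h5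
      exact ((mul_eq_zero.1 this).resolve_left hβ |> mul_eq_zero.1).resolve_left hβ
    have h7 : spx 4 s ≤ spx 4 x := by
      unfold spx
      rw [Submodule.span_le]
      rintro _ ⟨c, hc, rfl⟩
      rw [hαβ c hc, h6, zero_smul, add_zero]
      exact Submodule.smul_mem _ _ (Submodule.subset_span ⟨c, hc, rfl⟩)
    exact h7 (sps y' hy)
  · -- the square of `X`
    by_contra h0
    push Not at h0
    have h1 := spx_st (n := 4) (x := x) h0
    have htr : ∀ y ∈ spx 4 x, tr1 y = 0 := by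
      intro y hy
      induction hy using Submodule.span_induction with
      | mem z hz =>
        obtain ⟨b, hb, rfl⟩ := hz
        exact tx b
      | zero =>
        have := tr1_smul (0 : k) (0 : I27 → k)
        rwa [zero_smul, zero_mul] at this
      | add z z' _ _ ih ih' => rw [tr1_add, ih, ih', add_zero]
      | smul r z _ ih => rw [tr1_smul, ih, mul_zero]
    have h2 := C.white (spx 4 x) (str_stable sx) fun y hy => sh_of_sq h2' h3' (htr y hy) (h1 y hy y hy)
    have h3 : x 0 ∈ spx 4 x := Submodule.subset_span ⟨0, Nat.zero_le 4, rfl⟩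
    rw [h2, Submodule.mem_bot] at h3
    exact x0 h3

end main

end Cfsg.Agent.R2.F4L.A7
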