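import Cfsg.Agent.R2.F4L.Wey

/-!
# `p = 5` : the highest weight vectors of `V_{4 p^i}` are white (helper2, S5931)

* `wt_span` : weight vectors in a span of weight vectors;
* `inSoc_zero_of` : fixed vectors; `Cx.hv5`.
-/

set_option autoImplicit false
set_option linter.unusedSectionVars false
set_option linter.unusedVariables false

namespace Cfsg.Agent.R2.F4L

open Cfsg.Lie
open Cfsg.Agent.ChevalleyStructure.E6Min.Tables Cfsg.Agent.ChevalleyStructure.E6Min.Basic
open Cfsg.Agent.H952.F4 (sh cr tf tr1 u0)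
open Cfsg.Agent.H952.F4.Jord
open Cfsg.Agent.H943.SL2Rel Cfsg.Agent.H943.SL2Mod Cfsg.Agent.R2.H28.SL2 Cfsg.Agent.H943.RepAdd

universe u v w

section Wt

variable {k : Type u} [Field k] {V : Type v} [AddCommGroup V] [Module k V]

theorem aeval_eig {T : V →ₗ[k] V} {v : V} {μ : k} (h : T v = μ • v) (P : Polynomial k) :
    (Polynomial.aeval T P) v = P.eval μ • v := by
  induction P using Polynomial.induction_on' with
  | add p q hp hq => rw [map_add, LinearMap.add_apply, hp, hq, Polynomial.eval_add, add_smul]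
  | monomial n a =>
    rw [Polynomial.aeval_monomial, Polynomial.eval_monomial]
    have h1 : ∀ n : ℕ, (T ^ n) v = μ ^ n • v := by
      intro n
      induction n with
      | zero => rw [pow_zero, pow_zero, one_smul]; rfl
      | succ n ih => rw [pow_succ, Module.End.mul_apply, h, map_smul, ih, smul_smul, pow_succ, mul_comm]
    rw [Module.End.mul_apply, h1, map_smul, Module.algebraMap_end_apply, smul_smul, mul_comm]

/-- **weight vectors in the span of weight vectors** -/
theorem wt_span {T : V →ₗ[k] V} {z : ℕ → V} {μ : ℕ → k} {n : ℕ} (hz : ∀ s ≤ n, T (z s) = μ s • z s)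
    (hz0 : ∀ s, n < s → z s = 0) {v : V} (hv : v ∈ Submodule.span k (Set.range z)) {ν : k} (hT : T v = ν • v)
    (hne : ∀ s ≤ n, z s ≠ 0 → μ s ≠ ν) : v = 0 := by
  classical
  let P : Polynomial k := ∏ s ∈ Finset.range (n + 1), if z s = 0 then 1 else (Polynomial.X - Polynomial.C (μ s))
  have h1 : ∀ x ∈ Submodule.span k (Set.range z), (Polynomial.aeval T P) x = 0 := by
    intro x hx
    have h2 : Submodule.span k (Set.range z) ≤ LinearMap.ker (Polynomial.aeval T P) := by
      rw [Submodule.span_le]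
      rintro _ ⟨s, rfl⟩
      show (Polynomial.aeval T P) (z s) = 0
      by_cases hs : s ≤ n
      · by_cases h0 : z s = 0
        · rw [h0, map_zero]
        · rw [aeval_eig (hz s hs)]
          have h3 : P.eval (μ s) = 0 := by
            rw [Polynomial.eval_prod]
            refine Finset.prod_eq_zero (Finset.mem_range.2 (show s < n + 1 by omega)) ?_
            rw [if_neg h0, Polynomial.eval_sub, Polynomial.eval_X, Polynomial.eval_C, sub_self]
          rw [h3, zero_smul]
      · rw [hz0 s (by omega), map_zero]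
    exact h2 hx
  have h2 := h1 v hv
  rw [aeval_eig hT] at h2
  refine (smul_eq_zero.1 h2).resolve_left ?_
  rw [Polynomial.eval_prod]
  refine Finset.prod_ne_zero_iff.2 fun s hs => ?_
  rw [Finset.mem_range] at hs
  by_cases h0 : z s = 0
  · rw [if_pos h0, Polynomial.eval_one]
    exact one_ne_zero
  · rw [if_neg h0, Polynomial.eval_sub, Polynomial.eval_X, Polynomial.eval_C]
    exact sub_ne_zero.2 (Ne.symm (hne s (by omega) h0))

end Wt

variable {k : Type u} [Field k] [DecidableEq k] {K : Type w} [Field K] [Fintype K] [DecidableEq K] {ι : K →+* k}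
variable {p : ℕ} [Fact p.Prime] [CharP k p] [CharP K p] {a : ℕ}

section

variable {V : Type v} [AddCommGroup V] [Module k V] {σ : Representation k (Matrix.SpecialLinearGroup (Fin 2) K) V}

/-- fixed vectors -/
theorem inSoc_zero_of {e : V} (he : ∀ g, σ g e = e) (he0 : e ≠ 0) : InSoc ι p σ 0 := by
  have hts : TS ι p σ 0 0 (fun s => if s = 0 then e else 0) := by
    refine ⟨fun s hs => if_neg (by omega), fun s hs t => ?_, fun s hs b => ?_, fun s hs => ?_⟩
    all_goals
      have hs0 : s = 0 := by omega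
      subst hs0
      simp [he]
  obtain ⟨hX, hV⟩ := hts.isV (Fact.out : p.Prime).pos (by omega) (fun h => he0 (by
    have := congrFun h 0
    simpa using this))
  rw [Nat.zero_mul] at hV
  exact ⟨_, hX, hV⟩

end

section Emb

variable {ρ : Representation k (Matrix.SpecialLinearGroup (Fin 2) K) (I27 → k)}
variable {V : Type v} [AddCommGroup V] [Module k V] {σ : Representation k (Matrix.SpecialLinearGroup (Fin 2) K) V}
variable {j : V →ₗ[k] (I27 → k)} {i : ℕ}
variable [IsAlgClosed k] [FiniteDimensional k V]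

/-- **`p = 5`** -/
theorem Cx.hv5 (C : Cx ι p a ρ) (E : Em ρ σ j) (hp : p = 5) (hi : i < a) (h0 : 0 ∉ cf (Sy.{u, v, w} ι p) σ)
    {y : ℕ → I27 → k} (hy : TS ι p ρ 4 i y) : sh (y 4) = 0 := by
  have hp5 := C.hp5
  have h3 := C.three
  have h5k : (5 : k) = 0 := by
    have := CharP.cast_eq_zero k p
    rw [hp] at this
    exact_mod_cast this
  -- the field
  have hQ : 25 ≤ Fintype.card K := by
    rw [C.card, hp]
    have h7 := C.seven
    rw [C.card, hp] at h7
    have ha : 2 ≤ a := by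
      by_contra h
      have : a = 0 ∨ a = 1 := by omega
      rcases this with h | h <;> rw [h] at h7 <;> norm_num at h7
    calc 25 = 5 ^ 2 := by norm_num
      _ ≤ 5 ^ a := Nat.pow_le_pow_right (by norm_num) ha
  obtain ⟨x, hx, ex⟩ := E.lift C.act (by omega) (by norm_num) (C.lt_card (n := 4) (by omega) hi) hy
  set β := stV E h3 with hβd
  have hs : ∀ x y, β x y = β y x := stV_comm E h3
  have hβ : ∀ g x y, β (σ g x) (σ g y) = σ g (β x y) := fun g x y => stV_eqv E C.act h3 g x y
  have hD := wt_Ds hs hβ (by omega) hx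
  set D := Ds β x with hDd
  -- `D 4` is fixed
  have hD4 : D 4 = 0 := by
    have hfix : ∀ g, σ g (D 4) = D 4 := by
      refine fix_of (fun t => ?_) (fun b => ?_) ?_
      · rw [hD.u 4 (by norm_num)]
        simp only [show 8 - 4 + 1 = 5 by norm_num, Finset.sum_range_succ, Finset.sum_range_zero, zero_add]
        have c1 : ((4 + 1).choose 4 : k) = 0 := by
          rw [show Nat.choose (4 + 1) 4 = 5 by decide]
          exact_mod_cast h5k
        have c2 : ((4 + 2).choose 4 : k) = 0 := by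
          rw [show Nat.choose (4 + 2) 4 = 3 * 5 by decide, Nat.cast_mul, Nat.cast_ofNat, Nat.cast_ofNat]
          rw [h5k, mul_zero]
        have c3 : ((4 + 3).choose 4 : k) = 0 := by
          rw [show Nat.choose (4 + 3) 4 = 7 * 5 by decide, Nat.cast_mul, Nat.cast_ofNat, Nat.cast_ofNat]
          rw [h5k, mul_zero]
        have c4 : ((4 + 4).choose 4 : k) = 0 := by
          rw [show Nat.choose (4 + 4) 4 = 14 * 5 by decide, Nat.cast_mul, Nat.cast_ofNat, Nat.cast_ofNat]
          rw [h5k, mul_zero]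
        rw [c1, c2, c3, c4]
        simp
      · rw [hD.h' (by norm_num)]
        norm_num
      · rw [hD.w 4 (by norm_num)]
        norm_num
    apply E.inj
    rw [map_zero]
    exact C.fix0 (E.tr _) fun g => by rw [← E.eqv, hfix]
  -- the generator
  let e : V := β (x 0) (x 4) + (2 : k) • β (x 1) (x 3)
  have heu : ∀ t, σ (u t) e = e + ((2 * (ι t ^ p ^ i)) • D 5 + ((ι t ^ p ^ i) ^ 2) • D 6 + (4 * (ι t ^ p ^ i) ^ 3) • D 7 +
      (3 * (ι t ^ p ^ i) ^ 4) • D 8) := by
    intro t
    show σ (u t) (β (x 0) (x 4) + (2 : k) • β (x 1) (x 3)) = _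
    rw [map_add, map_smul, ← hβ, ← hβ, ts4_u0 hx, ts4_u1 hx, ts4_u3 hx, ts4_u4 hx]
    simp only [map_add, map_smul, LinearMap.add_apply, LinearMap.smul_apply]
    rw [hs (x 4) (x 3)]
    show _ = β (x 0) (x 4) + (2 : k) • β (x 1) (x 3) + ((2 * (ι t ^ p ^ i)) • ((48 : k) • β (x 2) (x 3) + (8 : k) • β (x 1) (x 4)) +
      ((ι t ^ p ^ i) ^ 2) • ((16 : k) • β (x 3) (x 3) + (12 : k) • β (x 2) (x 4)) +
      (4 * (ι t ^ p ^ i) ^ 3) • ((8 : k) • β (x 3) (x 4)) + (3 * (ι t ^ p ^ i) ^ 4) • β (x 4) (x 4))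
    match_scalars <;> first
      | ring1
      | linear_combination (-2 * ι t ^ p ^ i) * h5k
      | linear_combination (-18 * ι t ^ p ^ i) * h5k
      | linear_combination (-2 * (ι t ^ p ^ i) ^ 2) * h5k
      | linear_combination (-4 * (ι t ^ p ^ i) ^ 3) * h5k
      | linear_combination (0 * (ι t ^ p ^ i) ^ 2) * h5k
  have hew : σ w e = e := by
    show σ w (β (x 0) (x 4) + (2 : k) • β (x 1) (x 3)) = β (x 0) (x 4) + (2 : k) • β (x 1) (x 3)
    rw [map_add, map_smul, ← hβ, ← hβ, hx.w 0 (by norm_num), hx.w 4 le_rfl, hx.w 1 (by norm_num), hx.w 3 (by norm_num)]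
    norm_num
    rw [hs (x 4) (x 0), hs (x 3) (x 1)]
  have e1 : ∀ τ : k, τ ≠ 0 → τ ^ 4 * τ⁻¹ ^ (4 - 4) * (τ ^ 0 * τ⁻¹ ^ (4 - 0)) = 1 := by
    intro τ hτ
    norm_num
    exact mul_inv_cancel₀ (pow_ne_zero _ hτ)
  have e2 : ∀ τ : k, τ ≠ 0 → 2 * (τ ^ 3 * τ⁻¹ ^ (4 - 3) * (τ ^ 1 * τ⁻¹ ^ (4 - 1))) = 2 := by
    intro τ hτ
    norm_num
    field_simp
  have heh : ∀ b : Kˣ, σ (h b) e = e := by
    intro b
    have hb0 : ι (b : K) ^ p ^ i ≠ 0 := pow_ne_zero _ ((map_ne_zero ι).2 b.ne_zero)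
    show σ (h b) (β (x 0) (x 4) + (2 : k) • β (x 1) (x 3)) = β (x 0) (x 4) + (2 : k) • β (x 1) (x 3)
    rw [map_add, map_smul, ← hβ, ← hβ, hx.h 0 (by norm_num), hx.h 4 le_rfl, hx.h 1 (by norm_num), hx.h 3 (by norm_num)]
    simp only [map_smul, LinearMap.smul_apply, smul_smul]
    congr 1
    · rw [e1 _ hb0, one_smul]
    · congr 1
      exact e2 _ hb0
  set DD := Submodule.span k (Set.range D) with hDD
  have hDst := hD.span_st
  have mD : ∀ s, D s ∈ DD := fun s => Submodule.subset_span ⟨s, rfl⟩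
  have heD : e ∈ DD := by
    by_contra hne
    have h1 : DD.mkQ e ≠ 0 := fun h => hne ((Submodule.Quotient.mk_eq_zero DD).1 h)
    have h2 : ∀ g, quotRep σ DD hDst g (DD.mkQ e) = DD.mkQ e := by
      refine fix_of (fun t => ?_) (fun b => ?_) ?_
      · rw [quotRep_mk, heu, map_add]
        rw [Submodule.mkQ_apply, Submodule.mkQ_apply, (Submodule.Quotient.mk_eq_zero DD).2 (Submodule.add_mem _ (Submodule.add_mem _ (Submodule.add_mem _
          (Submodule.smul_mem _ _ (mD 5)) (Submodule.smul_mem _ _ (mD 6))) (Submodule.smul_mem _ _ (mD 7)))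
          (Submodule.smul_mem _ _ (mD 8))), add_zero]
      · rw [quotRep_mk, heh]
      · rw [quotRep_mk, hew]
    have h3 := (inSoc_zero_of (ι := ι) (p := p) h2 h1).mem_cf ι p
    exact h0 (Multiset.mem_of_le (cf_quot_le _ _ _ _) h3)
  have he0 : e = 0 := by
    obtain ⟨lam, hlam⟩ := exists_prim (k := k) ι i p
    have hl0 : ι (lam : K) ^ p ^ i ≠ 0 := pow_ne_zero _ ((map_ne_zero ι).2 lam.ne_zero)
    refine wt_span (T := σ (h lam)) (n := 8) (z := D) (μ := fun s => (ι lam ^ p ^ i) ^ s * ((ι lam ^ p ^ i)⁻¹) ^ (8 - s))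
      (ν := 1) (fun s hs' => hD.h s hs' lam) hD.zero heD (by rw [heh, one_smul]) (fun s hs' hne h1 => ?_)
    have h4 : s ≠ 4 := by
      rintro rfl
      exact hne hD4
    have key : ∀ m : ℕ, 0 < m → m ≤ 8 → (ι (lam : K) ^ p ^ i) ^ m ≠ 1 := by
      intro m hm hm8 h5
      have h6 := Nat.le_of_dvd hm ((hlam.pow_eq_one_iff_dvd m).1 h5)
      omega
    rw [pow_wt hl0 hs'] at h1
    rcases lt_or_gt_of_ne h4 with h | h
    · refine key (8 - 2 * s) (by omega) (by omega) ?_
      have h5 : (ι (lam : K) ^ p ^ i) ^ (2 * (s : ℤ) - (8 : ℕ)) * (ι (lam : K) ^ p ^ i) ^ ((8 - 2 * s : ℕ) : ℤ) = 1 := by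
        rw [← zpow_add₀ hl0, show (2 * (s : ℤ) - (8 : ℕ)) + ((8 - 2 * s : ℕ) : ℤ) = 0 by omega, zpow_zero]
      rw [h1, one_mul, zpow_natCast] at h5
      exact h5
    · refine key (2 * s - 8) (by omega) (by omega) ?_
      rw [show (2 * (s : ℤ) - (8 : ℕ)) = ((2 * s - 8 : ℕ) : ℤ) by omega, zpow_natCast] at h1
      exact h1
  have h8 : (3 : k) • D 8 = 0 := by
    refine poly0 ι (N := 5) (by omega) p i (a := fun s => match s with
      | 0 => 0
      | 1 => (2 : k) • D 5
      | 2 => D 6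
      | 3 => (4 : k) • D 7
      | 4 => (3 : k) • D 8
      | _ => 0) (fun t => ?_) 4 (by norm_num)
    have h1 := heu t
    rw [he0, map_zero, zero_add] at h1
    simp only [Finset.sum_range_succ, Finset.sum_range_zero, zero_add, smul_zero]
    rw [h1]
    module
  have h9 : D 8 = 0 := (smul_eq_zero.1 h8).resolve_left h3
  have h10 : stV E h3 (x 4) (x 4) = 0 := h9
  have h11 := congrArg j h10
  rw [j_stV, map_zero, ex] at h11
  refine R2.H1.F4.sh_of_sq C.two h3 ?_ h11
  rw [← ex]
  exact E.tr _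

end Emb

end Cfsg.Agent.R2.F4L
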