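import Cfsg.Agent.R2.F4L.SubD
import Cfsg.Agent.R2.F4L.N5

/-!
# The rules for `V_{4 p^i}`, `p ≥ 11` and `p = 5` (helper2, S5931)
-/

set_option autoImplicit false
set_option linter.unusedSectionVars false
set_option linter.unusedVariables false

namespace Cfsg.Agent.R2.F4L

open Cfsg Cfsg.Lie Module Matrix
open Cfsg.Agent.ChevalleyStructure.E6Min.Basic
open Cfsg.Agent.H952.F4 (sh cr tf tr1 u0 hF4)
open Cfsg.Agent.H952.F4.Jord
open Cfsg.Agent.H952.F4.FixV (W0 mem_W0 finrank_W0 u0_ne_zero tr1_eq)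
open Cfsg.Agent.R2.H9.E6
open Cfsg.Agent.GpExc.Field (emb)
open Cfsg.Agent.H943.SL2Rel Cfsg.Agent.H943.SL2Mod
open Cfsg.Agent.R2.H28.SL2 Cfsg.Agent.H943.RepAdd
open Cfsg.Agent.R2.F4M Cfsg.Agent.R2.F4N

universe u v w

variable {F : Type u} [Field F] [Fintype F] {K : Type v} [Field K] [Fintype K] [DecidableEq K] {p a b : ℕ}
variable {H : Subgroup ↥(chevF4.group F)} {φ : ProjectiveSpecialLinearGroup (Fin 2) K →* ↥(chevF4.group F)}
variable {k : Type u} [Field k] [DecidableEq k] {f : F →+* k} {ι : K →+* k} [Fact p.Prime] [CharP k p] [CharP K p]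
variable [IsAlgClosed k]

theorem rule4 (hc : Cfg p a b H φ) (C : Cx ι p a (Rk f φ)) (hp : 11 ≤ p) {i : ℕ} (hi : i < a)
    (hcount : (cf (Sy.{u, u, v} ι p) (R0 f φ)).count (4 * p ^ i) ≤ 3) (h : InSoc ι p (R0 f φ) (4 * p ^ i)) :
    8 * p ^ i ∈ cf (Sy.{u, u, v} ι p) (R0 f φ) := by
  by_contra hcf
  have hpr : p.Prime := Fact.out
  have hQ : 11 ≤ Fintype.card K := C.hQ (Or.inl (by omega)) (Or.inl (by omega))
  have h9 := C.lt_card (n := 9) (i := i) (by omega) hi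
  have hpi : 0 < p ^ i := Nat.pow_pos hpr.pos
  refine no4 hc C hQ hi (fun y hy => C.hv_of emW (c := 8 * p ^ i) (fun b => rfl) (by omega) (by omega) (by omega) hcf hy)
    hcount h

theorem rule45 (hc : Cfg p a b H φ) (C : Cx ι p a (Rk f φ)) (hp : p = 5) (h0 : 0 ∉ cf (Sy.{u, u, v} ι p) (R0 f φ))
    {i : ℕ} (hi : i < a) (hcount : (cf (Sy.{u, u, v} ι p) (R0 f φ)).count (4 * p ^ i) ≤ 3) :
    ¬ InSoc ι p (R0 f φ) (4 * p ^ i) := by
  have ha : 2 ≤ a := by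
    have h7 := C.seven
    rw [C.card, hp] at h7
    by_contra h
    have : a = 0 ∨ a = 1 := by omega
    rcases this with h | h <;> rw [h] at h7 <;> norm_num at h7
  exact no4 hc C (C.hQ (Or.inr ha) (Or.inr ha)) hi (fun y hy => C.hv5 emW hp hi h0 hy) hcount

end Cfsg.Agent.R2.F4L
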