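import Cfsg.Agent.R2.F4L.FourC
import Cfsg.Agent.R2.H1.F4.E4

/-!
# The rules for the socle of the 26-dimensional module, `p ≥ 5` (helper2, S5931)

* `Cx` : the context over `k` (representation `ρ` on `J = I27 → k`); `Em ρ σ j` : `σ` on `V` is the representation on `J_0`,
  `j : V → J` the embedding;
* `Cx.ruleS` : the symmetric square of a submodule of `V` has a nontrivial factor in the socle;
* `Cx.sq_single`, `Cx.n11`;
* `ts_of_isV` : tuples of submodules.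
-/

set_option autoImplicit false
set_option linter.unusedSectionVars false
set_option linter.unusedVariables false

namespace Cfsg.Agent.R2.F4L

open Cfsg.Lie
open Cfsg.Agent.ChevalleyStructure.E6Min.Tables Cfsg.Agent.ChevalleyStructure.E6Min.Basic
open Cfsg.Agent.H952.F4 (sh cr tf tr1 u0)
open Cfsg.Agent.H952.F4.Jord
open Cfsg.Agent.H943.SL2Rel Cfsg.Agent.H943.SL2Mod Cfsg.Agent.R2.H28.SL2 Cfsg.Agent.H943.RepAdd

universe u v w

variable {k : Type u} [Field k] [DecidableEq k] {K : Type w} [Field K] [Fintype K] [DecidableEq K] {ι : K →+* k}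
variable {p : ℕ} [Fact p.Prime] [CharP k p] [CharP K p] {a : ℕ}
variable {ρ : Representation k (Matrix.SpecialLinearGroup (Fin 2) K) (I27 → k)}
variable {V : Type v} [AddCommGroup V] [Module k V] {σ : Representation k (Matrix.SpecialLinearGroup (Fin 2) K) V}
variable {j : V →ₗ[k] (I27 → k)}

/-- `σ` is the representation on `J_0` -/
structure Em (ρ : Representation k (Matrix.SpecialLinearGroup (Fin 2) K) (I27 → k))
    (σ : Representation k (Matrix.SpecialLinearGroup (Fin 2) K) V) (j : V →ₗ[k] (I27 → k)) : Prop where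
  inj : Function.Injective j
  tr : ∀ x, tr1 (j x) = 0
  sur : ∀ y, tr1 y = 0 → ∃ x, j x = y
  eqv : ∀ g x, j (σ g x) = ρ g (j x)

/-- the context -/
structure Cx (ι : K →+* k) (p : ℕ) [Fact p.Prime] [CharP k p] [CharP K p] (a : ℕ)
    (ρ : Representation k (Matrix.SpecialLinearGroup (Fin 2) K) (I27 → k)) : Prop where
  act : Act ρ
  hp5 : 5 ≤ p
  card : Fintype.card K = p ^ a
  seven : 7 ≤ Fintype.card K
  fix : ∀ y : I27 → k, (∀ g, ρ g y = y) → ∃ c : k, y = c • u0 k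
  white : ∀ W : Submodule k (I27 → k), (∀ g, ∀ x ∈ W, ρ g x ∈ W) → (∀ x ∈ W, sh x = 0) → W = ⊥

theorem Cx.two (C : Cx ι p a ρ) : (2 : k) ≠ 0 := two_ne p (by have := C.hp5; omega)

theorem Cx.three (C : Cx ι p a ρ) : (3 : k) ≠ 0 := three_ne p (by have := C.hp5; omega)

theorem Cx.fix0 (C : Cx ι p a ρ) {y : I27 → k} (hy : tr1 y = 0) (h : ∀ g, ρ g y = y) : y = 0 := by
  obtain ⟨c, hc⟩ := C.fix y h
  rw [hc, tr1_smul, tr1_u0] at hy
  rw [hc, (mul_eq_zero.1 hy).resolve_right C.three, zero_smul]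

theorem Act.st {A : Type*} [Group A] {ρ : Representation k A (I27 → k)} (H : Act ρ) (g : A) (x y : I27 → k) :
    ρ g (R2.H1.F4.st x y) = R2.H1.F4.st (ρ g x) (ρ g y) := by
  unfold R2.H1.F4.st
  rw [map_add, map_smul, H.cr, H.u0, H.tf]

/-- the product on `V`, as a function -/
noncomputable def stF (E : Em ρ σ j) (h3 : (3 : k) ≠ 0) (x y : V) : V :=
  (E.sur _ (R2.H1.F4.tr1_st h3 (y := j y) (E.tr x))).choose

theorem j_stF (E : Em ρ σ j) (h3 : (3 : k) ≠ 0) (x y : V) : j (stF E h3 x y) = R2.H1.F4.st (j x) (j y) :=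
  (E.sur _ (R2.H1.F4.tr1_st h3 (y := j y) (E.tr x))).choose_spec

/-- the product on `V` -/
noncomputable def stV (E : Em ρ σ j) (h3 : (3 : k) ≠ 0) : V →ₗ[k] V →ₗ[k] V :=
  LinearMap.mk₂ k (stF E h3)
    (fun x x' y => E.inj (by rw [map_add, j_stF, j_stF, j_stF, map_add, R2.H1.F4.st_add_left]))
    (fun c x y => E.inj (by rw [map_smul, j_stF, j_stF, map_smul, R2.H1.F4.st_smul_left]))
    (fun x y y' => E.inj (by rw [map_add, j_stF, j_stF, j_stF, map_add, R2.H1.F4.st_add_right]))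
    (fun c x y => E.inj (by rw [map_smul, j_stF, j_stF, map_smul, R2.H1.F4.st_smul_right]))

theorem j_stV (E : Em ρ σ j) (h3 : (3 : k) ≠ 0) (x y : V) : j (stV E h3 x y) = R2.H1.F4.st (j x) (j y) := j_stF E h3 x y

theorem stV_comm (E : Em ρ σ j) (h3 : (3 : k) ≠ 0) (x y : V) : stV E h3 x y = stV E h3 y x := by
  apply E.inj
  rw [j_stV, j_stV, R2.H1.F4.st_comm]

theorem stV_eqv (E : Em ρ σ j) (H : Act ρ) (h3 : (3 : k) ≠ 0) (g : Matrix.SpecialLinearGroup (Fin 2) K) (x y : V) :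
    stV E h3 (σ g x) (σ g y) = σ g (stV E h3 x y) := by
  apply E.inj
  rw [j_stV, E.eqv, E.eqv, E.eqv, j_stV, H.st]

/-- the image in `J` of a submodule of `J_0` -/
theorem inv_map (E : Em ρ σ j) {X : Submodule k V} (hX : ∀ g, ∀ x ∈ X, σ g x ∈ X) :
    ∀ g, ∀ x ∈ X.map j, ρ g x ∈ X.map j := by
  rintro g _ ⟨x, hx, rfl⟩
  exact ⟨_, hX g x hx, E.eqv g x⟩

/-- white submodules -/
theorem Cx.white_bot (C : Cx ι p a ρ) (E : Em ρ σ j) {X : Submodule k V} (hX : ∀ g, ∀ x ∈ X, σ g x ∈ X)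
    (h : ∀ x ∈ X, sh (j x) = 0) : X = ⊥ := by
  have hw := C.white (X.map j) (inv_map E hX) (by
    rintro _ ⟨x, hx, rfl⟩
    exact h x hx)
  rw [eq_bot_iff]
  intro x hx
  have h1 : j x ∈ X.map j := ⟨x, hx, rfl⟩
  rw [hw, Submodule.mem_bot] at h1
  exact (Submodule.mem_bot k).2 (E.inj (by rw [h1, map_zero]))

theorem Cx.not_inSoc_zero (C : Cx ι p a ρ) (E : Em ρ σ j) : ¬ InSoc ι p σ 0 := by
  rintro ⟨X, hX, hV⟩
  obtain ⟨v, hv⟩ := IsV.bas ι p hV
  -- a vector of the trivial module is fixed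
  have hB : Bf k 0 = {0} := by
    ext m
    rw [mem_Bf, Finset.mem_singleton]
    constructor
    · exact fun h => Nat.le_zero.1 h.1
    · rintro rfl
      exact ⟨le_rfl, by rw [Nat.choose_self, Nat.cast_one]; exact one_ne_zero⟩
  have h0 : (0 : ℕ) ∈ Bf k 0 := by rw [hB]; exact Finset.mem_singleton_self 0
  have hfix : ∀ g, (subRep σ X hX) g (v 0) = v 0 := by
    intro g
    refine fix_of (V := X) (fun t => ?_) (fun b => ?_) ?_ g
    · rw [hv.u 0 h0 t]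
      simp
    · rw [hv.h 0 h0 b]
      simp
    · rw [hv.w 0 h0]
      simp
  have hv0 : v 0 ≠ 0 := hv.li.ne_zero (⟨0, h0⟩ : Bf k 0)
  apply hv0
  apply Subtype.ext
  apply E.inj
  rw [C.fix0 (E.tr (v 0)) fun g => by rw [← E.eqv]; exact congrArg (fun z : X => j (z : V)) (hfix g)]
  exact (map_zero j).symm

section Alg

variable [IsAlgClosed k] [FiniteDimensional k V]

/-- **rule (S)** -/
theorem Cx.ruleS (C : Cx ι p a ρ) (E : Em ρ σ j) {X : Submodule k V} (hX : ∀ g, ∀ x ∈ X, σ g x ∈ X) (hX0 : X ≠ ⊥) :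
    ∃ c, c ∈ cf (Sy.{u, v, w} ι p) (Sq (subRep σ X hX)) ∧ c ≠ 0 ∧ InSoc ι p σ c := by
  have h0 : (stV E C.three).compl₁₂ X.subtype X.subtype ≠ 0 := by
    intro h
    apply hX0
    refine C.white_bot E hX fun x hx => ?_
    refine R2.H1.F4.sh_of_sq C.two C.three (E.tr x) ?_
    have h1 := congrArg (fun f : X →ₗ[k] X →ₗ[k] V => j (f ⟨x, hx⟩ ⟨x, hx⟩)) h
    change j (stV E C.three x x) = j 0 at h1
    rwa [j_stV, map_zero] at h1
  obtain ⟨c, hc1, hc2⟩ := soc_of_sq ι p (σ := subRep σ X hX) (ρ := σ) ((stV E C.three).compl₁₂ X.subtype X.subtype)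
    (fun x y => stV_comm E C.three _ _) (fun g x y => stV_eqv E C.act C.three g _ _) h0
  refine ⟨c, hc1, ?_, hc2⟩
  rintro rfl
  exact C.not_inSoc_zero E hc2

/-- single digits -/
theorem Cx.sq_single (C : Cx ι p a ρ) (E : Em ρ σ j) {n i : ℕ} (hn : n < p) (hi : i < a) (h : InSoc ι p σ (n * p ^ i)) :
    ∃ c ∈ sqs p a i n, c ≠ 0 ∧ InSoc ι p σ c := by
  obtain ⟨X, hX, hV⟩ := h
  have hX0 : X ≠ ⊥ := by
    rw [← Submodule.nontrivial_iff_ne_bot]
    exact (IsV.irr ι p hV).1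
  obtain ⟨c, h1, h2, h3⟩ := C.ruleS E hX hX0
  rw [cf_sq_single ι p C.card hn hi hV] at h1
  exact ⟨c, h1, h2, h3⟩

/-- **rule (R11)** -/
theorem Cx.n11 (C : Cx ι p a ρ) (E : Em ρ σ j) {i l : ℕ} (hi : i < a) (hl : l < a) (hil : i ≠ l)
    (h : InSoc ι p σ (p ^ i + p ^ l)) :
    2 * p ^ i + 2 * p ^ l ∈ cf (Sy.{u, v, w} ι p) σ := by
  obtain ⟨X, hX, hV⟩ := h
  have hX0 : X ≠ ⊥ := by
    rw [← Submodule.nontrivial_iff_ne_bot]
    exact (IsV.irr ι p hV).1
  obtain ⟨c, h1, h2, h3⟩ := C.ruleS E hX hX0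
  rw [sq_11 ι p C.card (by have := C.hp5; omega) hil hi hl hV, Multiset.insert_eq_cons, Multiset.mem_cons,
    Multiset.mem_singleton] at h1
  rcases h1 with rfl | rfl
  · exact h3.mem_cf ι p
  · exact absurd rfl h2

end Alg

/-- tuples of submodules of type `n p ^ i` -/
theorem ts_of_isV (E : Em ρ σ j) {n i : ℕ} (hn : n < p) {X : Submodule k V} {hX : ∀ g, ∀ x ∈ X, σ g x ∈ X}
    (hV : IsV ι p (subRep σ X hX) (n * p ^ i)) :
    ∃ x : ℕ → V, TS ι p σ n i x ∧ TS ι p ρ n i (fun s => j (x s)) ∧ (∀ s, x s ∈ X) ∧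
      X = Submodule.span k (Set.range x) ∧ ∀ s ≤ n, x s ≠ 0 := by
  obtain ⟨v, hv⟩ := IsV.basS ι p hn hV
  have h1 : TS ι p σ n i (fun s => (v s : V)) := BasS.ts hv
  refine ⟨fun s => (v s : V), h1, ⟨fun s hs => ?_, fun s hs t => ?_, fun s hs b => ?_, fun s hs => ?_⟩,
    fun s => (v s).2, le_antisymm (fun y hy => ?_) ?_, fun s hs h => ?_⟩
  · show j (v s : V) = 0
    rw [h1.zero s hs, map_zero]
  · show ρ (u t) (j (v s : V)) = _
    rw [← E.eqv, h1.u s hs, map_sum]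
    exact Finset.sum_congr rfl fun _ _ => map_smul _ _ _
  · show ρ (Cfsg.Agent.H943.SL2Rel.h b) (j (v s : V)) = _
    rw [← E.eqv, h1.h s hs, map_smul]
  · show ρ Cfsg.Agent.H943.SL2Rel.w (j (v s : V)) = _
    rw [← E.eqv, h1.w s hs, map_smul]
  · have h2 : (⟨y, hy⟩ : X) ∈ Submodule.span k (Set.range fun s : Fin (n + 1) => v s) := hv.sp trivial
    have h3 := Submodule.mem_map_of_mem (f := X.subtype) h2
    rw [Submodule.map_span] at h3
    refine Submodule.span_mono ?_ h3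
    rintro _ ⟨_, ⟨s, rfl⟩, rfl⟩
    exact ⟨s, rfl⟩
  · rw [Submodule.span_le]
    rintro _ ⟨s, rfl⟩
    exact (v s).2
  · exact hv.li.ne_zero (⟨s, Nat.lt_succ_iff.2 hs⟩ : Fin (n + 1)) (Subtype.ext h)

end Cfsg.Agent.R2.F4L
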