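import Cfsg.Agent.R2.F4L.A7Dat
import Cfsg.Agent.R2.F4T.Asm

/-!
# The data of the case `T(8) + 4 + 6` for `R0` (helper2, S5931)
-/

set_option autoImplicit false
set_option linter.unusedSectionVars false

namespace Cfsg.Agent.R2.F4L.A7

open Cfsg Cfsg.Lie Module Matrix
open Cfsg.Agent.ChevalleyStructure.E6Min.Basic
open Cfsg.Agent.H952.F4 Cfsg.Agent.H952.F4.Jord
open Cfsg.Agent.H952.F4.FixV (W0 mem_W0 finrank_W0 u0_ne_zero)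
open Cfsg.Agent.R2.F4M
open Cfsg.Agent.R2.H28.SL2 Cfsg.Agent.H943.RepAdd
open Cfsg.Agent.R2.F4L (Cx Em)
open Cfsg.Agent.R2.F4T Cfsg.Agent.R2.H1.A7

universe u v

variable {F : Type u} [Field F] [Fintype F] {K : Type v} [Field K] [Fintype K] {p a b : ℕ}
variable {H : Subgroup ↥(chevF4.group F)} {φ : ProjectiveSpecialLinearGroup (Fin 2) K →* ↥(chevF4.group F)}
variable {k : Type u} [Field k] [DecidableEq k] [DecidableEq K] [IsAlgClosed k]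
variable [Fact p.Prime] [CharP k p] [CharP K p] {ι : K →+* k} (f : F →+* k)

/-- **the data from the hypotheses of `Tb.alpha7`** (hypothesis `hA` of `F4T.fin5`) -/
theorem dat0 (h : Cfg p a b H φ) (C : Cx ι p a (Rk f φ)) (hp : p = 7) (r : ℕ) (Y M T X : Submodule k ↥(W0 k))
    (hM : ∀ g, ∀ x ∈ M, R0 f φ g x ∈ M) (hT : ∀ g, ∀ x ∈ T, R0 f φ g x ∈ T) (hX : ∀ g, ∀ x ∈ X, R0 f φ g x ∈ X)
    (hMn : Nd (tf0 k) M) (hTn : Nd (tf0 k) T) (hYM : ∀ x ∈ Y, ∀ y ∈ M, tf0 k x y = 0)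
    (hYT : ∀ x ∈ Y, ∀ y ∈ T, tf0 k x y = 0) (hMT : ∀ x ∈ M, ∀ y ∈ T, tf0 k x y = 0) (hsup : Y ⊔ M ⊔ T = ⊤)
    (hMV : IsV (V := ↥M) ι p (subRep (R0 f φ) M hM) (4 * p ^ r))
    (hTV : IsV (V := ↥T) ι p (subRep (R0 f φ) T hT) (6 * p ^ r)) (hXY : X ≤ Y)
    (hXV : IsV (V := ↥X) ι p (subRep (R0 f φ) X hX) (4 * p ^ r)) (hXi : Iso (tf0 k) X)
    (hu : ∀ (Z : Submodule k ↥(W0 k)) (hZ : ∀ g, ∀ x ∈ Z, R0 f φ g x ∈ Z) (c : ℕ),
      IsV (V := ↥Z) ι p (subRep (R0 f φ) Z hZ) c → Z ≤ Y → Z = X)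
    (h4 : (cf (Sy.{u, u, v} ι p) (R0 f φ)).count (4 * p ^ r) = 3)
    (hc1 : ∀ c, c ≠ 4 * p ^ r → (cf (Sy.{u, u, v} ι p) (R0 f φ)).count c ≤ 1) :
    ∃ x m v, Dat ((iterateFrobenius k p r).comp ι) (Rk f φ) x m v := by
  have hK : p ≤ Fintype.card K := by
    rw [h.cardK]
    exact Nat.le_self_pow (by have := h.ha; omega) p
  exact exists_dat (σ := R0 f φ) (P := tf0 k) (j := (W0 k).subtype) C (em0 (φ := φ) f)
    (H27.F4Th.sd_R0 (f := f) (φ := φ) C.three) (fun x y => tf0_apply x y) (by omega) hK hM hT hX hMn hTn hYM hYT hMT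
    hsup hMV hTV hXY hXV hXi hu h4 hc1

end Cfsg.Agent.R2.F4L.A7
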