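import Cfsg.Agent.R2.F4L.Two

/-!
# Images of Weyl modules and the square of a tuple of type `(4, i)` (helper2, S5931)

* `WT ι p ρ n i z` : `z 0, …, z n` transform like the divided power basis of the Weyl module of highest weight `n p ^ i`;
* `wt_of_bot`; `WT.span_st` : the span is stable; `WT.gen` : it is generated by `z n`;
* `Ds x` : the tuple `D_m = ∑ C(4,a) C(4,b) x_a * x_b`, `a + b = m`; `wt_Ds`.
-/

set_option autoImplicit false
set_option linter.unusedSectionVars false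
set_option linter.unusedVariables false

namespace Cfsg.Agent.R2.F4L

open Cfsg.Lie
open Cfsg.Agent.ChevalleyStructure.E6Min.Tables Cfsg.Agent.ChevalleyStructure.E6Min.Basic
open Cfsg.Agent.H952.F4 (sh cr tf tr1 u0)
open Cfsg.Agent.H952.F4.Jord
open Cfsg.Agent.H943.SL2Rel Cfsg.Agent.H943.SL2Mod Cfsg.Agent.R2.H28.SL2 Cfsg.Agent.H943.RepAdd

universe u v w

variable {k : Type u} [Field k] [DecidableEq k] {K : Type w} [Field K] [Fintype K] [DecidableEq K] {ι : K →+* k}
variable {p : ℕ} [Fact p.Prime] [CharP k p] [CharP K p] {a : ℕ}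

section Gen

variable {V : Type v} [AddCommGroup V] [Module k V] {ρ : Representation k (Matrix.SpecialLinearGroup (Fin 2) K) V}
variable {n i : ℕ} {z : ℕ → V}

/-- the image of the divided power basis of a Weyl module -/
structure WT (ι : K →+* k) (p : ℕ) (ρ : Representation k (Matrix.SpecialLinearGroup (Fin 2) K) V) (n i : ℕ) (z : ℕ → V) :
    Prop where
  zero : ∀ s, n < s → z s = 0
  u : ∀ s ≤ n, ∀ t, ρ (u t) (z s) =
    ∑ j ∈ Finset.range (n - s + 1), (((s + j).choose s : k) * (ι t ^ p ^ i) ^ j) • z (s + j)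
  h : ∀ s ≤ n, ∀ a : Kˣ, ρ (h a) (z s) = ((ι a ^ p ^ i) ^ s * ((ι a ^ p ^ i)⁻¹) ^ (n - s)) • z s
  w : ∀ s ≤ n, ρ w (z s) = (-1 : k) ^ s • z (n - s)

/-- the binomial expansion with vector coefficients -/
theorem binom_vec' (A τ : k) (z : ℕ → V) (n : ℕ) :
    ∑ m ∈ Finset.range (n + 1), ((A + τ) ^ m) • z m =
      ∑ s ∈ Finset.range (n + 1), A ^ s • ∑ j ∈ Finset.range (n - s + 1), (((s + j).choose s : k) * τ ^ j) • z (s + j) := by
  have h1 : ∀ m ∈ Finset.range (n + 1), ((A + τ) ^ m) • z m =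
      ∑ s ∈ Finset.range (n + 1), (A ^ s * τ ^ (m - s) * (m.choose s : k)) • z m := by
    intro m hm
    rw [Finset.mem_range] at hm
    rw [add_pow, Finset.sum_smul]
    have hsub : Finset.range (m + 1) ⊆ Finset.range (n + 1) := Finset.range_mono (by omega)
    rw [← Finset.sum_subset hsub (f := fun s => (A ^ s * τ ^ (m - s) * (m.choose s : k)) • z m)]
    intro s _ hs
    rw [Finset.mem_range] at hs
    show (A ^ s * τ ^ (m - s) * (m.choose s : k)) • z m = 0
    rw [Nat.choose_eq_zero_of_lt (by omega)]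
    simp
  rw [Finset.sum_congr rfl h1, Finset.sum_comm]
  refine Finset.sum_congr rfl fun s hs => ?_
  rw [Finset.mem_range] at hs
  rw [Finset.smul_sum]
  have h2 : Finset.range (n + 1) = Finset.range (s + (n - s + 1)) := by
    congr 1
    omega
  rw [h2, Finset.sum_range_add]
  rw [Finset.sum_eq_zero (s := Finset.range s), zero_add]
  · refine Finset.sum_congr rfl fun j hj => ?_
    rw [smul_smul, Nat.add_sub_cancel_left]
    congr 1
    ring
  · intro m hm
    rw [Finset.mem_range] at hm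
    rw [Nat.choose_eq_zero_of_lt hm]
    simp

/-- construction from the lowest weight vector -/
theorem wt_of_bot (hn : n < Fintype.card K) (hz : ∀ s, n < s → z s = 0)
    (hu : ∀ t, ρ (u t) (z 0) = ∑ m ∈ Finset.range (n + 1), ((ι t ^ p ^ i) ^ m) • z m)
    (hh : ∀ b : Kˣ, ρ (h b) (z 0) = (((ι b ^ p ^ i)⁻¹) ^ n) • z 0)
    (hw : ∀ s ≤ n, ρ w (z s) = (-1 : k) ^ s • z (n - s)) : WT ι p ρ n i z := by
  refine ⟨hz, fun s hs t => ?_, fun s hs b => ?_, hw⟩
  · have h1 : ∀ r : K, ∑ s ∈ Finset.range (n + 1), (ι r ^ p ^ i) ^ s • (ρ (u t) (z s) -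
        ∑ j ∈ Finset.range (n - s + 1), (((s + j).choose s : k) * (ι t ^ p ^ i) ^ j) • z (s + j)) = 0 := by
      intro r
      have h2 : ρ (Cfsg.Agent.H943.SL2Rel.u t) (ρ (Cfsg.Agent.H943.SL2Rel.u r) (z 0)) = ρ (Cfsg.Agent.H943.SL2Rel.u (r + t)) (z 0) := by
        rw [add_comm, u_add, map_mul, Module.End.mul_apply]
      rw [hu r, hu (r + t), iota_add, binom_vec', map_sum] at h2
      simp only [smul_sub, Finset.sum_sub_distrib]
      rw [sub_eq_zero, ← h2]
      exact Finset.sum_congr rfl fun s _ => by rw [map_smul]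
    have h2 := poly0 ι (by omega) p i h1 s (by omega)
    exact sub_eq_zero.1 h2
  · have hb0 : ι (b : K) ^ p ^ i ≠ 0 := pow_ne_zero _ ((map_ne_zero ι).2 b.ne_zero)
    have h1 : ∀ r : K, ∑ s ∈ Finset.range (n + 1), (ι r ^ p ^ i) ^ s • (ρ (Cfsg.Agent.H943.SL2Rel.h b) (z s) -
        ((ι b ^ p ^ i) ^ s * ((ι b ^ p ^ i)⁻¹) ^ (n - s)) • z s) = 0 := by
      intro r
      have h2 : ρ (Cfsg.Agent.H943.SL2Rel.h b) (ρ (Cfsg.Agent.H943.SL2Rel.u r) (z 0)) =
          ρ (Cfsg.Agent.H943.SL2Rel.u ((b : K) ^ 2 * r)) (ρ (Cfsg.Agent.H943.SL2Rel.h b) (z 0)) := by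
        rw [← Module.End.mul_apply, ← Module.End.mul_apply, ← map_mul, ← map_mul, h_u]
      rw [hh, map_smul, hu, hu, map_sum, Finset.smul_sum] at h2
      simp only [smul_sub, Finset.sum_sub_distrib]
      rw [sub_eq_zero]
      refine Eq.trans (Finset.sum_congr rfl fun s _ => ?_) (h2.trans (Finset.sum_congr rfl fun s hs => ?_))
      · rw [map_smul]
      · rw [Finset.mem_range] at hs
        rw [smul_smul, smul_smul]
        congr 1
        rw [map_mul, map_pow, mul_pow, ← pow_mul, ← pow_mul, mul_pow, ← pow_mul]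
        have h3 : ((ι b ^ p ^ i)⁻¹) ^ n * ι b ^ (2 * p ^ i * s) = (ι b ^ p ^ i) ^ s * ((ι b ^ p ^ i)⁻¹) ^ (n - s) := by
          have e1 : ((ι (b : K) ^ p ^ i)⁻¹) ^ n = ((ι b ^ p ^ i)⁻¹) ^ s * ((ι b ^ p ^ i)⁻¹) ^ (n - s) := by
            rw [← pow_add]
            congr 1
            omega
          have e2 : ι (b : K) ^ (2 * p ^ i * s) = (ι b ^ p ^ i) ^ s * (ι b ^ p ^ i) ^ s := by
            rw [← pow_add, ← pow_mul]
            congr 1
            ring
          have e3 : ((ι (b : K) ^ p ^ i)⁻¹) ^ s * (ι b ^ p ^ i) ^ s = 1 := by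
            rw [← mul_pow, inv_mul_cancel₀ hb0, one_pow]
          rw [e1, e2]
          calc ((ι (b : K) ^ p ^ i)⁻¹) ^ s * ((ι b ^ p ^ i)⁻¹) ^ (n - s) * ((ι b ^ p ^ i) ^ s * (ι b ^ p ^ i) ^ s)
              = (((ι (b : K) ^ p ^ i)⁻¹) ^ s * (ι b ^ p ^ i) ^ s) * ((ι b ^ p ^ i) ^ s * ((ι b ^ p ^ i)⁻¹) ^ (n - s)) := by ring
            _ = _ := by rw [e3, one_mul]
        rw [← h3]
        ring
    have h2 := poly0 ι (by omega) p i h1 s (by omega)
    exact sub_eq_zero.1 h2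

theorem WT.h' (hz : WT ι p ρ n i z) {s : ℕ} (hs : s ≤ n) (b : Kˣ) :
    ρ (Cfsg.Agent.H943.SL2Rel.h b) (z s) = ((ι b ^ p ^ i) ^ (2 * (s : ℤ) - n)) • z s := by
  rw [hz.h s hs b, pow_wt _ hs]
  exact pow_ne_zero _ ((map_ne_zero ι).2 b.ne_zero)

theorem WT.u_top (hz : WT ι p ρ n i z) (t : K) : ρ (Cfsg.Agent.H943.SL2Rel.u t) (z n) = z n := by
  rw [hz.u n le_rfl t, Nat.sub_self, Finset.sum_range_one, add_zero, Nat.choose_self, Nat.cast_one, pow_zero, mul_one,
    one_smul]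

theorem WT.u_bot (hz : WT ι p ρ n i z) (t : K) :
    ρ (Cfsg.Agent.H943.SL2Rel.u t) (z 0) = ∑ m ∈ Finset.range (n + 1), ((ι t ^ p ^ i) ^ m) • z m := by
  rw [hz.u 0 (Nat.zero_le _) t, Nat.sub_zero]
  refine Finset.sum_congr rfl fun m _ => ?_
  rw [Nat.choose_zero_right, Nat.cast_one, one_mul, zero_add]

/-- the span is stable -/
theorem WT.span_st (hz : WT ι p ρ n i z) : ∀ g, ∀ x ∈ Submodule.span k (Set.range z), ρ g x ∈ Submodule.span k (Set.range z) := by
  have key : ∀ g, (∀ s ≤ n, ρ g (z s) ∈ Submodule.span k (Set.range z)) →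
      ∀ x ∈ Submodule.span k (Set.range z), ρ g x ∈ Submodule.span k (Set.range z) := by
    intro g hg x hx
    have h1 : Submodule.span k (Set.range z) ≤ (Submodule.span k (Set.range z)).comap (ρ g) := by
      rw [Submodule.span_le]
      rintro _ ⟨s, rfl⟩
      show ρ g (z s) ∈ Submodule.span k (Set.range z)
      by_cases hs : s ≤ n
      · exact hg s hs
      · rw [hz.zero s (by omega), map_zero]
        exact Submodule.zero_mem _
    exact h1 hx
  have m : ∀ s, z s ∈ Submodule.span k (Set.range z) := fun s => Submodule.subset_span ⟨s, rfl⟩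
  refine induct (P := fun g => ∀ x ∈ Submodule.span k (Set.range z), ρ g x ∈ Submodule.span k (Set.range z))
    (fun t => key _ fun s hs => ?_) (fun b => key _ fun s hs => ?_) (key _ fun s hs => ?_)
    (fun g g' hg hg' x hx => ?_)
  · rw [hz.u s hs]
    exact Submodule.sum_mem _ fun j _ => Submodule.smul_mem _ _ (m _)
  · rw [hz.h s hs]
    exact Submodule.smul_mem _ _ (m _)
  · rw [hz.w s hs]
    exact Submodule.smul_mem _ _ (m _)
  · rw [map_mul, Module.End.mul_apply]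
    exact hg _ (hg' x hx)

/-- coefficients of a polynomial map with values in a submodule -/
theorem poly_mem {W : Submodule k V} {N : ℕ} (hN : N ≤ Fintype.card K) (i : ℕ) {c : ℕ → V}
    (h : ∀ t : K, ∑ j ∈ Finset.range N, (ι t ^ p ^ i) ^ j • c j ∈ W) : ∀ j < N, c j ∈ W := by
  intro j hj
  have h1 : ∀ t : K, ∑ j ∈ Finset.range N, (ι t ^ p ^ i) ^ j • W.mkQ (c j) = 0 := by
    intro t
    have h2 : W.mkQ (∑ j ∈ Finset.range N, (ι t ^ p ^ i) ^ j • c j) = 0 := (Submodule.Quotient.mk_eq_zero W).2 (h t)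
    rw [map_sum] at h2
    rw [← h2]
    exact Finset.sum_congr rfl fun j _ => (map_smul _ _ _).symm
  exact (Submodule.Quotient.mk_eq_zero W).1 (poly0 ι hN p i h1 j hj)

/-- **generation by the highest weight vector** -/
theorem WT.gen (hz : WT ι p ρ n i z) (hn : n < Fintype.card K) {W : Submodule k V} (hW : ∀ g, ∀ x ∈ W, ρ g x ∈ W)
    (h : z n ∈ W) : ∀ s, z s ∈ W := by
  intro s
  by_cases hs : s ≤ n
  · have h0 : z 0 ∈ W := by
      have h1 := hW Cfsg.Agent.H943.SL2Rel.w _ h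
      rw [hz.w n le_rfl, Nat.sub_self] at h1
      have h2 := W.smul_mem ((-1 : k) ^ n) h1
      rwa [smul_smul, ← mul_pow, neg_one_mul, neg_neg, one_pow, one_smul] at h2
    refine poly_mem (ι := ι) (p := p) (N := n + 1) (by omega) i (c := z) (fun t => ?_) s (by omega)
    rw [← hz.u_bot t]
    exact hW _ _ h0
  · rw [hz.zero s (by omega)]
    exact W.zero_mem

theorem WT.map {V' : Type*} [AddCommGroup V'] [Module k V'] {ρ' : Representation k (Matrix.SpecialLinearGroup (Fin 2) K) V'}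
    (hz : WT ι p ρ n i z) (f : V →ₗ[k] V') (hf : ∀ g x, f (ρ g x) = ρ' g (f x)) : WT ι p ρ' n i (fun s => f (z s)) where
  zero := fun s hs => by rw [hz.zero s hs, map_zero]
  u := fun s hs t => by
    rw [← hf, hz.u s hs, map_sum]
    exact Finset.sum_congr rfl fun j _ => map_smul _ _ _
  h := fun s hs b => by rw [← hf, hz.h s hs, map_smul]
  w := fun s hs => by rw [← hf, hz.w s hs, map_smul]

theorem WT.comap {V' : Type*} [AddCommGroup V'] [Module k V'] {ρ' : Representation k (Matrix.SpecialLinearGroup (Fin 2) K) V'}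
    (f : V →ₗ[k] V') (hf : ∀ g x, f (ρ g x) = ρ' g (f x)) (hi : Function.Injective f)
    (hz : WT ι p ρ' n i (fun s => f (z s))) : WT ι p ρ n i z where
  zero := fun s hs => hi (by rw [map_zero]; exact hz.zero s hs)
  u := fun s hs t => hi (by
    rw [hf, map_sum]
    refine (hz.u s hs t).trans (Finset.sum_congr rfl fun j _ => (map_smul _ _ _).symm))
  h := fun s hs b => hi (by rw [hf, map_smul]; exact hz.h s hs b)
  w := fun s hs => hi (by rw [hf, map_smul]; exact hz.w s hs)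

end Gen

/-! ## The square -/

section Sq

variable {V : Type v} [AddCommGroup V] [Module k V] {σ : Representation k (Matrix.SpecialLinearGroup (Fin 2) K) V}
variable {V' : Type*} [AddCommGroup V'] [Module k V'] {τ : Representation k (Matrix.SpecialLinearGroup (Fin 2) K) V'}
variable {i : ℕ} {x : ℕ → V}

/-- the square of a tuple of type `(4, i)` -/
def Ds (β : V →ₗ[k] V →ₗ[k] V') (x : ℕ → V) : ℕ → V' := fun s => match s with
  | 0 => β (x 0) (x 0)
  | 1 => (8 : k) • β (x 0) (x 1)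
  | 2 => (16 : k) • β (x 1) (x 1) + (12 : k) • β (x 0) (x 2)
  | 3 => (8 : k) • β (x 0) (x 3) + (48 : k) • β (x 1) (x 2)
  | 4 => (36 : k) • β (x 2) (x 2) + (2 : k) • β (x 0) (x 4) + (32 : k) • β (x 1) (x 3)
  | 5 => (48 : k) • β (x 2) (x 3) + (8 : k) • β (x 1) (x 4)
  | 6 => (16 : k) • β (x 3) (x 3) + (12 : k) • β (x 2) (x 4)
  | 7 => (8 : k) • β (x 3) (x 4)
  | 8 => β (x 4) (x 4)
  | _ => 0

variable {β : V →ₗ[k] V →ₗ[k] V'} (hs : ∀ x y, β x y = β y x) (hβ : ∀ g x y, β (σ g x) (σ g y) = τ g (β x y))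

include hs hβ

theorem wt_Ds (hQ : 9 ≤ Fintype.card K) (hx : TS ι p σ 4 i x) : WT ι p τ 8 i (Ds β x) := by
  refine wt_of_bot (by omega) (fun s hs' => ?_) (fun t => ?_) (fun b => ?_) (fun s hs' => ?_)
  · match s with
    | 0 | 1 | 2 | 3 | 4 | 5 | 6 | 7 | 8 => omega
    | s + 9 => rfl
  · show τ (u t) (β (x 0) (x 0)) = _
    rw [← hβ, ts4_u0 hx]
    simp only [Finset.sum_range_succ, Finset.sum_range_zero, zero_add]
    simp only [map_add, map_smul, LinearMap.add_apply, LinearMap.smul_apply]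
    rw [hs (x 1) (x 0), hs (x 2) (x 0), hs (x 3) (x 0), hs (x 4) (x 0), hs (x 2) (x 1), hs (x 3) (x 1), hs (x 4) (x 1),
      hs (x 3) (x 2), hs (x 4) (x 2), hs (x 4) (x 3)]
    simp only [Ds]
    module
  · show τ (h b) (β (x 0) (x 0)) = ((ι b ^ p ^ i)⁻¹) ^ 8 • β (x 0) (x 0)
    rw [← hβ, hx.h 0 (by norm_num), map_smul, map_smul, LinearMap.smul_apply, smul_smul]
    congr 1
    ring
  · have hs'' : s = 0 ∨ s = 1 ∨ s = 2 ∨ s = 3 ∨ s = 4 ∨ s = 5 ∨ s = 6 ∨ s = 7 ∨ s = 8 := by omega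
    rcases hs'' with rfl | rfl | rfl | rfl | rfl | rfl | rfl | rfl | rfl
    all_goals
      simp only [Ds]
      simp only [map_add, map_smul, ← hβ, ts4_w0 hx, ts4_w1 hx, ts4_w2 hx, ts4_w3 hx, ts4_w4 hx, map_neg,
        LinearMap.neg_apply]
      try simp only [hs (x 4) (x 3), hs (x 4) (x 2), hs (x 4) (x 1), hs (x 4) (x 0), hs (x 3) (x 2), hs (x 3) (x 1),
        hs (x 3) (x 0), hs (x 2) (x 1), hs (x 2) (x 0), hs (x 1) (x 0)]
      module

end Sq

end Cfsg.Agent.R2.F4L
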