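import Cfsg.Agent.R2.F4L.Form
import Cfsg.Agent.R2.F4L.Two
import Cfsg.Agent.R2.F4L.Wey
import Cfsg.Agent.R2.F4T.Sd

/-!
# The isotropic `V_{4 p^i}` gives an isotropic `V_{8 p^i}`, `p ≥ 11` (helper2, S5931)

* `Hs`, `ts_Hs` : the Hessian of a tuple; `Ga_fix` : the invariant;
* `Cx.i4`.
-/

set_option autoImplicit false
set_option linter.unusedSectionVars false
set_option linter.unusedVariables false

namespace Cfsg.Agent.R2.F4L

open Cfsg.Lie
open Cfsg.Agent.ChevalleyStructure.E6Min.Tables Cfsg.Agent.ChevalleyStructure.E6Min.Basic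
open Cfsg.Agent.H952.F4 (sh cr tf tr1 u0)
open Cfsg.Agent.H952.F4.Jord
open Cfsg.Agent.H943.SL2Rel Cfsg.Agent.H943.SL2Mod Cfsg.Agent.R2.H28.SL2 Cfsg.Agent.H943.RepAdd
open Cfsg.Agent.R2.F4T (Iso Nd)

universe u v w

variable {k : Type u} [Field k] [DecidableEq k] {K : Type w} [Field K] [Fintype K] [DecidableEq K] {ι : K →+* k}
variable {p : ℕ} [Fact p.Prime] [CharP k p] [CharP K p] {a : ℕ}

section Sq

variable {V : Type v} [AddCommGroup V] [Module k V] {σ : Representation k (Matrix.SpecialLinearGroup (Fin 2) K) V}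
variable {V' : Type*} [AddCommGroup V'] [Module k V'] {τ : Representation k (Matrix.SpecialLinearGroup (Fin 2) K) V'}
variable {i : ℕ} {x : ℕ → V}

/-- the Hessian of a tuple of type `(4, i)` -/
def Hs (β : V →ₗ[k] V →ₗ[k] V') (x : ℕ → V) : ℕ → V' := fun s => match s with
  | 0 => β (x 0) (x 2) - β (x 1) (x 1)
  | 1 => (2 : k)⁻¹ • (β (x 0) (x 3) - β (x 1) (x 2))
  | 2 => (6 : k)⁻¹ • (β (x 0) (x 4) + (2 : k) • β (x 1) (x 3) - (3 : k) • β (x 2) (x 2))
  | 3 => (2 : k)⁻¹ • (β (x 1) (x 4) - β (x 2) (x 3))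
  | 4 => β (x 2) (x 4) - β (x 3) (x 3)
  | _ => 0

/-- the invariant -/
def Ga (β : V →ₗ[k] V →ₗ[k] V') (x : ℕ → V) : V' :=
  β (x 0) (x 4) - (4 : k) • β (x 1) (x 3) + (3 : k) • β (x 2) (x 2)

variable {β : V →ₗ[k] V →ₗ[k] V'} (hs : ∀ x y, β x y = β y x) (hβ : ∀ g x y, β (σ g x) (σ g y) = τ g (β x y))

include hs hβ

theorem ts_Hs (hp5 : 5 ≤ p) (hx : TS ι p σ 4 i x) : TS ι p τ 4 i (Hs β x) := by
  have h2 : (2 : k) ≠ 0 := two_ne p (by omega)
  have h6 : (6 : k) ≠ 0 := six_ne p hp5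
  refine ts_of_bot (by omega) (fun s hs' => ?_) (fun t => ?_) (fun b => ?_) (fun s hs' => ?_)
  · match s with
    | 0 | 1 | 2 | 3 | 4 => omega
    | s + 5 => rfl
  · show τ (u t) (β (x 0) (x 2) - β (x 1) (x 1)) = _
    rw [map_sub, ← hβ, ← hβ, ts4_u0 hx, ts4_u1 hx, ts4_u2 hx]
    simp only [Finset.sum_range_succ, Finset.sum_range_zero, zero_add, Nat.choose]
    simp only [map_add, map_smul, LinearMap.add_apply, LinearMap.smul_apply]
    rw [hs (x 2) (x 1), hs (x 3) (x 1), hs (x 4) (x 1), hs (x 3) (x 2), hs (x 4) (x 2), hs (x 4) (x 3)]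
    simp only [Hs]
    match_scalars <;> field_simp <;> ring
  · have hb0 : ι (b : K) ^ p ^ i ≠ 0 := pow_ne_zero _ ((map_ne_zero ι).2 b.ne_zero)
    show τ (h b) (β (x 0) (x 2) - β (x 1) (x 1)) = ((ι b ^ p ^ i)⁻¹) ^ 4 • (β (x 0) (x 2) - β (x 1) (x 1))
    rw [map_sub, ← hβ, ← hβ, hx.h 0 (by norm_num), hx.h 1 (by norm_num), hx.h 2 (by norm_num)]
    simp only [map_smul, LinearMap.smul_apply, smul_smul, smul_sub]
    congr 2
    all_goals
      norm_num
    all_goals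
      field_simp
  · have hs'' : s = 0 ∨ s = 1 ∨ s = 2 ∨ s = 3 ∨ s = 4 := by omega
    rcases hs'' with rfl | rfl | rfl | rfl | rfl
    all_goals
      simp only [Hs]
      simp only [map_add, map_sub, map_smul, ← hβ, ts4_w0 hx, ts4_w1 hx, ts4_w2 hx, ts4_w3 hx, ts4_w4 hx, map_neg,
        LinearMap.neg_apply]
      try simp only [hs (x 4) (x 3), hs (x 4) (x 2), hs (x 4) (x 1), hs (x 4) (x 0), hs (x 3) (x 2), hs (x 3) (x 1),
        hs (x 3) (x 0), hs (x 2) (x 1), hs (x 2) (x 0), hs (x 1) (x 0)]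
      module

theorem Ga_fix (hx : TS ι p σ 4 i x) (g : Matrix.SpecialLinearGroup (Fin 2) K) : τ g (Ga β x) = Ga β x := by
  refine fix_of (fun t => ?_) (fun b => ?_) ?_ g
  · show τ (u t) (β (x 0) (x 4) - (4 : k) • β (x 1) (x 3) + (3 : k) • β (x 2) (x 2)) =
      β (x 0) (x 4) - (4 : k) • β (x 1) (x 3) + (3 : k) • β (x 2) (x 2)
    rw [map_add, map_sub, map_smul, map_smul, ← hβ, ← hβ, ← hβ, ts4_u0 hx, ts4_u1 hx, ts4_u2 hx, ts4_u3 hx, ts4_u4 hx]
    simp only [map_add, map_smul, LinearMap.add_apply, LinearMap.smul_apply]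
    rw [hs (x 3) (x 2), hs (x 4) (x 2), hs (x 4) (x 3)]
    module
  · have hb0 : ι (b : K) ^ p ^ i ≠ 0 := pow_ne_zero _ ((map_ne_zero ι).2 b.ne_zero)
    show τ (h b) (β (x 0) (x 4) - (4 : k) • β (x 1) (x 3) + (3 : k) • β (x 2) (x 2)) =
      β (x 0) (x 4) - (4 : k) • β (x 1) (x 3) + (3 : k) • β (x 2) (x 2)
    rw [map_add, map_sub, map_smul, map_smul, ← hβ, ← hβ, ← hβ, ts4_h hx (by norm_num), ts4_h hx (by norm_num),
      ts4_h hx (by norm_num), ts4_h hx (by norm_num), ts4_h hx (by norm_num)]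
    simp only [map_smul, LinearMap.smul_apply, smul_smul, ← zpow_add₀ hb0]
    norm_num
  · show τ w (β (x 0) (x 4) - (4 : k) • β (x 1) (x 3) + (3 : k) • β (x 2) (x 2)) =
      β (x 0) (x 4) - (4 : k) • β (x 1) (x 3) + (3 : k) • β (x 2) (x 2)
    simp only [map_add, map_sub, map_smul, ← hβ, ts4_w0 hx, ts4_w1 hx, ts4_w2 hx, ts4_w3 hx, ts4_w4 hx, map_neg,
        LinearMap.neg_apply, neg_neg]
    rw [hs (x 4) (x 0), hs (x 3) (x 1)]

end Sq

section Emb

variable {ρ : Representation k (Matrix.SpecialLinearGroup (Fin 2) K) (I27 → k)}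
variable {V : Type v} [AddCommGroup V] [Module k V] {σ : Representation k (Matrix.SpecialLinearGroup (Fin 2) K) V}
variable {j : V →ₗ[k] (I27 → k)} {i : ℕ}

/-- isotropic vectors : `T(v ∘ v, v ∘ v) = 0` -/
theorem quart (E : Em ρ σ j) (h2 : (2 : k) ≠ 0) (h3 : (3 : k) ≠ 0) {v : V} (hv : Pj j v v = 0) :
    Pj j (stV E h3 v v) (stV E h3 v v) = 0 := by
  rw [Pj_apply] at hv
  rw [Pj_apply, j_stV]
  unfold R2.H1.F4.st
  rw [hv, zero_div, zero_smul, add_zero, cr_self]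
  have h4 := tr1_sh (sh (j v))
  rw [sh_sh, tr1_smul, E.tr, mul_zero, mul_zero] at h4
  have h5 := tr1_sh (j v)
  rw [E.tr, hv] at h5
  have h6 : tr1 (sh (j v)) = 0 := by
    have : (2 : k) * tr1 (sh (j v)) = 0 := by rw [h5]; ring
    exact (mul_eq_zero.1 this).resolve_left h2
  rw [h6] at h4
  rw [tf_smul_left, tf_smul_right]
  linear_combination (4 : k) * h4

section Alg

variable [IsAlgClosed k] [FiniteDimensional k V]

/-- a tuple with nonvanishing highest product -/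
theorem Cx.exists_top (C : Cx ι p a ρ) (E : Em ρ σ j) (hQ : 11 ≤ Fintype.card K) (hi : i < a)
    (hc : (cf (Sy.{u, v, w} ι p) σ).count (4 * p ^ i) ≤ 3) (hsoc : InSoc ι p σ (4 * p ^ i))
    (hiso : ∀ (X : Submodule k V) (hX : ∀ g, ∀ x ∈ X, σ g x ∈ X), IsV ι p (subRep σ X hX) (4 * p ^ i) → Iso (Pj j) X) :
    ∃ x : ℕ → V, TS ι p σ 4 i x ∧ stV E C.three (x 4) (x 4) ≠ 0 := by
  have hp5 := C.hp5
  have hb := C.lt_card (n := 4) (i := i) (by omega) hi
  by_contra hcon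
  push Not at hcon
  have hv : ∀ y, TS ι p ρ 4 i y → sh (y 4) = 0 := by
    intro y hy
    obtain ⟨x, hx, ex⟩ := E.lift C.act (by omega) (by norm_num) hb hy
    have h11 := congrArg j (hcon x hx)
    rw [j_stV, map_zero, ex] at h11
    refine R2.H1.F4.sh_of_sq C.two C.three ?_ h11
    rw [← ex]
    exact E.tr _
  obtain ⟨z, hz, hzz, -⟩ := C.dead4 E hQ hi hv hc hsoc
  obtain ⟨x, hx, ex⟩ := E.lift C.act (by omega) (by norm_num) hb hz
  have hx0 : x ≠ 0 := by
    rintro rfl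
    apply hzz
    rw [← ex]
    show tf (j 0) (j 0) = 0
    rw [map_zero, tf_zero_left]
  obtain ⟨hX, hV⟩ := hx.isV (by omega) hb hx0
  have h1 := hiso _ hX hV (x 2) (Submodule.subset_span ⟨2, rfl⟩) (x 2) (Submodule.subset_span ⟨2, rfl⟩)
  rw [Pj_apply, ex] at h1
  exact hzz h1

/-- **an isotropic `V_{8 p^i}`** -/
theorem Cx.i4 (C : Cx ι p a ρ) (E : Em ρ σ j) (hp : 11 ≤ p) (hi : i < a)
    (hc : (cf (Sy.{u, v, w} ι p) σ).count (4 * p ^ i) ≤ 3) (hsoc : InSoc ι p σ (4 * p ^ i))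
    (hiso : ∀ (X : Submodule k V) (hX : ∀ g, ∀ x ∈ X, σ g x ∈ X), IsV ι p (subRep σ X hX) (4 * p ^ i) → Iso (Pj j) X) :
    ∃ (Y : Submodule k V) (hY : ∀ g, ∀ x ∈ Y, σ g x ∈ Y), IsV ι p (subRep σ Y hY) (8 * p ^ i) ∧ Iso (Pj j) Y := by
  have hp5 := C.hp5
  have hpr : p.Prime := Fact.out
  have hQ : 11 ≤ Fintype.card K := C.hQ (Or.inl (by omega)) (Or.inl (by omega))
  have hb := C.lt_card (n := 4) (i := i) (by omega) hi
  have hb8 := C.lt_card (n := 8) (i := i) (by omega) hi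
  have h2 := C.two
  have h3 := C.three
  obtain ⟨x, hx, hx4⟩ := C.exists_top E hQ hi hc hsoc hiso
  set β := stV E C.three with hβd
  have hs : ∀ x y, β x y = β y x := stV_comm E C.three
  have hβ : ∀ g x y, β (σ g x) (σ g y) = σ g (β x y) := fun g x y => stV_eqv E C.act C.three g x y
  have hinv : ∀ g x y, Pj j (σ g x) (σ g y) = Pj j x y := (E.dul C.act C.three).1
  have hxne : x ≠ 0 := by
    rintro rfl
    apply hx4
    show β 0 0 = 0
    rw [map_zero]
  have isoT : ∀ y : ℕ → V, TS ι p σ 4 i y → ∀ s t, Pj j (y s) (y t) = 0 := by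
    intro y hy s t
    by_cases hy0 : y = 0
    · rw [hy0]
      show Pj j 0 0 = 0
      rw [map_zero]
    · obtain ⟨hX, hV⟩ := hy.isV (by omega) hb hy0
      exact hiso _ hX hV _ (Submodule.subset_span ⟨s, rfl⟩) _ (Submodule.subset_span ⟨t, rfl⟩)
  have hD := wt_Ds hs hβ (by omega) hx
  set D := Ds β x with hDd
  have hch : ∀ m ≤ 8, ((8 : ℕ).choose m : k) ≠ 0 := fun m hm => choose_ne' k (by omega : 8 < p) hm
  let z : ℕ → V := fun m => ((8 : ℕ).choose m : k)⁻¹ • D m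
  have hz : TS ι p σ 8 i z := by
    refine ts_of_bot (by omega) (fun s hs' => ?_) (fun t => ?_) (fun b => ?_) (fun s hs' => ?_)
    · show ((8 : ℕ).choose s : k)⁻¹ • D s = 0
      rw [hD.zero s hs', smul_zero]
    · show σ (u t) (((8 : ℕ).choose 0 : k)⁻¹ • D 0) = _
      rw [Nat.choose_zero_right, Nat.cast_one, inv_one, one_smul, hD.u_bot]
      refine Finset.sum_congr rfl fun m hm => ?_
      rw [Finset.mem_range] at hm
      show _ = (((8 : ℕ).choose m : k) * (ι t ^ p ^ i) ^ m) • ((8 : ℕ).choose m : k)⁻¹ • D m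
      rw [smul_smul]
      congr 1
      have := hch m (by omega)
      field_simp
    · show σ (h b) (((8 : ℕ).choose 0 : k)⁻¹ • D 0) = ((ι b ^ p ^ i)⁻¹) ^ 8 • ((8 : ℕ).choose 0 : k)⁻¹ • D 0
      rw [Nat.choose_zero_right, Nat.cast_one, inv_one, one_smul, hD.h 0 (by norm_num)]
      norm_num
    · show σ w (((8 : ℕ).choose s : k)⁻¹ • D s) = (-1 : k) ^ s • ((8 : ℕ).choose (8 - s) : k)⁻¹ • D (8 - s)
      rw [map_smul, hD.w s hs', Nat.choose_symm hs', smul_comm]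
  have hb' := ts_Hs hs hβ hp5 hx
  set B := Hs β x with hBd
  have hG : Ga β x = 0 := by
    apply E.inj
    rw [map_zero]
    exact C.fix0 (E.tr _) fun g => by rw [← E.eqv, Ga_fix hs hβ hx]
  -- the products
  have hz8 : z 8 = β (x 4) (x 4) := by
    show ((8 : ℕ).choose 8 : k)⁻¹ • D 8 = _
    rw [Nat.choose_self, Nat.cast_one, inv_one, one_smul]
    rfl
  have hz0 : z 0 = β (x 0) (x 0) := by
    show ((8 : ℕ).choose 0 : k)⁻¹ • D 0 = _
    rw [Nat.choose_zero_right, Nat.cast_one, inv_one, one_smul]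
    rfl
  have h70 : (70 : k) ≠ 0 := by
    have := hch 4 (by norm_num)
    rwa [show (8 : ℕ).choose 4 = 70 by decide, Nat.cast_ofNat] at this
  have hbig : ∀ m : ℕ, 0 < m → (∀ q, q.Prime → q ∣ m → q ≤ 7) → (m : k) ≠ 0 := by
    intro m hm hq h0
    have h1 : p ∣ m := (CharP.cast_eq_zero_iff k p m).1 h0
    have := hq p hpr h1
    omega
  have h04 : β (x 0) (x 4) = z 4 + ((24 : k) / 7) • B 2 := by
    have e1 : z 4 = (70 : k)⁻¹ • D 4 := by
      show ((8 : ℕ).choose 4 : k)⁻¹ • D 4 = _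
      rw [show (8 : ℕ).choose 4 = 70 by decide, Nat.cast_ofNat]
    have e2 : B 2 = (6 : k)⁻¹ • (β (x 0) (x 4) + (2 : k) • β (x 1) (x 3) - (3 : k) • β (x 2) (x 2)) := rfl
    have e3 : D 4 = (36 : k) • β (x 2) (x 2) + (2 : k) • β (x 0) (x 4) + (32 : k) • β (x 1) (x 3) := rfl
    have e4 : β (x 0) (x 4) - (4 : k) • β (x 1) (x 3) + (3 : k) • β (x 2) (x 2) = 0 := hG
    have h6 : (6 : k) ≠ 0 := six_ne p hp5
    have h7 : (7 : k) ≠ 0 := by
      intro h7
      apply h70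
      rw [show (70 : k) = 7 * 10 by norm_num, h7, zero_mul]
    have h5 : (5 : k) ≠ 0 := by
      intro h7
      apply h70
      rw [show (70 : k) = 5 * 14 by norm_num, h7, zero_mul]
    rw [e1, e2, e3]
    have e5 : ((2 : k) / 5) • (β (x 0) (x 4) - (4 : k) • β (x 1) (x 3) + (3 : k) • β (x 2) (x 2)) = 0 := by
      rw [e4, smul_zero]
    rw [← add_zero ((70 : k)⁻¹ • _ + _), ← e5]
    match_scalars <;> field_simp <;> ring
  -- the form
  have hzz : ∀ s ≤ 8, ∀ t ≤ 8, Pj j (z s) (z t) =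
      if s + t = 8 then (-1) ^ s * ((8 : ℕ).choose s : k)⁻¹ * Pj j (z 0) (z 8) else 0 :=
    fun s hs' t ht => ts_form hinv (by omega) hz hz hs' ht
  have hzne : z ≠ 0 := by
    intro h0
    apply hx4
    rw [← hz8, h0]
    rfl
  obtain ⟨hY, hVY⟩ := hz.isV (by omega) hb8 hzne
  have hzB : ∀ s t, Pj j (z s) (B t) = 0 ∧ Pj j (B t) (z s) = 0 := by
    intro s t
    by_cases hB0 : B = 0
    · rw [hB0]
      show Pj j (z s) 0 = 0 ∧ Pj j 0 (z s) = 0
      rw [map_zero, map_zero]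
      exact ⟨rfl, rfl⟩
    · obtain ⟨hX, hVX⟩ := hb'.isV (by omega) hb hB0
      have hne : 8 * p ^ i ≠ 4 * p ^ i := by
        have := Nat.pow_pos (n := i) hpr.pos
        omega
      exact ⟨orth_ne (E.dul C.act C.three) hne hVY hVX _ (Submodule.subset_span ⟨s, rfl⟩) _ (Submodule.subset_span ⟨t, rfl⟩),
        orth_ne (E.dul C.act C.three) hne.symm hVX hVY _ (Submodule.subset_span ⟨t, rfl⟩) _ (Submodule.subset_span ⟨s, rfl⟩)⟩
  have hBB := isoT B hb'
  -- the quartic relation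
  have hq : Pj j (β (x 0 + x 4) (x 0 + x 4)) (β (x 0 + x 4) (x 0 + x 4)) = 0 := by
    refine quart E h2 C.three ?_
    have := isoT x hx
    rw [map_add, map_add, LinearMap.add_apply, LinearMap.add_apply, this, this, this, this]
    norm_num
  have e1 : β (x 0 + x 4) (x 0 + x 4) = z 0 + (2 : k) • (z 4 + ((24 : k) / 7) • B 2) + z 8 := by
    rw [← h04, hz0, hz8]
    simp only [map_add, LinearMap.add_apply]
    rw [hs (x 4) (x 0)]
    module
  have hk : Pj j (z 0) (z 8) = 0 := by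
    have e80 : Pj j (z 8) (z 0) = Pj j (z 0) (z 8) := by
      rw [Pj_apply, Pj_apply, tf_comm]
    have e44 : Pj j (z 4) (z 4) = (70 : k)⁻¹ * Pj j (z 0) (z 8) := by
      rw [hzz 4 (by norm_num) 4 (by norm_num), if_pos rfl, show (8 : ℕ).choose 4 = 70 by decide]
      norm_num
    rw [e1] at hq
    simp only [map_add, map_smul, LinearMap.add_apply, LinearMap.smul_apply, smul_eq_mul, (hzB _ _).1, (hzB _ _).2, hBB,
      hzz 0 (by norm_num) 0 (by norm_num), hzz 0 (by norm_num) 4 (by norm_num), hzz 4 (by norm_num) 0 (by norm_num),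
      hzz 8 le_rfl 4 (by norm_num), hzz 4 (by norm_num) 8 le_rfl, hzz 8 le_rfl 8 le_rfl] at hq
    norm_num at hq
    rw [e80, e44] at hq
    have h144 : (144 : k) ≠ 0 := by
      intro h0
      have h1 : ((144 : ℕ) : k) = 0 := by exact_mod_cast h0
      refine hbig 144 (by norm_num) (fun q hq hd => ?_) h1
      have h2 : q ∣ 2 ^ 4 * 3 ^ 2 := by norm_num; exact hd
      rcases (Nat.Prime.dvd_mul hq).1 h2 with h3 | h3
      · have := Nat.le_of_dvd (by norm_num) (hq.dvd_of_dvd_pow h3)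
        omega
      · have := Nat.le_of_dvd (by norm_num) (hq.dvd_of_dvd_pow h3)
        omega
    have h5 : (144 : k) * Pj j (z 0) (z 8) = 0 := by
      field_simp at hq
      linear_combination hq
    exact (mul_eq_zero.1 h5).resolve_left h144
  refine ⟨_, hY, hVY, fun m hm m' hm' => ?_⟩
  have hz' : ∀ s t, Pj j (z s) (z t) = 0 := by
    intro s t
    by_cases hs8 : s ≤ 8
    · by_cases ht8 : t ≤ 8
      · rw [hzz s hs8 t ht8, hk]
        simp
      · rw [hz.zero t (by omega), map_zero]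
    · rw [hz.zero s (by omega), map_zero]
      rfl
  induction hm using Submodule.span_induction with
  | mem m hm =>
    obtain ⟨s, rfl⟩ := hm
    induction hm' using Submodule.span_induction with
    | mem m' hm' =>
      obtain ⟨t, rfl⟩ := hm'
      exact hz' s t
    | zero => rw [map_zero]
    | add a b _ _ ha hb => rw [map_add, ha, hb, add_zero]
    | smul c a _ ha => rw [map_smul, ha, smul_zero]
  | zero => rw [map_zero, LinearMap.zero_apply]
  | add a b _ _ ha hb => rw [map_add, LinearMap.add_apply, ha, hb, add_zero]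
  | smul c a _ ha => rw [map_smul, LinearMap.smul_apply, ha, smul_zero]

end Alg

end Emb

end Cfsg.Agent.R2.F4L
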