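import Cfsg.Agent.R2.F4L.TupD
import Cfsg.Agent.R2.H28.SL2.L22

/-!
# Pairs of submodules (helper2, S5931)

* `orth_ne` : submodules with different labels are orthogonal;
* `tens_zero` : products of submodules with disjoint labels;
* `Cx.big44` : `V_{4 p^i + 4 p^l}` is too large;
* `Cx.iso4` : if the tuples of type `(4, i)` are multiples of a non-isotropic `z`, the tuples of type `(4, l)` are isotropic
  (`l ≠ i`); `Cx.pair2` : two non-isotropic tuples of types `(2, i)`, `(2, l)` do not exist.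
-/

set_option autoImplicit false
set_option linter.unusedSectionVars false
set_option linter.unusedVariables false

namespace Cfsg.Agent.R2.F4L

open Cfsg.Lie
open Cfsg.Agent.ChevalleyStructure.E6Min.Tables Cfsg.Agent.ChevalleyStructure.E6Min.Basic
open Cfsg.Agent.H952.F4 (sh cr tf tr1 u0)
open Cfsg.Agent.H952.F4.Jord
open Cfsg.Agent.H943.SL2Rel Cfsg.Agent.H943.SL2Mod Cfsg.Agent.R2.H28.SL2 Cfsg.Agent.H943.RepAdd
open Cfsg.Agent.R2.GEO (tfB tfB_apply)
open scoped TensorProduct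

universe u v w

variable {k : Type u} [Field k] [DecidableEq k] {K : Type w} [Field K] [Fintype K] [DecidableEq K] {ι : K →+* k}
variable {p : ℕ} [Fact p.Prime] [CharP k p] [CharP K p] {a : ℕ}

/-- labels of dimension 5 -/
theorem card_five (hp5 : 5 ≤ p) (b : ℕ) : (Bf k b).card = 5 → ∃ l, b = 4 * p ^ l := by
  have hp : p.Prime := Fact.out
  induction b using Nat.strong_induction_on with
  | _ b ih =>
    intro hb5
    rcases Nat.eq_zero_or_pos b with rfl | hb
    · rw [card_Bf_zero] at hb5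
      omega
    have h1 := card_Bf_low k p b
    have h2 := ih (b / p) (Nat.div_lt_self hb hp.one_lt)
    have h3 := Nat.div_add_mod b p
    have h0 := (card_cases k p (by omega) (b / p)).1
    obtain ⟨r, hr⟩ : ∃ r, r = b % p := ⟨_, rfl⟩
    obtain ⟨b', hb'⟩ : ∃ b', b' = b / p := ⟨_, rfl⟩
    obtain ⟨d, hd⟩ : ∃ d, d = (Bf k (b / p)).card := ⟨_, rfl⟩
    rw [← hr, ← hd, hb5] at h1
    rw [← hd, ← hb'] at h2 h0
    rw [← hr, ← hb'] at h3
    have h4 : (r + 1) ∣ 5 := ⟨d, h1⟩
    rcases (Nat.dvd_prime Nat.prime_five).1 h4 with h5 | h5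
    · rw [h5, one_mul] at h1
      obtain ⟨l, hl⟩ := h2 h1.symm
      refine ⟨l + 1, ?_⟩
      rw [← h3, hl, pow_succ, show r = 0 by omega]
      ring
    · rw [h5] at h1
      have h6 : d = 1 := by omega
      have h7 := h0 h6
      refine ⟨0, ?_⟩
      rw [← h3, h7, show r = 4 by omega]
      norm_num

section Gen

variable [IsAlgClosed k]
variable {V : Type v} [AddCommGroup V] [Module k V] [FiniteDimensional k V]
  {σ : Representation k (Matrix.SpecialLinearGroup (Fin 2) K) V}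

/-- **different labels are orthogonal** -/
theorem orth_ne {P : V →ₗ[k] V →ₗ[k] k} (D : Dul σ σ P) {b c : ℕ} (hbc : b ≠ c) {X Y : Submodule k V}
    {hX : ∀ g, ∀ x ∈ X, σ g x ∈ X} {hY : ∀ g, ∀ x ∈ Y, σ g x ∈ Y} (hVX : IsV ι p (subRep σ X hX) b)
    (hVY : IsV ι p (subRep σ Y hY) c) : ∀ x ∈ X, ∀ y ∈ Y, P x y = 0 := by
  rcases IsV.inf_or_le ι p hVY (D.orth_inv hX) with h | h
  · exfalso
    obtain ⟨B, D', -⟩ := D.sub hX
    have h2 := cf_dual ι p D'
    rw [cf_irr (Sy.{u, v, w} ι p) hVX] at h2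
    have h3 : c ∈ cf (Sy.{u, v, w} ι p) (quotRep σ (orth P X) (D.orth_inv hX)) := by
      refine InSoc.mem_cf ι p (inSoc_of_hom ι p hVY ((orth P X).mkQ ∘ₗ Y.subtype) (fun g x => ?_) ?_)
      · rw [LinearMap.comp_apply, LinearMap.comp_apply, quotRep_mk]
        rfl
      · intro h0
        obtain ⟨y, hy⟩ := @exists_ne Y (IsV.irr ι p hVY).1 0
        apply hy
        have h4 : ((orth P X).mkQ) (y : V) = 0 := LinearMap.congr_fun h0 y
        rw [Submodule.mkQ_apply, Submodule.Quotient.mk_eq_zero] at h4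
        have h5 : (y : V) ∈ Y ⊓ orth P X := ⟨y.2, h4⟩
        rw [h, Submodule.mem_bot] at h5
        exact Subtype.ext h5
    rw [h2, Multiset.mem_singleton] at h3
    exact hbc h3.symm
  · exact fun x hx y hy => h hy x hx

/-- **products of submodules with disjoint labels** -/
theorem tens_zero (hF : Fintype.card K = p ^ a) {b c : ℕ} (hbc : ∀ i < a, b / p ^ i % p = 0 ∨ c / p ^ i % p = 0)
    {X Y : Submodule k V} {hX : ∀ g, ∀ x ∈ X, σ g x ∈ X} {hY : ∀ g, ∀ x ∈ Y, σ g x ∈ Y} (hVX : IsV ι p (subRep σ X hX) b)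
    (hVY : IsV ι p (subRep σ Y hY) c) (hno : ¬ InSoc ι p σ (b + c)) {β : V →ₗ[k] V →ₗ[k] V}
    (hβ : ∀ g x y, β (σ g x) (σ g y) = σ g (β x y)) {x y : V} (hx : x ∈ X) (hy : y ∈ Y) : β x y = 0 := by
  have h1 := isV_tens ι p hF hVX hVY hbc
  let T : (X ⊗[k] Y) →ₗ[k] V := TensorProduct.lift (β.compl₁₂ X.subtype Y.subtype)
  have hT : ∀ (x : X) (y : Y), T (x ⊗ₜ y) = β x y := fun x y => TensorProduct.lift.tmul x y
  have hTe : ∀ g z, T ((subRep σ X hX).tprod (subRep σ Y hY) g z) = σ g (T z) := by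
    intro g z
    induction z using TensorProduct.induction_on with
    | zero => rw [map_zero, map_zero, map_zero]
    | tmul x y => rw [Representation.tprod_apply, TensorProduct.map_tmul, hT, hT]; exact hβ g x y
    | add x y hx hy => rw [map_add, map_add, map_add, hx, hy, map_add]
  by_contra hne
  refine hno (inSoc_of_hom ι p h1 T hTe fun h0 => hne ?_)
  have h2 : T ((⟨x, hx⟩ : X) ⊗ₜ (⟨y, hy⟩ : Y)) = 0 := by rw [h0]; rfl
  rw [hT] at h2
  exact h2

end Gen

section Emb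

variable {ρ : Representation k (Matrix.SpecialLinearGroup (Fin 2) K) (I27 → k)}
variable {V : Type v} [AddCommGroup V] [Module k V] {σ : Representation k (Matrix.SpecialLinearGroup (Fin 2) K) V}
variable {j : V →ₗ[k] (I27 → k)} {n i : ℕ}
variable [IsAlgClosed k] [FiniteDimensional k V]

/-- `V_{4 p^i + 4 p^l}` is too large -/
theorem Cx.big44 (C : Cx ι p a ρ) (h26 : Module.finrank k V = 26) {i l : ℕ} (hil : i ≠ l) (hi : i < a) (hl : l < a) {c : ℕ}
    (hc : c ∈ cf (Sy.{u, v, w} ι p) σ) (hc2 : 2 ≤ (Bf k c).card) (hc25 : (Bf k c).card ≠ 25) :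
    ¬ InSoc ι p σ (4 * p ^ i + 4 * p ^ l) := by
  have hp5 := C.hp5
  intro h
  obtain ⟨Y, hY, hV⟩ := id h
  have h5 := hV.dim_pair ι C.card (by omega) (by omega) hil hi hl
  have h5' := (IsV.hw2 ι p hV)
  obtain ⟨-, -, -, -, -, -, h5', -⟩ := h5'
  have h7 := InSoc.mem_cf ι p h
  have h9 := finrank_cf ι p _ _ σ le_rfl
  obtain ⟨s, hs⟩ := Multiset.exists_cons_of_mem h7
  have h10 : c ∈ s := by
    rw [hs] at hc
    refine (Multiset.mem_cons.1 hc).resolve_left fun e => hc25 ?_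
    rw [e, ← h5', h5]
  obtain ⟨s', hs'⟩ := Multiset.exists_cons_of_mem h10
  rw [hs, hs', Multiset.map_cons, Multiset.map_cons, Multiset.sum_cons, Multiset.sum_cons, h26, ← h5', h5] at h9
  omega

end Emb

end Cfsg.Agent.R2.F4L
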