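import Cfsg.Agent.R2.F4L.TwoD
import Cfsg.Agent.R2.F4L.Pair
import Cfsg.Agent.R2.H28.SL2.L22
import Cfsg.Agent.R2.F4T.Sd

/-!
# `V_{2 p^i + 2 p^j}` is not in the socle (helper2, S5931)

* `exists_tens` : the tensor decomposition of a submodule, with its two-digit tuple;
* `Cx.iso22`, `Cx.orth22` : submodules of this type are isotropic and pairwise orthogonal;
* `Cx.n22`.
-/

set_option autoImplicit false
set_option linter.unusedSectionVars false
set_option linter.unusedVariables false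

namespace Cfsg.Agent.R2.F4L

open Cfsg.Lie
open Cfsg.Agent.ChevalleyStructure.E6Min.Tables Cfsg.Agent.ChevalleyStructure.E6Min.Basic
open Cfsg.Agent.H952.F4 (sh cr tf tr1 u0)
open Cfsg.Agent.H952.F4.Jord
open Cfsg.Agent.H943.SL2Rel Cfsg.Agent.H943.SL2Mod Cfsg.Agent.R2.H28.SL2 Cfsg.Agent.H943.RepAdd
open Cfsg.Agent.R2.F4T (Iso Nd)
open scoped TensorProduct

universe u v w x

variable {k : Type u} [Field k] [DecidableEq k] {K : Type w} [Field K] [Fintype K] [DecidableEq K] {ι : K →+* k}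
variable {p : ℕ} [Fact p.Prime] [CharP k p] [CharP K p] {a : ℕ}
variable [IsAlgClosed k]

section Gen

variable {V : Type v} [AddCommGroup V] [Module k V] {σ : Representation k (Matrix.SpecialLinearGroup (Fin 2) K) V}

/-- the tensor decomposition of a submodule -/
theorem exists_tens (hF : Fintype.card K = p ^ a) (hp3 : 3 ≤ p) {i j : ℕ} (hij : i ≠ j) (hi : i < a) (hj : j < a)
    {X : Submodule k V} {hX : ∀ g, ∀ x ∈ X, σ g x ∈ X} (hb : IsV ι p (subRep σ X hX) (2 * p ^ i + 2 * p ^ j)) :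
    ∃ (A B : Type (max u w)) (_ : AddCommGroup A) (_ : Module k A) (_ : AddCommGroup B) (_ : Module k B)
      (σA : Representation k (Matrix.SpecialLinearGroup (Fin 2) K) A)
      (σB : Representation k (Matrix.SpecialLinearGroup (Fin 2) K) B) (e : A ⊗[k] B ≃ₗ[k] X) (x : ℕ → A) (y : ℕ → B),
      IsV ι p σA (2 * p ^ i) ∧ IsV ι p σB (2 * p ^ j) ∧ (∀ g z, e (σA.tprod σB g z) = subRep σ X hX g (e z)) ∧
      BasS ι p σA 2 i x ∧ BasS ι p σB 2 j y ∧ TP ι p σ i j (fun s s' => ((e (x s ⊗ₜ y s') : X) : V)) ∧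
      (∀ m ∈ X, m ∈ Submodule.span k (Set.range fun s : Fin 3 × Fin 3 => ((e (x s.1 ⊗ₜ y s.2) : X) : V))) := by
  obtain ⟨A, B, _, _, _, _, σA, σB, hA, hB, e, he⟩ := hb.split ι p hF (fun l _ => digit_disj p (by omega) (by omega) hij l)
    (single_lt p (by omega) hi) (single_lt p (by omega) hj)
  obtain ⟨x, hx⟩ := hA.basS ι p (by omega)
  obtain ⟨y, hy⟩ := hB.basS ι p (by omega)
  refine ⟨A, B, _, _, _, _, σA, σB, e, x, y, hA, hB, he, hx, hy, ⟨fun t => ?_, fun t => ?_, fun s hs s' hs' => ?_⟩, ?_⟩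
  · have h1 : σ (u t) ((e (x 0 ⊗ₜ y 0) : X) : V) = ((e (σA (u t) (x 0) ⊗ₜ σB (u t) (y 0)) : X) : V) :=
      congrArg Subtype.val (he (u t) (x 0 ⊗ₜ y 0)).symm
    rw [h1, hx.u 0 (by norm_num), hy.u 0 (by norm_num)]
    simp only [Finset.sum_range_succ, Finset.sum_range_zero, zero_add, Nat.sub_zero, TensorProduct.add_tmul,
      TensorProduct.tmul_add, ← TensorProduct.smul_tmul', TensorProduct.tmul_smul, map_add, map_smul, Submodule.coe_add,
      Submodule.coe_smul]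
    module
  · have h1 : σ (u t) ((e (x 2 ⊗ₜ y 2) : X) : V) = ((e (σA (u t) (x 2) ⊗ₜ σB (u t) (y 2)) : X) : V) :=
      congrArg Subtype.val (he (u t) (x 2 ⊗ₜ y 2)).symm
    rw [h1, hx.u 2 le_rfl, hy.u 2 le_rfl]
    simp
  · have h1 : σ w ((e (x s ⊗ₜ y s') : X) : V) = ((e (σA w (x s) ⊗ₜ σB w (y s')) : X) : V) :=
      congrArg Subtype.val (he w (x s ⊗ₜ y s')).symm
    rw [h1, hx.w s hs, hy.w s' hs', TensorProduct.smul_tmul_smul, map_smul]
    rfl
  · intro m hm
    let B₁ : Module.Basis (Fin 3) k A := Module.Basis.mk hx.li hx.sp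
    let B₂ : Module.Basis (Fin 3) k B := Module.Basis.mk hy.li hy.sp
    obtain ⟨z, hz⟩ := e.surjective ⟨m, hm⟩
    have h1 : m = ((e z : X) : V) := by rw [hz]
    rw [h1, ← (B₁.tensorProduct B₂).sum_repr z, map_sum]
    rw [Submodule.coe_sum]
    refine Submodule.sum_mem _ fun st _ => ?_
    rw [map_smul]
    refine Submodule.smul_mem _ _ (Submodule.subset_span ⟨st, ?_⟩)
    show ((e (x st.1 ⊗ₜ y st.2) : X) : V) = _
    rw [Module.Basis.tensorProduct_apply']
    show _ = ((e ((Module.Basis.mk hx.li hx.sp) st.1 ⊗ₜ[k] (Module.Basis.mk hy.li hy.sp) st.2) : X) : V)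
    rw [Module.Basis.mk_apply, Module.Basis.mk_apply]

end Gen

section Emb

variable {ρ : Representation k (Matrix.SpecialLinearGroup (Fin 2) K) (I27 → k)}
variable {V : Type v} [AddCommGroup V] [Module k V] {σ : Representation k (Matrix.SpecialLinearGroup (Fin 2) K) V}
variable {j : V →ₗ[k] (I27 → k)} {i l : ℕ} [FiniteDimensional k V]

/-- the products are alternating -/
theorem Cx.alt22 (C : Cx ι p a ρ) (E : Em ρ σ j) (hi : i < a) (hl : l < a) (hil : i ≠ l)
    (h4i : ¬ InSoc ι p σ (4 * p ^ i)) (h4l : ¬ InSoc ι p σ (4 * p ^ l)) (h44 : ¬ InSoc ι p σ (4 * p ^ i + 4 * p ^ l))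
    {A B : Type x} [AddCommGroup A] [Module k A] [AddCommGroup B] [Module k B]
    {σA : Representation k (Matrix.SpecialLinearGroup (Fin 2) K) A}
    {σB : Representation k (Matrix.SpecialLinearGroup (Fin 2) K) B} (hA : IsV ι p σA (2 * p ^ i))
    (hB : IsV ι p σB (2 * p ^ l)) (f : A ⊗[k] B →ₗ[k] V) (hf : ∀ g z, f (σA.tprod σB g z) = σ g (f z)) (m m' : A)
    (n n' : B) :
    stV E C.three (f (m ⊗ₜ n)) (f (m' ⊗ₜ n')) + stV E C.three (f (m ⊗ₜ n')) (f (m' ⊗ₜ n)) = 0 := by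
  have hp5 := C.hp5
  have := hA.finite
  have := hB.finite
  exact quad_zero ι p σA σB σ ((stV E C.three).compl₁₂ f f) (fun z z' => stV_comm E C.three _ _) (fun g z z' => by
    show stV E C.three (f _) (f _) = σ g (stV E C.three (f z) (f z'))
    rw [hf, hf]
    exact stV_eqv E C.act C.three g _ _) (by
    rw [cf_sqsq ι C.card (by omega) hil hi hl hA hB]
    intro c hc
    simp only [Multiset.insert_eq_cons, Multiset.mem_cons, Multiset.mem_singleton] at hc
    rcases hc with rfl | rfl | rfl | rfl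
    · exact h44
    · exact h4i
    · exact h4l
    · exact C.not_inSoc_zero E) m m' n n'

/-- the top vector of a two-digit tuple in the orthogonal space -/
theorem orth_of_top {X Y : Submodule k V} {hX : ∀ g, ∀ x ∈ X, σ g x ∈ X} {b : ℕ} (D : Dul σ σ (Pj j))
    (hVX : IsV ι p (subRep σ X hX) b) (hY : ∀ g, ∀ x ∈ Y, σ g x ∈ Y) {m : V} (hm : m ∈ X) (hm0 : m ≠ 0)
    (h : ∀ y ∈ Y, Pj j m y = 0) : ∀ x ∈ X, ∀ y ∈ Y, Pj j x y = 0 := by
  have h2 : ∀ y ∈ Y, Pj j y m = 0 := fun y hy => by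
    have := h y hy
    rw [Pj_apply] at this ⊢
    rw [tf_comm]
    exact this
  rcases IsV.inf_or_le ι p hVX (D.orth_inv hY) with h1 | h1
  · exfalso
    apply hm0
    have h3 : m ∈ X ⊓ orth (Pj j) Y := ⟨hm, h2⟩
    rwa [h1, Submodule.mem_bot] at h3
  · intro x hx y hy
    have h3 := h1 hx y hy
    rw [Pj_apply] at h3 ⊢
    rw [tf_comm]
    exact h3

/-- **submodules of type `(2, i), (2, l)` are isotropic** -/
theorem Cx.iso22 (C : Cx ι p a ρ) (E : Em ρ σ j) (hi : i < a) (hl : l < a) (hil : i ≠ l)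
    (h4i : ¬ InSoc ι p σ (4 * p ^ i)) (h4l : ¬ InSoc ι p σ (4 * p ^ l)) (h44 : ¬ InSoc ι p σ (4 * p ^ i + 4 * p ^ l))
    {X : Submodule k V} {hX : ∀ g, ∀ x ∈ X, σ g x ∈ X} (hb : IsV ι p (subRep σ X hX) (2 * p ^ i + 2 * p ^ l)) :
    ∀ x ∈ X, ∀ y ∈ X, Pj j x y = 0 := by
  have hp5 := C.hp5
  have hinv : ∀ g x y, Pj j (σ g x) (σ g y) = Pj j x y := (E.dul C.act C.three).1
  obtain ⟨A, B, _, _, _, _, σA, σB, e, x, y, hA, hB, he, hx, hy, hT, hsp⟩ :=
    exists_tens C.card (by omega) hil hi hl hb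
  let f : A ⊗[k] B →ₗ[k] V := X.subtype ∘ₗ (e : A ⊗[k] B →ₗ[k] X)
  have hf : ∀ g z, f (σA.tprod σB g z) = σ g (f z) := fun g z => congrArg Subtype.val (he g z)
  have h11 : Pj j (f (x 1 ⊗ₜ y 1)) (f (x 1 ⊗ₜ y 1)) = 0 := by
    have h1 := C.alt22 E hi hl hil h4i h4l h44 hA hB f hf (x 1) (x 1) (y 1) (y 1)
    rw [← two_smul k] at h1
    have h2 := (smul_eq_zero.1 h1).resolve_left C.two
    have h3 := congrArg j h2
    rw [j_stV, map_zero] at h3
    exact R2.H1.F4.iso_of_sq C.two C.three (E.tr _) h3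
  have hc := tp_form11 C.card (by omega) hil hi hl hinv hT hT
  rw [show Pj j ((e (x 1 ⊗ₜ y 1) : X) : V) ((e (x 1 ⊗ₜ y 1) : X) : V) = 0 from h11, mul_zero] at hc
  have hc2 := tp_form2 C.card (by omega) hil hi hl hinv hT hT
  rw [hc] at hc2
  refine orth_of_top (E.dul C.act C.three) hb hX (m := ((e (x 2 ⊗ₜ y 2) : X) : V)) (e (x 2 ⊗ₜ y 2)).2 ?_ ?_
  · intro h0
    have h1 : x 2 ⊗ₜ[k] y 2 = 0 := e.injective (Subtype.ext (by rw [h0, map_zero]; rfl))
    let B₁ : Module.Basis (Fin 3) k A := Module.Basis.mk hx.li hx.sp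
    let B₂ : Module.Basis (Fin 3) k B := Module.Basis.mk hy.li hy.sp
    have h2 := (B₁.tensorProduct B₂).ne_zero (2, 2)
    rw [Module.Basis.tensorProduct_apply'] at h2
    apply h2
    show (Module.Basis.mk hx.li hx.sp) 2 ⊗ₜ[k] (Module.Basis.mk hy.li hy.sp) 2 = 0
    rw [Module.Basis.mk_apply, Module.Basis.mk_apply]
    exact h1
  · intro z hz
    have h1 := hsp z hz
    clear hz
    induction h1 using Submodule.span_induction with
    | mem z hz =>
      obtain ⟨⟨s, s'⟩, rfl⟩ := hz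
      by_cases h : (s : ℕ) ≠ 0 ∨ (s' : ℕ) ≠ 0
      · exact tp_form0 C.card (by omega) hil hi hl hinv hT hT (by omega) (by omega) h
      · push Not at h
        show Pj j _ ((e (x (s : ℕ) ⊗ₜ y (s' : ℕ)) : X) : V) = 0
        rw [h.1, h.2]
        exact hc2
    | zero => rw [map_zero]
    | add a b _ _ ha hb => rw [map_add, ha, hb, add_zero]
    | smul c a _ ha => rw [map_smul, ha, smul_zero]

/-- **submodules of type `(2, i), (2, l)` are orthogonal** -/
theorem Cx.orth22 (C : Cx ι p a ρ) (E : Em ρ σ j) (hi : i < a) (hl : l < a) (hil : i ≠ l)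
    (h4i : ¬ InSoc ι p σ (4 * p ^ i)) (h4l : ¬ InSoc ι p σ (4 * p ^ l)) (h44 : ¬ InSoc ι p σ (4 * p ^ i + 4 * p ^ l))
    {X Y : Submodule k V} {hX : ∀ g, ∀ x ∈ X, σ g x ∈ X} {hY : ∀ g, ∀ x ∈ Y, σ g x ∈ Y}
    (hb : IsV ι p (subRep σ X hX) (2 * p ^ i + 2 * p ^ l)) (hb' : IsV ι p (subRep σ Y hY) (2 * p ^ i + 2 * p ^ l)) :
    ∀ x ∈ X, ∀ y ∈ Y, Pj j x y = 0 := by
  have hp5 := C.hp5
  have hinv : ∀ g x y, Pj j (σ g x) (σ g y) = Pj j x y := (E.dul C.act C.three).1
  rcases IsV.inf_or_le ι p hb hY with hd | hle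
  swap
  · exact fun x hx y hy => C.iso22 E hi hl hil h4i h4l h44 hb' x (hle hx) y hy
  obtain ⟨θ, hθ⟩ := IsV.eqv ι p hb hb'
  let f : X →ₗ[k] V := X.subtype + Y.subtype ∘ₗ (θ : X →ₗ[k] Y)
  have hfx : ∀ x : X, f x = (x : V) + (θ x : V) := fun x => rfl
  have hfe : ∀ g x, f (subRep σ X hX g x) = σ g (f x) := by
    intro g x
    rw [hfx, hfx, hθ, map_add]
    rfl
  have hfi : Function.Injective f := by
    rw [← LinearMap.ker_eq_bot, eq_bot_iff]
    intro x hx
    rw [LinearMap.mem_ker, hfx] at hx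
    have h1 : (x : V) ∈ X ⊓ Y := by
      refine ⟨x.2, ?_⟩
      rw [eq_neg_of_add_eq_zero_left hx]
      exact Submodule.neg_mem _ (θ x).2
    rw [hd, Submodule.mem_bot] at h1
    exact (Submodule.mem_bot k).2 (Subtype.ext h1)
  have hZ : ∀ g, ∀ x ∈ LinearMap.range f, σ g x ∈ LinearMap.range f := by
    rintro g _ ⟨x, rfl⟩
    exact ⟨_, hfe g x⟩
  have hVZ : IsV ι p (subRep σ (LinearMap.range f) hZ) (2 * p ^ i + 2 * p ^ l) :=
    IsV.iso ι p (LinearEquiv.ofInjective f hfi) (fun g x => Subtype.ext (hfe g x)) hb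
  have hanti : ∀ x y : X, Pj j (x : V) (θ y : V) = -Pj j (y : V) (θ x : V) := by
    intro x y
    have h1 := C.iso22 E hi hl hil h4i h4l h44 hVZ (f x) ⟨x, rfl⟩ (f y) ⟨y, rfl⟩
    rw [hfx, hfx, map_add, map_add, LinearMap.add_apply, LinearMap.add_apply,
      C.iso22 E hi hl hil h4i h4l h44 hb x x.2 y y.2, C.iso22 E hi hl hil h4i h4l h44 hb' (θ x) (θ x).2 (θ y) (θ y).2] at h1
    have h2 : Pj j (θ x : V) (y : V) = Pj j (y : V) (θ x : V) := by rw [Pj_apply, Pj_apply, tf_comm]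
    rw [h2] at h1
    linear_combination h1
  obtain ⟨A, B, _, _, _, _, σA, σB, e, x, y, hA, hB, he, hx, hy, hT, hsp⟩ :=
    exists_tens C.card (by omega) hil hi hl hb
  have hT' : TP ι p σ i l (fun s s' => (θ (e (x s ⊗ₜ y s')) : V)) := by
    have key : ∀ g z, σ g (θ z : V) = ((θ (subRep σ X hX g z) : Y) : V) := fun g z => congrArg Subtype.val (hθ g z).symm
    refine ⟨fun t => ?_, fun t => ?_, fun s hs s' hs' => ?_⟩
    · have h1 : subRep σ X hX (u t) (e (x 0 ⊗ₜ y 0)) = ∑ s ∈ Finset.range 3, ∑ s' ∈ Finset.range 3,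
          (((2 : ℕ).choose s : k) * ((2 : ℕ).choose s' : k) * ((ι t ^ p ^ i) ^ s * (ι t ^ p ^ l) ^ s')) • e (x s ⊗ₜ y s') := by
        apply Subtype.ext
        refine (hT.u t).trans ?_
        simp only [Submodule.coe_sum, Submodule.coe_smul]
      rw [key, h1]
      simp only [map_sum, map_smul, Submodule.coe_sum, Submodule.coe_smul]
    · have h1 : subRep σ X hX (u t) (e (x 2 ⊗ₜ y 2)) = e (x 2 ⊗ₜ y 2) := Subtype.ext (hT.top t)
      rw [key, h1]
    · have h1 : subRep σ X hX w (e (x s ⊗ₜ y s')) = ((-1 : k) ^ s * (-1 : k) ^ s') • e (x (2 - s) ⊗ₜ y (2 - s')) :=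
        Subtype.ext (hT.w s hs s' hs')
      rw [key, h1, map_smul]
      rfl
  have hc2 := tp_form2 C.card (by omega) hil hi hl hinv hT hT'
  have hc : Pj j ((e (x 2 ⊗ₜ y 2) : X) : V) (θ (e (x 0 ⊗ₜ y 0)) : V) = 0 := by
    have h1 := hanti (e (x 2 ⊗ₜ y 2)) (e (x 0 ⊗ₜ y 0))
    have h2 : Pj j ((e (x 2 ⊗ₜ y 2) : X) : V) (θ (e (x 0 ⊗ₜ y 0)) : V) =
      Pj j ((e (x 0 ⊗ₜ y 0) : X) : V) (θ (e (x 2 ⊗ₜ y 2)) : V) := hc2
    have h3 : (2 : k) * Pj j ((e (x 2 ⊗ₜ y 2) : X) : V) (θ (e (x 0 ⊗ₜ y 0)) : V) = 0 := by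
      linear_combination h1 + h2
    exact (mul_eq_zero.1 h3).resolve_left C.two
  refine orth_of_top (E.dul C.act C.three) hb hY (m := ((e (x 2 ⊗ₜ y 2) : X) : V)) (e (x 2 ⊗ₜ y 2)).2 ?_ ?_
  · intro h0
    have h1 : x 2 ⊗ₜ[k] y 2 = 0 := e.injective (Subtype.ext (by rw [h0, map_zero]; rfl))
    let B₁ : Module.Basis (Fin 3) k A := Module.Basis.mk hx.li hx.sp
    let B₂ : Module.Basis (Fin 3) k B := Module.Basis.mk hy.li hy.sp
    have h2 := (B₁.tensorProduct B₂).ne_zero (2, 2)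
    rw [Module.Basis.tensorProduct_apply'] at h2
    apply h2
    show (Module.Basis.mk hx.li hx.sp) 2 ⊗ₜ[k] (Module.Basis.mk hy.li hy.sp) 2 = 0
    rw [Module.Basis.mk_apply, Module.Basis.mk_apply]
    exact h1
  · intro z hz
    obtain ⟨z', hz'⟩ := θ.surjective ⟨z, hz⟩
    have hz2 : z = (θ z' : V) := by rw [hz']
    rw [hz2]
    have h1 := hsp z' z'.2
    have h5 : ∀ m ∈ Submodule.span k (Set.range fun s : Fin 3 × Fin 3 => ((e (x s.1 ⊗ₜ y s.2) : X) : V)),
        ∀ hm : m ∈ X, Pj j ((e (x 2 ⊗ₜ y 2) : X) : V) (θ ⟨m, hm⟩ : V) = 0 := by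
      intro m hm
      induction hm using Submodule.span_induction with
      | mem m hm =>
        obtain ⟨⟨s, s'⟩, rfl⟩ := hm
        intro hm
        by_cases h : (s : ℕ) ≠ 0 ∨ (s' : ℕ) ≠ 0
        · exact tp_form0 C.card (by omega) hil hi hl hinv hT hT' (by omega) (by omega) h
        · push Not at h
          show Pj j ((e (x 2 ⊗ₜ y 2) : X) : V) (θ (e (x (s : ℕ) ⊗ₜ y (s' : ℕ))) : V) = 0
          rw [h.1, h.2]
          exact hc
      | zero =>
        intro hm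
        have : (⟨0, hm⟩ : X) = 0 := rfl
        rw [this, map_zero]
        exact map_zero _
      | add a b ha' hb' ha hb =>
        intro hm
        have hle : Submodule.span k (Set.range fun s : Fin 3 × Fin 3 => ((e (x s.1 ⊗ₜ y s.2) : X) : V)) ≤ X := by
          rw [Submodule.span_le]
          rintro _ ⟨s, rfl⟩
          exact (e _).2
        have : (⟨a + b, hm⟩ : X) = ⟨a, hle ha'⟩ + ⟨b, hle hb'⟩ := rfl
        rw [this, map_add, Submodule.coe_add, map_add, ha, hb, add_zero]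
      | smul c a ha' ha =>
        intro hm
        have hle : Submodule.span k (Set.range fun s : Fin 3 × Fin 3 => ((e (x s.1 ⊗ₜ y s.2) : X) : V)) ≤ X := by
          rw [Submodule.span_le]
          rintro _ ⟨s, rfl⟩
          exact (e _).2
        have : (⟨c • a, hm⟩ : X) = c • ⟨a, hle ha'⟩ := rfl
        rw [this, map_smul, Submodule.coe_smul, map_smul, ha, smul_zero]
    exact h5 z' h1 z'.2

/-- **`V_{2 p^i + 2 p^l}` is not in the socle** -/
theorem Cx.n22 (C : Cx ι p a ρ) (E : Em ρ σ j) (hi : i < a) (hl : l < a) (hil : i ≠ l)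
    (h4i : ¬ InSoc ι p σ (4 * p ^ i)) (h4l : ¬ InSoc ι p σ (4 * p ^ l)) (h44 : ¬ InSoc ι p σ (4 * p ^ i + 4 * p ^ l)) :
    ¬ InSoc ι p σ (2 * p ^ i + 2 * p ^ l) := by
  rintro ⟨X, hX, hb⟩
  have hp5 := C.hp5
  have h2 := C.two
  have h3 := C.three
  have D := E.dul C.act C.three
  have hdX : Module.finrank k X = 9 := hb.dim_pair ι C.card (by omega) (by omega) hil hi hl
  obtain ⟨A, B, _, _, _, _, σA, σB, e, x, y, hA, hB, he, hx, hy, hT, hsp⟩ :=
    exists_tens C.card (by omega) hil hi hl hb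
  let f : A ⊗[k] B →ₗ[k] V := X.subtype ∘ₗ (e : A ⊗[k] B →ₗ[k] X)
  have hf : ∀ g z, f (σA.tprod σB g z) = σ g (f z) := fun g z => congrArg Subtype.val (he g z)
  have hfX : ∀ z, f z ∈ X := fun z => (e z).2
  have hiso := C.iso22 E hi hl hil h4i h4l h44 hb
  -- the products
  have hst : ∀ m ∈ X, ∀ m' ∈ X, cr (j m) (j m') = j (stV E C.three m m') := by
    intro m hm m' hm'
    rw [j_stV]
    unfold R2.H1.F4.st
    have h1 := hiso m hm m' hm'
    rw [Pj_apply] at h1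
    rw [h1, zero_div, zero_smul, add_zero]
  let v : Fin 3 → Fin 3 → (I27 → k) := fun s t => j (f (x s ⊗ₜ y t))
  have hc : ∀ s s' t t', cr (v s t) (v s' t') + cr (v s t') (v s' t) = 0 := by
    intro s s' t t'
    show cr (j (f _)) (j (f _)) + cr (j (f _)) (j (f _)) = 0
    rw [hst _ (hfX _) _ (hfX _), hst _ (hfX _) _ (hfX _), ← map_add, C.alt22 E hi hl hil h4i h4l h44 hA hB f hf, map_zero]
  have hvX : Xv v = X.map j := by
    apply le_antisymm
    · refine Submodule.span_le.2 ?_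
      rintro _ ⟨⟨s, t⟩, rfl⟩
      exact ⟨_, hfX _, rfl⟩
    · rintro _ ⟨m, hm, rfl⟩
      have h1 := Submodule.mem_map_of_mem (f := j) (hsp m hm)
      rw [Submodule.map_span] at h1
      refine Submodule.span_mono ?_ h1
      rintro _ ⟨_, ⟨s, rfl⟩, rfl⟩
      exact ⟨s, rfl⟩
  have hXs := inv_map E hX
  have hIy : ∀ g, ∀ m ∈ Iy v, ρ g m ∈ Iy v := by
    intro g m hm
    unfold Iy at hm
    induction hm using Submodule.span_induction with
    | mem m hm =>
      obtain ⟨⟨s, t⟩, rfl⟩ := hm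
      show ρ g (cr _ _) ∈ _
      rw [C.act.cr]
      refine cr_Xv h2 hc ?_ ?_
      · rw [hvX]
        exact hXs g _ ⟨_, hfX _, rfl⟩
      · rw [hvX]
        exact hXs g _ ⟨_, hfX _, rfl⟩
    | zero => rw [map_zero]; exact Submodule.zero_mem _
    | add y z _ _ hy hz => rw [map_add]; exact Submodule.add_mem _ hy hz
    | smul c y _ hy => rw [map_smul]; exact Submodule.smul_mem _ _ hy
  let Y : Submodule k V := (Iy v).comap j
  have hY : ∀ g, ∀ m ∈ Y, σ g m ∈ Y := by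
    intro g m hm
    show j (σ g m) ∈ Iy v
    rw [E.eqv]
    exact hIy g _ hm
  have hshI : ∀ m ∈ X, ∃ n ∈ Y, j n = sh (j m) := by
    intro m hm
    have h5 := cr_Xv h2 hc (x := j m) (y := j m) (by rw [hvX]; exact ⟨m, hm, rfl⟩) (by rw [hvX]; exact ⟨m, hm, rfl⟩)
    rw [cr_self] at h5
    have h6 := Submodule.smul_mem _ (2 : k)⁻¹ h5
    rw [smul_smul, inv_mul_cancel₀ h2, one_smul] at h6
    obtain ⟨n, hn⟩ := E.sur (sh (j m)) (by
      have h7 := tr1_sh (j m)
      have h8 := hiso m hm m hm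
      rw [Pj_apply] at h8
      rw [E.tr, h8] at h7
      have : (2 : k) * tr1 (sh (j m)) = 0 := by rw [h7]; ring
      exact (mul_eq_zero.1 this).resolve_left h2)
    refine ⟨n, ?_, hn⟩
    show j n ∈ Iy v
    rw [hn]
    exact h6
  have key : X ≤ orth (Pj j) Y → False := by
    intro hle
    have hss : ∀ m ∈ Xv v, sh (sh m) = 0 := by
      intro m hm
      rw [hvX] at hm
      obtain ⟨m, hm, rfl⟩ := hm
      obtain ⟨n, hn, hn'⟩ := hshI m hm
      have h6 := hle hm n hn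
      rw [Pj_apply, hn', tf_sh_self] at h6
      rw [sh_sh, (mul_eq_zero.1 h6).resolve_left h3, zero_smul]
    have hI0 := C.white _ hIy (sh_Iy h2 hc hss)
    have hX0 : X = ⊥ := C.white_bot E hX fun m hm => by
      have h5 := cr_Xv h2 hc (x := j m) (y := j m) (by rw [hvX]; exact ⟨m, hm, rfl⟩) (by rw [hvX]; exact ⟨m, hm, rfl⟩)
      rw [cr_self, hI0, Submodule.mem_bot] at h5
      exact (smul_eq_zero.1 h5).resolve_left h2
    have h6 := (IsV.irr ι p hb).1
    rw [Submodule.nontrivial_iff_ne_bot] at h6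
    exact h6 hX0
  rcases IsV.inf_or_le ι p hb (D.orth_inv hY) with h5 | h5
  swap
  · exact key h5
  -- the module `Y` has the same type
  have hdY : Module.finrank k Y ≤ 9 := by
    have h6 : Module.finrank k Y = Module.finrank k (Y.map j) :=
      (Submodule.equivMapOfInjective j E.inj Y).finrank_eq
    rw [h6]
    refine le_trans (Submodule.finrank_mono ?_) (finrank_Iy v)
    rintro _ ⟨m, hm, rfl⟩
    exact hm
  let P0 : X →ₗ[k] Y →ₗ[k] k := (Pj j).compl₁₂ X.subtype Y.subtype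
  have hP0 : ∀ m n, P0 m n = Pj j (m : V) (n : V) := fun m n => rfl
  have hsymm : ∀ m n, Pj j m n = Pj j n m := fun m n => by rw [Pj_apply, Pj_apply, tf_comm]
  have hinj : Function.Injective P0 := by
    rw [← LinearMap.ker_eq_bot, eq_bot_iff]
    intro m hm
    have h6 : (m : V) ∈ X ⊓ orth (Pj j) Y := ⟨m.2, fun n hn => by
      rw [hsymm]
      exact LinearMap.congr_fun (LinearMap.mem_ker.1 hm) ⟨n, hn⟩⟩
    rw [h5, Submodule.mem_bot] at h6
    exact (Submodule.mem_bot k).2 (Subtype.ext h6)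
  have hdD : Module.finrank k (Y →ₗ[k] k) = Module.finrank k Y := Subspace.dual_finrank_eq
  have hle9 := LinearMap.finrank_le_finrank_of_injective hinj
  have hsurj : Function.Surjective P0 :=
    (LinearMap.injective_iff_surjective_of_finrank_eq_finrank (by omega)).1 hinj
  have DXY : Dul (subRep σ X hX) (subRep σ Y hY) P0 := by
    refine ⟨fun g m n => D.inv g m n, fun m hm => hinj (LinearMap.ext fun n => by rw [hm, map_zero]; rfl), fun n hn => ?_⟩
    refine (Module.forall_dual_apply_eq_zero_iff k n).1 fun φ => ?_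
    obtain ⟨m, hm⟩ := hsurj φ
    rw [← hm]
    exact hn m
  have hVY : IsV ι p (subRep σ Y hY) (2 * p ^ i + 2 * p ^ l) := hb.dual ι p DXY
  have hor := C.orth22 E hi hl hil h4i h4l h44 hb hVY
  exact key fun m hm n hn => by
    rw [hsymm]
    exact hor m hm n hn

end Emb

end Cfsg.Agent.R2.F4L
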