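import Cfsg.Agent.R2.F4L.RuA
import Cfsg.Agent.R2.F4L.I4
import Cfsg.Agent.R2.F4L.N22
import Cfsg.Agent.R2.F4L.N7
import Cfsg.Agent.R2.F4T.Rl
import Cfsg.Agent.R2.F4M.FixU
import Cfsg.Agent.R2.F4N.White

/-!
# The rules (helper2, S5931)

* `cx_of` : the context; `rl` : the rules.
-/

set_option autoImplicit false
set_option linter.unusedSectionVars false
set_option linter.unusedVariables false

namespace Cfsg.Agent.R2.F4L

open Cfsg Cfsg.Lie Module Matrix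
open Cfsg.Agent.ChevalleyStructure.E6Min.Basic
open Cfsg.Agent.H952.F4 (sh cr tf tr1 u0 hF4)
open Cfsg.Agent.H952.F4.Jord
open Cfsg.Agent.H952.F4.FixV (W0 mem_W0 finrank_W0 u0_ne_zero tr1_eq)
open Cfsg.Agent.R2.H9.E6
open Cfsg.Agent.GpExc.Field (emb)
open Cfsg.Agent.H943.SL2Rel Cfsg.Agent.H943.SL2Mod
open Cfsg.Agent.R2.H28.SL2 Cfsg.Agent.H943.RepAdd
open Cfsg.Agent.R2.F4M Cfsg.Agent.R2.F4N
open Cfsg.Agent.R2.F4T (Rl Nd Iso)
open Cfsg.Agent.R2.SL2

universe u v w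

section Ctx

variable {F : Type u} [Field F] [Fintype F] {K : Type v} [Field K] [Fintype K] [DecidableEq K] {p a b : ℕ}
variable {H : Subgroup ↥(chevF4.group F)} {φ : ProjectiveSpecialLinearGroup (Fin 2) K →* ↥(chevF4.group F)}
variable {k : Type u} [Field k] [DecidableEq k] [Algebra F k] [Algebra.IsAlgebraic F k] {ι : K →+* k} [Fact p.Prime]
variable [CharP k p] [CharP K p]

theorem cx_of (hc : Cfg p a b H φ) (hp5 : 5 ≤ p) : Cx ι p a (Rk (algebraMap F k) φ) where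
  act := act_Rk
  hp5 := hp5
  card := hc.cardK
  seven := hc.seven
  fix := fun y hy => by
    refine hc.fixU k y fun a => ?_
    obtain ⟨g, rfl⟩ := pq_surjective a
    rw [V_ψk]
    exact hy g
  white := fun W hW hsh => white hc (by omega) (hc.fixU k) hsh (fun x w hw => by
    obtain ⟨g, rfl⟩ := pq_surjective x
    rw [V_ψk]
    exact hW g w hw)

end Ctx

variable {F : Type u} [Field F] [Fintype F] {K : Type v} [Field K] [Fintype K] [DecidableEq K] {p a b : ℕ}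
variable {H : Subgroup ↥(chevF4.group F)} {φ : ProjectiveSpecialLinearGroup (Fin 2) K →* ↥(chevF4.group F)}
variable {k : Type u} [Field k] [DecidableEq k] {f : F →+* k} {ι : K →+* k} [Fact p.Prime] [CharP k p] [CharP K p]
variable [IsAlgClosed k]

/-- **`p = 7`** -/
theorem rule47 (hc : Cfg p a b H φ) (C : Cx ι p a (Rk f φ)) (hp : p = 7) (ha : 2 ≤ a)
    (h0 : 0 ∉ cf (Sy.{u, u, v} ι p) (R0 f φ)) {i : ℕ} (hi : i < a)
    (hcount : (cf (Sy.{u, u, v} ι p) (R0 f φ)).count (4 * p ^ i) ≤ 3)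
    (hb1 : InSoc ι p (R0 f φ) (p ^ i + p ^ ((i + 1) % a)) →
      (cf (Sy.{u, u, v} ι p) (R0 f φ)).count (p ^ i + p ^ ((i + 1) % a)) ≤ 1)
    (hb2 : (cf (Sy.{u, u, v} ι p) (R0 f φ)).count (p ^ i + p ^ ((i + 1) % a)) ≤ 1 ∨
      (cf (Sy.{u, u, v} ι p) (R0 f φ)).count (4 * p ^ i) ≤ 2) (hsoc : InSoc ι p (R0 f φ) (4 * p ^ i)) :
    ∃ (Y : Submodule k ↥(W0 k)) (hY : ∀ g, ∀ x ∈ Y, R0 f φ g x ∈ Y), Nd (Pj (W0 k).subtype) Y ∧
      cf (V := ↥Y) (Sy.{u, u, v} ι p) (subRep (R0 f φ) Y hY) = {4 * p ^ i, 4 * p ^ i, p ^ i + p ^ ((i + 1) % a)} := by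
  have hp5 := C.hp5
  by_cases hv : ∀ y, TS ι p (Rk f φ) 4 i y → sh (y 4) = 0
  · exact absurd hsoc (no4 hc C (C.hQ (Or.inr ha) (Or.inr ha)) hi hv hcount)
  · push Not at hv
    obtain ⟨y, hy, hy4⟩ := hv
    have hb := C.lt_card (n := 4) (i := i) (by omega) hi
    have E : Em (Rk f φ) (R0 f φ) (W0 k).subtype := emW
    obtain ⟨x, hx, ex⟩ := E.lift C.act (by omega) (by norm_num) hb hy
    refine n47_core C E hp ha hi h0 hb1 hb2 hx fun h11 => hy4 ?_
    have h12 := congrArg (W0 k).subtype h11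
    rw [j_stV, map_zero, ex] at h12
    refine R2.H1.F4.sh_of_sq C.two C.three ?_ h12
    rw [← ex]
    exact E.tr _

/-- **the rules** -/
theorem rl (hc : Cfg p a b H φ) (C : Cx ι p a (Rk f φ)) : Rl ι p a (R0 f φ) (tf0 k) where
  sS := fun X hX hX0 => C.ruleS emW hX hX0
  n2 := fun i hi => no2 hc C hi
  n4 := fun hp i hi hcount h => rule4 hc C hp hi hcount h
  i4 := fun hp i hi hcount h hiso => C.i4 emW hp hi hcount h hiso
  n45 := fun hp h0 i hi hcount => rule45 hc C hp h0 hi hcount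
  n47 := fun hp ha h0 i hi hcount hb1 hb2 hsoc => rule47 hc C hp ha h0 hi hcount hb1 hb2 hsoc
  n22 := fun i hi l hl hil _ h4i h4l h44 => C.n22 emW hi hl hil h4i h4l h44

end Cfsg.Agent.R2.F4L
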