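import Cfsg.Agent.R2.F4L.B

/-!
# The submodules `V_{4 p ^ i}` of the Albert algebra (helper2, S5931)

For a tuple `x` of type `(4, i)` with `x_4 ^ # = 0` (`p ≥ 5`):
* `Q5` : the table of the products;
* `ph x` : the tuple `φ(x)`; `zt x` : the invariant;
* `Q5.four` : `φ(φ(x)) = t φ(x)`, `t(φ x) = t(x) ^ 2`, `2 t φ(x)_2 = N(x_2) x_2`.
-/

set_option autoImplicit false
set_option linter.unusedSectionVars false

namespace Cfsg.Agent.R2.F4L

open Cfsg.Lie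
open Cfsg.Agent.ChevalleyStructure.E6Min.Tables Cfsg.Agent.ChevalleyStructure.E6Min.Basic
open Cfsg.Agent.H952.F4 (sh cr tf tr1 u0)
open Cfsg.Agent.H952.F4.Jord
open Cfsg.Agent.H943.SL2Rel Cfsg.Agent.R2.H28.SL2

universe u v w

variable {k : Type u} [Field k] [DecidableEq k] {K : Type w} [Field K] [Fintype K] [DecidableEq K] {ι : K →+* k}
variable {p : ℕ} [Fact p.Prime] [CharP k p] [CharP K p]

section Tab

variable {V : Type*} [AddCommGroup V] [Module k V] {ρ : Representation k (Matrix.SpecialLinearGroup (Fin 2) K) V}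
variable {i : ℕ} {x : ℕ → V}

theorem ts4_u0 (hx : TS ι p ρ 4 i x) (t : K) : ρ (u t) (x 0) = x 0 + (4 * (ι t ^ p ^ i)) • x 1 +
    (6 * (ι t ^ p ^ i) ^ 2) • x 2 + (4 * (ι t ^ p ^ i) ^ 3) • x 3 + ((ι t ^ p ^ i) ^ 4) • x 4 := by
  rw [hx.u 0 (by norm_num) t]
  simp only [Finset.sum_range_succ, Finset.sum_range_zero, Nat.choose]
  norm_num

theorem ts4_u1 (hx : TS ι p ρ 4 i x) (t : K) : ρ (u t) (x 1) = x 1 + (3 * (ι t ^ p ^ i)) • x 2 +
    (3 * (ι t ^ p ^ i) ^ 2) • x 3 + ((ι t ^ p ^ i) ^ 3) • x 4 := by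
  rw [hx.u 1 (by norm_num) t]
  simp only [Finset.sum_range_succ, Finset.sum_range_zero, Nat.choose]
  norm_num

theorem ts4_u2 (hx : TS ι p ρ 4 i x) (t : K) : ρ (u t) (x 2) = x 2 + (2 * (ι t ^ p ^ i)) • x 3 +
    ((ι t ^ p ^ i) ^ 2) • x 4 := by
  rw [hx.u 2 (by norm_num) t]
  simp only [Finset.sum_range_succ, Finset.sum_range_zero, Nat.choose]
  norm_num

theorem ts4_u3 (hx : TS ι p ρ 4 i x) (t : K) : ρ (u t) (x 3) = x 3 + (ι t ^ p ^ i) • x 4 := by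
  rw [hx.u 3 (by norm_num) t]
  simp only [Finset.sum_range_succ, Finset.sum_range_zero, Nat.choose]
  norm_num

theorem ts4_u4 (hx : TS ι p ρ 4 i x) (t : K) : ρ (u t) (x 4) = x 4 := hx.u_top t

/-- the scalars of the torus as integral powers -/
theorem ts4_h (hx : TS ι p ρ 4 i x) {s : ℕ} (hs : s ≤ 4) (a : Kˣ) :
    ρ (h a) (x s) = ((ι a ^ p ^ i) ^ (2 * (s : ℤ) - 4)) • x s := by
  have := hx.h' hs a
  exact_mod_cast this

theorem ts4_w0 (hx : TS ι p ρ 4 i x) : ρ w (x 0) = x 4 := by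
  rw [hx.w 0 (by norm_num)]
  norm_num

theorem ts4_w1 (hx : TS ι p ρ 4 i x) : ρ w (x 1) = -x 3 := by
  rw [hx.w 1 (by norm_num)]
  norm_num

theorem ts4_w2 (hx : TS ι p ρ 4 i x) : ρ w (x 2) = x 2 := by
  rw [hx.w 2 (by norm_num)]
  norm_num

theorem ts4_w3 (hx : TS ι p ρ 4 i x) : ρ w (x 3) = -x 1 := by
  rw [hx.w 3 (by norm_num)]
  norm_num

theorem ts4_w4 (hx : TS ι p ρ 4 i x) : ρ w (x 4) = x 0 := by
  rw [hx.w 4 (by norm_num)]
  norm_num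

theorem ts4_mk (hz : ∀ s, 4 < s → x s = 0)
    (u0 : ∀ t, ρ (u t) (x 0) = x 0 + (4 * (ι t ^ p ^ i)) • x 1 +
      (6 * (ι t ^ p ^ i) ^ 2) • x 2 + (4 * (ι t ^ p ^ i) ^ 3) • x 3 + ((ι t ^ p ^ i) ^ 4) • x 4)
    (u1 : ∀ t, ρ (u t) (x 1) = x 1 + (3 * (ι t ^ p ^ i)) • x 2 +
      (3 * (ι t ^ p ^ i) ^ 2) • x 3 + ((ι t ^ p ^ i) ^ 3) • x 4)
    (u2 : ∀ t, ρ (u t) (x 2) = x 2 + (2 * (ι t ^ p ^ i)) • x 3 + ((ι t ^ p ^ i) ^ 2) • x 4)
    (u3 : ∀ t, ρ (u t) (x 3) = x 3 + (ι t ^ p ^ i) • x 4)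
    (u4 : ∀ t, ρ (u t) (x 4) = x 4)
    (h : ∀ s ≤ 4, ∀ a : Kˣ, ρ (h a) (x s) = ((ι a ^ p ^ i) ^ (2 * (s : ℤ) - 4)) • x s)
    (w0 : ρ w (x 0) = x 4) (w1 : ρ w (x 1) = -x 3) (w2 : ρ w (x 2) = x 2) (w3 : ρ w (x 3) = -x 1) (w4 : ρ w (x 4) = x 0) :
    TS ι p ρ 4 i x where
  zero := hz
  u := fun s hs t => by
    interval_cases s
    · rw [u0]
      simp only [Finset.sum_range_succ, Finset.sum_range_zero, Nat.choose]
      norm_num
    · rw [u1]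
      simp only [Finset.sum_range_succ, Finset.sum_range_zero, Nat.choose]
      norm_num
    · rw [u2]
      simp only [Finset.sum_range_succ, Finset.sum_range_zero, Nat.choose]
      norm_num
    · rw [u3]
      simp only [Finset.sum_range_succ, Finset.sum_range_zero, Nat.choose]
      norm_num
    · rw [u4]
      simp only [Finset.sum_range_succ, Finset.sum_range_zero, Nat.choose]
      norm_num
  h := fun s hs a => by
    rw [h s hs, pow_wt _ hs]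
    · norm_num
    · exact pow_ne_zero _ ((map_ne_zero ι).2 a.ne_zero)
  w := fun s hs => by
    interval_cases s
    · rw [w0]
      norm_num
    · rw [w1]
      norm_num
    · rw [w2]
      norm_num
    · rw [w3]
      norm_num
    · rw [w4]
      norm_num

end Tab

theorem sh_lin5 (a0 a1 a2 a3 a4 : k) (x0 x1 x2 x3 x4 : I27 → k) :
    sh (a0 • x0 + a1 • x1 + a2 • x2 + a3 • x3 + a4 • x4) =
    a0 ^ 2 • sh x0 + a1 ^ 2 • sh x1 + a2 ^ 2 • sh x2 + a3 ^ 2 • sh x3 + a4 ^ 2 • sh x4 +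
    (a0 * a1) • cr x0 x1 + (a0 * a2) • cr x0 x2 + (a0 * a3) • cr x0 x3 + (a0 * a4) • cr x0 x4 + (a1 * a2) • cr x1 x2 +
    (a1 * a3) • cr x1 x3 + (a1 * a4) • cr x1 x4 + (a2 * a3) • cr x2 x3 + (a2 * a4) • cr x2 x4 + (a3 * a4) • cr x3 x4 := by
  rw [sh_add, sh_add, sh_add, sh_add]
  simp only [sh_smul, cr_add_left, cr_smul_left, cr_smul_right]
  module

/-- the table -/
structure Q5 (x : ℕ → I27 → k) (A B G D E F : I27 → k) : Prop where
  s0 : sh (x 0) = 0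
  s1 : sh (x 1) = (3 : k) • A
  s2 : sh (x 2) = D
  s3 : sh (x 3) = (3 : k) • F
  s4 : sh (x 4) = 0
  c01 : cr (x 0) (x 1) = 0
  c02 : cr (x 0) (x 2) = (-8 : k) • A
  c03 : cr (x 0) (x 3) = (-6 : k) • B
  c04 : cr (x 0) (x 4) = (-48 : k) • G + (-36 : k) • D
  c12 : cr (x 1) (x 2) = B
  c13 : cr (x 1) (x 3) = (3 : k) • G
  c14 : cr (x 1) (x 4) = (-6 : k) • E
  c23 : cr (x 2) (x 3) = E
  c24 : cr (x 2) (x 4) = (-8 : k) • F
  c34 : cr (x 3) (x 4) = 0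

theorem smul_cancel {V : Type*} [AddCommGroup V] [Module k V] {c : k} (hc : c ≠ 0) {a b : V} (h : c • a = c • b) :
    a = b := by
  have h1 : c • (a - b) = 0 := by rw [smul_sub, h, sub_self]
  exact sub_eq_zero.1 ((smul_eq_zero.1 h1).resolve_left hc)

theorem three_ne (p : ℕ) [Fact p.Prime] [CharP k p] (hp3 : p ≠ 3) : (3 : k) ≠ 0 := by
  intro h
  have h1 : ((3 : ℕ) : k) = 0 := by exact_mod_cast h
  rw [CharP.cast_eq_zero_iff k p] at h1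
  have hp : p.Prime := Fact.out
  exact hp3 ((Nat.prime_dvd_prime_iff_eq hp Nat.prime_three).1 h1)

variable {ρ : Representation k (Matrix.SpecialLinearGroup (Fin 2) K) (I27 → k)} {i : ℕ} {x : ℕ → I27 → k}

/-- the relations from `x_4 ^ # = 0` -/
theorem four_rel (H : Act ρ) (hQ : 9 ≤ Fintype.card K) (hx : TS ι p ρ 4 i x) (h4 : sh (x 4) = 0) :
    sh (x 0) = 0 ∧ (4 : k) • cr (x 0) (x 1) = 0 ∧ (16 : k) • sh (x 1) + (6 : k) • cr (x 0) (x 2) = 0 ∧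
    (24 : k) • cr (x 1) (x 2) + (4 : k) • cr (x 0) (x 3) = 0 ∧
    (36 : k) • sh (x 2) + cr (x 0) (x 4) + (16 : k) • cr (x 1) (x 3) = 0 ∧
    (24 : k) • cr (x 2) (x 3) + (4 : k) • cr (x 1) (x 4) = 0 ∧ (16 : k) • sh (x 3) + (6 : k) • cr (x 2) (x 4) = 0 ∧
    (4 : k) • cr (x 3) (x 4) = 0 := by
  have h0 : sh (x 0) = 0 := by
    rw [← ts4_w4 hx, ← H.sh, h4, map_zero]
  have key := poly0 (V := I27 → k) ι (N := 9) hQ p i (a := fun j => match j with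
    | 0 => sh (x 0)
    | 1 => (4 : k) • cr (x 0) (x 1)
    | 2 => (16 : k) • sh (x 1) + (6 : k) • cr (x 0) (x 2)
    | 3 => (24 : k) • cr (x 1) (x 2) + (4 : k) • cr (x 0) (x 3)
    | 4 => (36 : k) • sh (x 2) + cr (x 0) (x 4) + (16 : k) • cr (x 1) (x 3)
    | 5 => (24 : k) • cr (x 2) (x 3) + (4 : k) • cr (x 1) (x 4)
    | 6 => (16 : k) • sh (x 3) + (6 : k) • cr (x 2) (x 4)
    | 7 => (4 : k) • cr (x 3) (x 4)
    | _ => sh (x 4)) (fun t => by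
      have h1 : sh (ρ (u t) (x 0)) = 0 := by rw [← H.sh, h0, map_zero]
      rw [ts4_u0 hx] at h1
      rw [← h1]
      simp only [Finset.sum_range_succ, Finset.sum_range_zero, zero_add]
      rw [show x 0 + (4 * (ι t ^ p ^ i)) • x 1 + (6 * (ι t ^ p ^ i) ^ 2) • x 2 + (4 * (ι t ^ p ^ i) ^ 3) • x 3 +
        ((ι t ^ p ^ i) ^ 4) • x 4 = (1 : k) • x 0 + (4 * (ι t ^ p ^ i)) • x 1 + (6 * (ι t ^ p ^ i) ^ 2) • x 2 +
        (4 * (ι t ^ p ^ i) ^ 3) • x 3 + ((ι t ^ p ^ i) ^ 4) • x 4 by rw [one_smul], sh_lin5]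
      module)
  exact ⟨h0, key 1 (by norm_num), key 2 (by norm_num), key 3 (by norm_num), key 4 (by norm_num), key 5 (by norm_num),
    key 6 (by norm_num), key 7 (by norm_num)⟩

/-- **the table** -/
theorem four_Q5 (H : Act ρ) (hp5 : 5 ≤ p) (hQ : 9 ≤ Fintype.card K) (hx : TS ι p ρ 4 i x) (h4 : sh (x 4) = 0) :
    Q5 x ((3 : k)⁻¹ • sh (x 1)) (cr (x 1) (x 2)) ((3 : k)⁻¹ • cr (x 1) (x 3)) (sh (x 2)) (cr (x 2) (x 3))
      ((3 : k)⁻¹ • sh (x 3)) := by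
  have h2 := two_ne (k := k) p (by omega)
  have h3 := three_ne (k := k) p (by omega)
  have h4' : (4 : k) ≠ 0 := by
    rw [show (4 : k) = 2 * 2 by norm_num]
    exact mul_ne_zero h2 h2
  have h6 : (6 : k) ≠ 0 := by
    rw [show (6 : k) = 2 * 3 by norm_num]
    exact mul_ne_zero h2 h3
  obtain ⟨r0, r1, r2, r3, r4, r5, r6, r7⟩ := four_rel H hQ hx h4
  have c3 : ∀ y : I27 → k, (3 : k) • (3 : k)⁻¹ • y = y := fun y => by rw [smul_smul, mul_inv_cancel₀ h3, one_smul]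
  refine ⟨r0, (c3 _).symm, rfl, (c3 _).symm, h4, ?_, ?_, ?_, ?_, rfl, (c3 _).symm, ?_, rfl, ?_, ?_⟩
  · exact (smul_eq_zero.1 r1).resolve_left h4'
  · apply smul_cancel h6
    rw [← c3 (sh (x 1))] at r2
    rw [← sub_eq_zero, ← r2]
    module
  · apply smul_cancel h4'
    rw [← sub_eq_zero, ← r3]
    module
  · rw [← c3 (cr (x 1) (x 3))] at r4
    rw [← sub_eq_zero, ← r4]
    module
  · apply smul_cancel h4'
    rw [← sub_eq_zero, ← r5]
    module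
  · apply smul_cancel h6
    rw [← c3 (sh (x 3))] at r6
    rw [← sub_eq_zero, ← r6]
    module
  · exact (smul_eq_zero.1 r7).resolve_left h4'

/-- the tuple `φ(x)` -/
noncomputable def ph (x : ℕ → I27 → k) : ℕ → I27 → k := fun s => match s with
  | 0 => (4 : k) • (3 : k)⁻¹ • sh (x 1)
  | 1 => cr (x 1) (x 2)
  | 2 => (2 : k) • (3 : k)⁻¹ • cr (x 1) (x 3) + (2 : k) • sh (x 2)
  | 3 => cr (x 2) (x 3)
  | 4 => (4 : k) • (3 : k)⁻¹ • sh (x 3)
  | _ => 0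

/-- the invariant -/
noncomputable def ze (x : ℕ → I27 → k) : I27 → k := (2 : k) • (3 : k)⁻¹ • cr (x 1) (x 3) + sh (x 2)

theorem zpow_nat2 {α : k} (hα : α ≠ 0) (m n : ℤ) (y : I27 → k) : α ^ m • α ^ n • y = α ^ (m + n) • y := by
  rw [smul_smul, zpow_add₀ hα]

theorem four_ph (H : Act ρ) (hp5 : 5 ≤ p) (hQ : 9 ≤ Fintype.card K) (hx : TS ι p ρ 4 i x) (h4 : sh (x 4) = 0) :
    TS ι p ρ 4 i (ph x) := by
  have Q := four_Q5 H hp5 hQ hx h4
  generalize hA : (3 : k)⁻¹ • sh (x 1) = A at Q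
  generalize hB : cr (x 1) (x 2) = B at Q
  generalize hG : (3 : k)⁻¹ • cr (x 1) (x 3) = G at Q
  generalize hD : sh (x 2) = D at Q
  generalize hE : cr (x 2) (x 3) = E at Q
  generalize hF : (3 : k)⁻¹ • sh (x 3) = F at Q
  have e0 : ph x 0 = (4 : k) • A := by rw [← hA]; rfl
  have e1 : ph x 1 = B := by rw [← hB]; rfl
  have e2 : ph x 2 = (2 : k) • G + (2 : k) • D := by rw [← hG, ← hD]; rfl
  have e3 : ph x 3 = E := by rw [← hE]; rfl
  have e4 : ph x 4 = (4 : k) • F := by rw [← hF]; rfl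
  have h2 := two_ne (k := k) p (by omega)
  have h3 := three_ne (k := k) p (by omega)
  -- the action of `u`
  have uA : ∀ t, ρ (u t) ((3 : k) • A) = (3 : k) • A + (3 * (ι t ^ p ^ i)) • B +
      ((ι t ^ p ^ i) ^ 2) • ((9 : k) • G + (9 : k) • D) + ((ι t ^ p ^ i) ^ 3) • ((3 : k) • E) +
      ((ι t ^ p ^ i) ^ 4) • ((3 : k) • F) := by
    intro t
    rw [← Q.s1, H.sh, ts4_u1 hx, show x 1 + (3 * (ι t ^ p ^ i)) • x 2 +
      (3 * (ι t ^ p ^ i) ^ 2) • x 3 + ((ι t ^ p ^ i) ^ 3) • x 4 = (0 : k) • x 0 + (1 : k) • x 1 + (3 * (ι t ^ p ^ i)) • x 2 +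
      (3 * (ι t ^ p ^ i) ^ 2) • x 3 + ((ι t ^ p ^ i) ^ 3) • x 4 by rw [zero_smul, zero_add, one_smul], sh_lin5, Q.s0, Q.s1, Q.s2,
      Q.s3, Q.s4, Q.c01, Q.c02, Q.c03, Q.c04, Q.c12, Q.c13, Q.c14, Q.c23, Q.c24, Q.c34]
    module
  have uB : ∀ t, ρ (u t) B = B + (3 * (ι t ^ p ^ i)) • ((2 : k) • G + (2 : k) • D) + (3 * (ι t ^ p ^ i) ^ 2) • E +
      ((ι t ^ p ^ i) ^ 3) • ((4 : k) • F) := by
    intro t
    rw [← Q.c12, H.cr, ts4_u1 hx, ts4_u2 hx]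
    simp only [cr_add_left, cr_add_right, cr_smul_left, cr_smul_right, cr_self, cr_comm (x 3) (x 2), cr_comm (x 4) (x 2),
      cr_comm (x 4) (x 3), Q.s2, Q.s3, Q.s4, Q.c12, Q.c13, Q.c14, Q.c23, Q.c24, Q.c34]
    module
  have uD : ∀ t, ρ (u t) D = D + (2 * (ι t ^ p ^ i)) • E + ((ι t ^ p ^ i) ^ 2) • ((4 : k) • F) := by
    intro t
    rw [← Q.s2, H.sh, ts4_u2 hx, show x 2 + (2 * (ι t ^ p ^ i)) • x 3 +
      ((ι t ^ p ^ i) ^ 2) • x 4 = (0 : k) • x 0 + (0 : k) • x 1 + (1 : k) • x 2 +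
      (2 * (ι t ^ p ^ i)) • x 3 + ((ι t ^ p ^ i) ^ 2) • x 4 by rw [zero_smul, zero_add, zero_smul, zero_add, one_smul], sh_lin5, Q.s0, Q.s1, Q.s2,
      Q.s3, Q.s4, Q.c01, Q.c02, Q.c03, Q.c04, Q.c12, Q.c13, Q.c14, Q.c23, Q.c24, Q.c34]
    module
  have uG : ∀ t, ρ (u t) ((3 : k) • G) = (3 : k) • G + (-3 * (ι t ^ p ^ i)) • E + (-6 * (ι t ^ p ^ i) ^ 2) • F := by
    intro t
    rw [← Q.c13, H.cr, ts4_u1 hx, ts4_u3 hx]
    simp only [cr_add_left, cr_smul_left, cr_add_right, cr_smul_right, cr_self, cr_comm (x 4) (x 3),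
      Q.s3, Q.s4, Q.c13, Q.c14, Q.c23, Q.c24, Q.c34]
    module
  have uE : ∀ t, ρ (u t) E = E + (ι t ^ p ^ i) • ((4 : k) • F) := by
    intro t
    rw [← Q.c23, H.cr, ts4_u2 hx, ts4_u3 hx]
    simp only [cr_add_left, cr_smul_left, cr_add_right, cr_smul_right, cr_self, cr_comm (x 4) (x 3),
      Q.s3, Q.s4, Q.c23, Q.c24, Q.c34]
    module
  have uF : ∀ t, ρ (u t) ((3 : k) • F) = (3 : k) • F := by
    intro t
    rw [← Q.s3, H.sh, ts4_u3 hx, show x 3 + (ι t ^ p ^ i) • x 4 = (0 : k) • x 0 + (0 : k) • x 1 + (0 : k) • x 2 +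
      (1 : k) • x 3 + (ι t ^ p ^ i) • x 4 by rw [zero_smul, zero_add, zero_smul, zero_add, zero_smul, zero_add, one_smul], sh_lin5, Q.s0, Q.s1, Q.s2,
      Q.s3, Q.s4, Q.c01, Q.c02, Q.c03, Q.c04, Q.c12, Q.c13, Q.c14, Q.c23, Q.c24, Q.c34]
    module
  -- the torus
  have hA : ∀ a : Kˣ, ρ (h a) ((3 : k) • A) = ((ι a ^ p ^ i) ^ (-4 : ℤ)) • ((3 : k) • A) := by
    intro a
    have h0 : ι (a : K) ^ p ^ i ≠ 0 := pow_ne_zero _ ((map_ne_zero ι).2 a.ne_zero)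
    rw [← Q.s1, H.sh, ts4_h hx (by norm_num), sh_smul, ← zpow_natCast, ← _root_.zpow_mul]
    norm_num
  have hBB : ∀ a : Kˣ, ρ (h a) B = ((ι a ^ p ^ i) ^ (-2 : ℤ)) • B := by
    intro a
    have h0 : ι (a : K) ^ p ^ i ≠ 0 := pow_ne_zero _ ((map_ne_zero ι).2 a.ne_zero)
    rw [← Q.c12, H.cr, ts4_h hx (by norm_num), ts4_h hx (by norm_num), cr_smul_left, cr_smul_right, zpow_nat2 h0]
    norm_num
  have hDD : ∀ a : Kˣ, ρ (h a) D = D := by
    intro a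
    rw [← Q.s2, H.sh, ts4_h hx (by norm_num), sh_smul]
    norm_num
  have hGG : ∀ a : Kˣ, ρ (h a) ((3 : k) • G) = (3 : k) • G := by
    intro a
    have h0 : ι (a : K) ^ p ^ i ≠ 0 := pow_ne_zero _ ((map_ne_zero ι).2 a.ne_zero)
    rw [← Q.c13, H.cr, ts4_h hx (by norm_num), ts4_h hx (by norm_num), cr_smul_left, cr_smul_right, zpow_nat2 h0]
    norm_num
  have hEE : ∀ a : Kˣ, ρ (h a) E = ((ι a ^ p ^ i) ^ (2 : ℤ)) • E := by
    intro a
    have h0 : ι (a : K) ^ p ^ i ≠ 0 := pow_ne_zero _ ((map_ne_zero ι).2 a.ne_zero)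
    rw [← Q.c23, H.cr, ts4_h hx (by norm_num), ts4_h hx (by norm_num), cr_smul_left, cr_smul_right, zpow_nat2 h0]
    norm_num
  have hFF : ∀ a : Kˣ, ρ (h a) ((3 : k) • F) = ((ι a ^ p ^ i) ^ (4 : ℤ)) • ((3 : k) • F) := by
    intro a
    have h0 : ι (a : K) ^ p ^ i ≠ 0 := pow_ne_zero _ ((map_ne_zero ι).2 a.ne_zero)
    rw [← Q.s3, H.sh, ts4_h hx (by norm_num), sh_smul, ← zpow_natCast, ← _root_.zpow_mul]
    norm_num
  refine ts4_mk (fun s hs => ?_) (fun t => ?_) (fun t => ?_) (fun t => ?_) (fun t => ?_) (fun t => ?_) (fun s hs a => ?_)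
    ?_ ?_ ?_ ?_ ?_
  · match s, hs with
    | s + 5, _ => rfl
  · rw [e0, e1, e2, e3, e4]
    apply smul_cancel h3
    rw [← map_smul, smul_comm (3 : k) (4 : k) A, map_smul, uA]
    module
  · rw [e1, e2, e3, e4, uB]
  · rw [e2, e3, e4]
    apply smul_cancel h3
    rw [← map_smul, smul_add, smul_comm (3 : k) (2 : k) G, smul_comm (3 : k) (2 : k) D, map_add, map_smul, uG, map_smul, map_smul, uD]
    module
  · rw [e3, e4, uE]
  · rw [e4]
    apply smul_cancel h3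
    rw [← map_smul, smul_comm (3 : k) (4 : k) F, map_smul, uF]
  · interval_cases s
    · rw [e0]
      apply smul_cancel h3
      rw [← map_smul, smul_comm (3 : k) (4 : k) A, map_smul, hA]
      norm_num
      module
    · rw [e1, hBB]
      norm_num
    · rw [e2]
      apply smul_cancel h3
      rw [← map_smul, smul_add, smul_comm (3 : k) (2 : k) G, smul_comm (3 : k) (2 : k) D, map_add, map_smul, hGG, map_smul, map_smul, hDD]
      norm_num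
      module
    · rw [e3, hEE]
      norm_num
    · rw [e4]
      apply smul_cancel h3
      rw [← map_smul, smul_comm (3 : k) (4 : k) F, map_smul, hFF]
      norm_num
      module
  · rw [e0, e4]
    apply smul_cancel h3
    rw [← map_smul, smul_comm (3 : k) (4 : k) A, map_smul, ← Q.s1, H.sh, ts4_w1 hx, show -x 3 = (-1 : k) • x 3 by rw [neg_one_smul],
      sh_smul, Q.s3]
    module
  · rw [e1, e3, ← Q.c12, H.cr, ts4_w1 hx, ts4_w2 hx, cr_neg_left, cr_comm, Q.c23]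
  · rw [e2]
    apply smul_cancel h3
    rw [← map_smul, smul_add, smul_comm (3 : k) (2 : k) G, smul_comm (3 : k) (2 : k) D, map_add, map_smul, ← Q.c13, H.cr, ts4_w1 hx,
      ts4_w3 hx, cr_neg_left, cr_neg_right, neg_neg, cr_comm, map_smul, map_smul, ← Q.s2, H.sh, ts4_w2 hx]
  · rw [e3, e1, ← Q.c23, H.cr, ts4_w2 hx, ts4_w3 hx, cr_neg_right, cr_comm, Q.c12]
  · rw [e4, e0]
    apply smul_cancel h3
    rw [← map_smul, smul_comm (3 : k) (4 : k) F, map_smul, ← Q.s3, H.sh, ts4_w3 hx, show -x 1 = (-1 : k) • x 1 by rw [neg_one_smul],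
      sh_smul, Q.s1]
    module

end Cfsg.Agent.R2.F4L
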