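import Cfsg.Agent.R2.F4L.Four

/-!
# The submodules `V_{4 p ^ i}`, II (helper2, S5931)

* `Q5.sh3` : `#` on the span of `x_0, x_2, x_4`;
* `four_main` : `φ(φ(x)) = t φ(x)`, `t(φ x) = t(x) ^ 2`, `2 t φ(x) = N(x_2) x`.
-/

set_option autoImplicit false
set_option linter.unusedSectionVars false

namespace Cfsg.Agent.R2.F4L

open Cfsg.Lie
open Cfsg.Agent.ChevalleyStructure.E6Min.Tables Cfsg.Agent.ChevalleyStructure.E6Min.Basic
open Cfsg.Agent.H952.F4 (sh cr tf tr1 u0)
open Cfsg.Agent.H952.F4.Jord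
open Cfsg.Agent.H943.SL2Rel Cfsg.Agent.R2.H28.SL2

universe u v w

variable {k : Type u} [Field k] [DecidableEq k] {K : Type w} [Field K] [Fintype K] [DecidableEq K] {ι : K →+* k}
variable {p : ℕ} [Fact p.Prime] [CharP k p] [CharP K p]

section Tup

variable {V : Type*} [AddCommGroup V] [Module k V] {ρ : Representation k (Matrix.SpecialLinearGroup (Fin 2) K) V}
variable {i : ℕ} {x : ℕ → V}

/-- a tuple is determined by its middle component -/
theorem ts4_zero_of_mid (hp2 : p ≠ 2) (hQ : 9 ≤ Fintype.card K) (hx : TS ι p ρ 4 i x) (h2 : x 2 = 0) : x = 0 := by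
  have h2' := two_ne (k := k) p hp2
  have key := poly0 (V := V) ι (N := 3) (by omega) p i (a := fun j => match j with
    | 0 => 0
    | 1 => (2 : k) • x 3
    | _ => x 4) (fun t => by
      have h1 := ts4_u2 hx t
      rw [h2, map_zero, zero_add] at h1
      refine Eq.trans ?_ h1.symm
      simp only [Finset.sum_range_succ, Finset.sum_range_zero, zero_add]
      module)
  have k3 : x 3 = 0 := (smul_eq_zero.1 (key 1 (by norm_num))).resolve_left h2'
  have k4 : x 4 = 0 := key 2 (by norm_num)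
  have k1 : x 1 = 0 := by
    have := ts4_w3 hx
    rw [k3, map_zero] at this
    exact neg_eq_zero.1 this.symm
  have k0 : x 0 = 0 := by
    rw [← ts4_w4 hx, k4, map_zero]
  funext s
  match s with
  | 0 => exact k0
  | 1 => exact k1
  | 2 => exact h2
  | 3 => exact k3
  | 4 => exact k4
  | s + 5 => exact hx.zero _ (by omega)

theorem ts4_ne {s : ℕ} (hs : s ≤ 4) (hp2 : p ≠ 2) (hp3 : p ≠ 3) (hQ : 9 ≤ Fintype.card K) (hx : TS ι p ρ 4 i x) (h0 : x ≠ 0) : x s ≠ 0 := by
  have h2 := two_ne (k := k) p hp2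
  have h3 := three_ne (k := k) p hp3
  intro hs0
  apply h0
  have e4 : x 4 = 0 → x = 0 := fun h => by
    have h' : x 0 = 0 := by rw [← ts4_w4 hx, h, map_zero]
    apply ts4_zero_of_mid hp2 hQ hx
    have key := poly0 (V := V) ι (N := 5) (by omega) p i (a := fun j => match j with
      | 0 => 0
      | 1 => (4 : k) • x 1
      | 2 => (6 : k) • x 2
      | 3 => (4 : k) • x 3
      | _ => x 4) (fun t => by
        have h1 := ts4_u0 hx t
        rw [h', map_zero, zero_add] at h1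
        refine Eq.trans ?_ h1.symm
        simp only [Finset.sum_range_succ, Finset.sum_range_zero, zero_add]
        module)
    have h6 : (6 : k) ≠ 0 := by
      rw [show (6 : k) = 2 * 3 by norm_num]
      exact mul_ne_zero h2 h3
    exact (smul_eq_zero.1 (key 2 (by norm_num))).resolve_left h6
  have e3 : x 3 = 0 → x = 0 := fun h => by
    apply e4
    have h1 := ts4_u3 hx 1
    rw [h, map_zero, zero_add, map_one, one_pow, one_smul] at h1
    exact h1.symm
  interval_cases s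
  · exact e4 (by rw [← ts4_w0 hx, hs0, map_zero])
  · apply e3
    have := ts4_w1 hx
    rw [hs0, map_zero] at this
    exact neg_eq_zero.1 this.symm
  · exact ts4_zero_of_mid hp2 hQ hx hs0
  · exact e3 hs0
  · exact e4 hs0

end Tup

variable {ρ : Representation k (Matrix.SpecialLinearGroup (Fin 2) K) (I27 → k)} {i : ℕ} {x : ℕ → I27 → k}

theorem ts4_tr (H : Act ρ) (hp2 : p ≠ 2) (hp3 : p ≠ 3) (hQ : 9 ≤ Fintype.card K) (hx : TS ι p ρ 4 i x) : tr1 (x 2) = 0 := by
  have h2 := two_ne (k := k) p hp2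
  have h3 := three_ne (k := k) p hp3
  have key := poly0 (V := k) ι (N := 4) (by omega) p i (a := fun j => match j with
    | 0 => 0
    | 1 => 3 * tr1 (x 2)
    | 2 => 3 * tr1 (x 3)
    | _ => tr1 (x 4)) (fun t => by
      have h1 := H.tr (u t) (x 1)
      rw [ts4_u1 hx t, tr1_add, tr1_add, tr1_add, tr1_smul, tr1_smul, tr1_smul] at h1
      simp only [Finset.sum_range_succ, Finset.sum_range_zero, zero_add, smul_eq_mul]
      linear_combination h1)
  exact (mul_eq_zero.1 (key 1 (by norm_num))).resolve_left h3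

/-- the invariant is invariant -/
theorem four_ze (H : Act ρ) (hp5 : 5 ≤ p) (hQ : 9 ≤ Fintype.card K) (hx : TS ι p ρ 4 i x) (h4 : sh (x 4) = 0)
    (g : Matrix.SpecialLinearGroup (Fin 2) K) : ρ g (ze x) = ze x := by
  have Q := four_Q5 H hp5 hQ hx h4
  have h3 := three_ne (k := k) p (by omega)
  have c3 : ∀ y : I27 → k, (3 : k) • (3 : k)⁻¹ • y = y := fun y => by rw [smul_smul, mul_inv_cancel₀ h3, one_smul]
  have e : (3 : k) • ze x = (2 : k) • cr (x 1) (x 3) + (3 : k) • sh (x 2) := by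
    unfold ze
    rw [smul_add, smul_comm (3 : k) (2 : k), c3]
  generalize (3 : k)⁻¹ • sh (x 1) = A at Q
  generalize hB : cr (x 1) (x 2) = B at Q
  generalize (3 : k)⁻¹ • cr (x 1) (x 3) = G at Q
  generalize hD : sh (x 2) = D at Q
  generalize hE : cr (x 2) (x 3) = E at Q
  generalize (3 : k)⁻¹ • sh (x 3) = F at Q
  apply smul_cancel h3
  rw [← map_smul, e]
  refine fix_of (fun t => ?_) (fun a => ?_) ?_ g
  · rw [map_add, map_smul, map_smul, H.cr, H.sh, ts4_u1 hx, ts4_u2 hx, ts4_u3 hx, show x 2 + (2 * (ι t ^ p ^ i)) • x 3 +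
      ((ι t ^ p ^ i) ^ 2) • x 4 = (0 : k) • x 0 + (0 : k) • x 1 + (1 : k) • x 2 +
      (2 * (ι t ^ p ^ i)) • x 3 + ((ι t ^ p ^ i) ^ 2) • x 4 by rw [zero_smul, zero_add, zero_smul, zero_add, one_smul], sh_lin5]
    simp only [cr_add_left, cr_smul_left, cr_add_right, cr_smul_right, cr_self, cr_comm (x 4) (x 3), Q.s0, Q.s1, Q.s2, Q.s3,
      Q.s4, Q.c01, Q.c02, Q.c03, Q.c04, Q.c12, Q.c13, Q.c14, Q.c23, Q.c24, Q.c34]
    module
  · have h0 : ι (a : K) ^ p ^ i ≠ 0 := pow_ne_zero _ ((map_ne_zero ι).2 a.ne_zero)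
    rw [map_add, map_smul, map_smul, H.cr, H.sh, ts4_h hx (by norm_num), ts4_h hx (by norm_num), ts4_h hx (by norm_num),
      cr_smul_left, cr_smul_right, zpow_nat2 h0, sh_smul]
    norm_num
  · rw [map_add, map_smul, map_smul, H.cr, H.sh, ts4_w1 hx, ts4_w2 hx, ts4_w3 hx, cr_neg_left, cr_neg_right, neg_neg, cr_comm]

/-- `#` on the span of `x_0, x_2, x_4` -/
theorem Q5.sh3 {A B G D E F : I27 → k} (Q : Q5 x A B G D E F) (a b c : k) :
    sh (a • x 0 + b • x 2 + c • x 4) = (-(2 * a * b)) • ((4 : k) • A) + (b ^ 2 - 12 * a * c) • ((2 : k) • G + (2 : k) • D) +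
      (-(2 * b * c)) • ((4 : k) • F) - (b ^ 2 + 12 * a * c) • ((2 : k) • G + D) := by
  rw [show a • x 0 + b • x 2 + c • x 4 = a • x 0 + (0 : k) • x 1 + b • x 2 + (0 : k) • x 3 + c • x 4 by module, sh_lin5,
    Q.s0, Q.s1, Q.s2, Q.s3, Q.s4, Q.c01, Q.c02, Q.c03, Q.c04, Q.c12, Q.c13, Q.c14, Q.c23, Q.c24, Q.c34]
  module

theorem four_sh3 (H : Act ρ) (hp5 : 5 ≤ p) (hQ : 9 ≤ Fintype.card K) (hx : TS ι p ρ 4 i x) (h4 : sh (x 4) = 0) (a b c : k) :
    sh (a • x 0 + b • x 2 + c • x 4) = (-(2 * a * b)) • ph x 0 + (b ^ 2 - 12 * a * c) • ph x 2 +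
      (-(2 * b * c)) • ph x 4 - (b ^ 2 + 12 * a * c) • ze x := (four_Q5 H hp5 hQ hx h4).sh3 a b c

/-- **the main relations** -/
theorem four_main (H : Act ρ) (hp5 : 5 ≤ p) (hQ : 11 ≤ Fintype.card K)
    (hv : ∀ y : ℕ → I27 → k, TS ι p ρ 4 i y → sh (y 4) = 0) (hx : TS ι p ρ 4 i x) {t t' : k} (ht : ze x = t • u0 k)
    (ht' : ze (ph x) = t' • u0 k) :
    ph (ph x) = t • ph x ∧ t' = t ^ 2 ∧ (2 * t) • ph x = cubicT (x 2) • x := by
  have h2 := two_ne (k := k) p (by omega)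
  have h3 := three_ne (k := k) p (by omega)
  have hQ9 : 9 ≤ Fintype.card K := by omega
  have h4 := hv x hx
  have hy := four_ph H hp5 hQ9 hx h4
  have hy' := four_ph H hp5 hQ9 hy (hv _ hy)
  have try' := ts4_tr H (by omega) (by omega) hQ9 hy
  have try'' := ts4_tr H (by omega) (by omega) hQ9 hy'
  have shy2 : ∀ (z : ℕ → I27 → k), TS ι p ρ 4 i z → ∀ b : k, sh (b • z 2) = b ^ 2 • (ph z 2 - ze z) := fun z hz b => by
    have := four_sh3 H hp5 hQ9 hz (hv z hz) 0 b 0
    rw [zero_smul, zero_add, zero_smul, add_zero] at this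
    rw [this]
    module
  -- `x_0 + x_4`
  obtain ⟨lam, hl⟩ := exists_prim ι i p
  have e1 : sh (x 0 + x 4) = (-12 : k) • ph x 2 - (12 : k) • ze x := by
    have := four_sh3 H hp5 hQ9 hx h4 1 0 1
    rw [one_smul, zero_smul, one_smul, add_zero] at this
    rw [this]
    module
  have e2 : cubicT (x 0 + x 4) • (x 0 + x 4) = (144 : k) • (ph (ph x) 2 - t • ph x 2 + (t ^ 2 - t') • u0 k) := by
    rw [← sh_sh, e1, ht, sub_eq_add_neg, ← neg_smul, sh_add, shy2 _ hy, sh_smul, smul_smul, sh_smul, sh_u0, cr_smul_left,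
      cr_smul_right, cr_comm, cr_u0, try', ht']
    module
  have e3 : cubicT (x 0 + x 4) • (x 0 + x 4) = 0 := by
    set α := ι (lam : K) ^ p ^ i with hα
    have hα0 : α ≠ 0 := pow_ne_zero _ ((map_ne_zero ι).2 lam.ne_zero)
    have hfix : ρ (h lam) (cubicT (x 0 + x 4) • (x 0 + x 4)) = cubicT (x 0 + x 4) • (x 0 + x 4) := by
      rw [e2, map_smul, map_add, map_sub, map_smul, map_smul, H.u0, ts4_h hy (by norm_num), ts4_h hy' (by norm_num)]
      norm_num
    set n := cubicT (x 0 + x 4) with hn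
    have w0 : ρ (h lam) (x 0) = (α⁻¹ ^ 4) • x 0 := by
      rw [ts4_h hx (by norm_num), ← hα, inv_pow, ← zpow_natCast, ← _root_.zpow_neg]
      norm_num
    have w4 : ρ (h lam) (x 4) = (α ^ 4) • x 4 := by
      rw [ts4_h hx (by norm_num), ← hα, ← zpow_natCast]
      norm_num
    have f1 : n • (α⁻¹ ^ 4) • x 0 + n • (α ^ 4) • x 4 = n • x 0 + n • x 4 := by
      rw [← smul_add, ← smul_add, ← hfix, map_smul, map_add, w0, w4]
    have f2 : n • (α⁻¹ ^ 4 * α⁻¹ ^ 4) • x 0 + n • (α ^ 4 * α ^ 4) • x 4 = n • x 0 + n • x 4 := by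
      have := congrArg (ρ (h lam)) f1
      rw [map_add, map_add, map_smul, map_smul, map_smul, map_smul, map_smul, map_smul, w0, w4, f1] at this
      rw [← this]
      module
    have hi : α⁻¹ ^ 4 * α ^ 4 = 1 := by rw [← mul_pow, inv_mul_cancel₀ hα0, one_pow]
    have n4 : α ^ 4 ≠ 1 := hl.pow_ne_one_of_pos_of_lt (by omega) (by omega)
    have n8 : α ^ 8 ≠ 1 := hl.pow_ne_one_of_pos_of_lt (by omega) (by omega)
    set β := α ^ 4 with hβ
    set γ := α⁻¹ ^ 4 with hγ
    have hγ1 : γ ≠ 1 := by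
      intro h
      rw [h, one_mul] at hi
      exact n4 hi
    have hγβ : γ ≠ β := by
      intro h
      rw [h, hβ, ← pow_add] at hi
      exact n8 hi
    have f3 : ((γ - 1) * (γ - β)) • n • x 0 = 0 := by
      have : ((γ - 1) * (γ - β)) • n • x 0 = (n • (γ * γ) • x 0 + n • (β * β) • x 4 - (n • x 0 + n • x 4)) -
        (β + 1) • (n • γ • x 0 + n • β • x 4 - (n • x 0 + n • x 4)) := by module
      rw [this, f1, f2]
      simp
    have f4 : n • x 0 = 0 := (smul_eq_zero.1 f3).resolve_left (mul_ne_zero (sub_ne_zero.2 hγ1) (sub_ne_zero.2 hγβ))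
    have f5 : n • x 4 = 0 := by
      have := congrArg (ρ w) f4
      rwa [map_smul, ts4_w0 hx, map_zero] at this
    rw [smul_add, f4, f5, add_zero]
  have e4 : ph (ph x) 2 - t • ph x 2 + (t ^ 2 - t') • u0 k = 0 := by
    rw [e3] at e2
    have h12 : (144 : k) ≠ 0 := by
      rw [show (144 : k) = 2 * 2 * 2 * 2 * (3 * 3) by norm_num]
      exact mul_ne_zero (mul_ne_zero (mul_ne_zero (mul_ne_zero h2 h2) h2) h2) (mul_ne_zero h3 h3)
    exact (smul_eq_zero.1 e2.symm).resolve_left h12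
  have e5 : t ^ 2 - t' = 0 := by
    have := congrArg tr1 e4
    rw [tr1_add, sub_eq_add_neg, ← neg_smul, tr1_add, tr1_smul, tr1_smul, try', try'', tr1_u0, mul_zero, add_zero, zero_add,
      tr1_zero] at this
    exact (mul_eq_zero.1 this).resolve_right h3
  have e6 : t' = t ^ 2 := (sub_eq_zero.1 e5).symm
  have e7 : ph (ph x) 2 = t • ph x 2 := by
    rw [e5, zero_smul, add_zero] at e4
    exact sub_eq_zero.1 e4
  have e8 : ph (ph x) = t • ph x := by
    have h5 : TS ι p ρ 4 i (ph (ph x) + (-t) • ph x) := hy'.add (hy.smul (-t))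
    have h6 := ts4_zero_of_mid (by omega) hQ9 h5 (by
      rw [Pi.add_apply, Pi.smul_apply, e7]
      module)
    rw [neg_smul, ← sub_eq_add_neg] at h6
    exact sub_eq_zero.1 h6
  refine ⟨e8, e6, ?_⟩
  have e9 : (2 * t) • ph x 2 = cubicT (x 2) • x 2 := by
    have h5 : sh (x 2) = ph x 2 - t • u0 k := by
      have := shy2 x hx 1
      rw [one_smul, one_pow, one_smul, ht] at this
      exact this
    rw [← sh_sh, h5, sub_eq_add_neg, ← neg_smul, sh_add, sh_smul, sh_u0, cr_smul_right, cr_comm, cr_u0, try']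
    have h6 := shy2 _ hy 1
    rw [one_smul, one_pow, one_smul, ht', e6, e7] at h6
    rw [h6]
    module
  have h5 : TS ι p ρ 4 i ((2 * t) • ph x + (-cubicT (x 2)) • x) := (hy.smul _).add (hx.smul _)
  have h6 := ts4_zero_of_mid (by omega) hQ9 h5 (by
    rw [Pi.add_apply, Pi.smul_apply, Pi.smul_apply, e9]
    module)
  rw [neg_smul, ← sub_eq_add_neg] at h6
  exact sub_eq_zero.1 h6

end Cfsg.Agent.R2.F4L
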