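import Cfsg.Agent.R2.F4L.FourB

/-!
# The submodules `V_{4 p ^ i}`, III (helper2, S5931)

* `four_scalar` : `t ≠ 0` : `φ(x) = ν x`, `t = ν ^ 2`;
* `four_pair` : two orthogonal non-isotropic tuples do not exist;
* `four_rad` : `φ` of a radical tuple is a radical tuple;
* `four_dead` : the space of the tuples is one-dimensional and not isotropic;
* `four_gen` : two generators.
-/

set_option autoImplicit false
set_option linter.unusedSectionVars false

namespace Cfsg.Agent.R2.F4L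

open Cfsg.Lie
open Cfsg.Agent.ChevalleyStructure.E6Min.Tables Cfsg.Agent.ChevalleyStructure.E6Min.Basic
open Cfsg.Agent.H952.F4 (sh cr tf tr1 u0)
open Cfsg.Agent.H952.F4.Jord
open Cfsg.Agent.H943.SL2Rel Cfsg.Agent.R2.H28.SL2

universe u v w

variable {k : Type u} [Field k] [DecidableEq k] {K : Type w} [Field K] [Fintype K] [DecidableEq K] {ι : K →+* k}
variable {p : ℕ} [Fact p.Prime] [CharP k p] [CharP K p]

theorem ph_smul (c : k) (x : ℕ → I27 → k) : ph (c • x) = c ^ 2 • ph x := by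
  funext s
  match s with
  | 0 => show (4 : k) • (3 : k)⁻¹ • sh (c • x 1) = c ^ 2 • (4 : k) • (3 : k)⁻¹ • sh (x 1); rw [sh_smul]; module
  | 1 => show cr (c • x 1) (c • x 2) = c ^ 2 • cr (x 1) (x 2); rw [cr_smul_left, cr_smul_right]; module
  | 2 =>
    show (2 : k) • (3 : k)⁻¹ • cr (c • x 1) (c • x 3) + (2 : k) • sh (c • x 2) =
      c ^ 2 • ((2 : k) • (3 : k)⁻¹ • cr (x 1) (x 3) + (2 : k) • sh (x 2))
    rw [cr_smul_left, cr_smul_right, sh_smul]
    module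
  | 3 => show cr (c • x 2) (c • x 3) = c ^ 2 • cr (x 2) (x 3); rw [cr_smul_left, cr_smul_right]; module
  | 4 => show (4 : k) • (3 : k)⁻¹ • sh (c • x 3) = c ^ 2 • (4 : k) • (3 : k)⁻¹ • sh (x 3); rw [sh_smul]; module
  | s + 5 => show (0 : I27 → k) = c ^ 2 • 0; rw [smul_zero]

/-- the parallelogram law -/
theorem ph_par (x y : ℕ → I27 → k) : ph (x + y) + ph (x + (-1 : k) • y) = (2 : k) • ph x + (2 : k) • ph y := by
  funext s
  match s with
  | 0 =>
    show (4 : k) • (3 : k)⁻¹ • sh (x 1 + y 1) + (4 : k) • (3 : k)⁻¹ • sh (x 1 + (-1 : k) • y 1) =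
      (2 : k) • (4 : k) • (3 : k)⁻¹ • sh (x 1) + (2 : k) • (4 : k) • (3 : k)⁻¹ • sh (y 1)
    simp only [sh_add, sh_smul, cr_smul_right]
    module
  | 1 =>
    show cr (x 1 + y 1) (x 2 + y 2) + cr (x 1 + (-1 : k) • y 1) (x 2 + (-1 : k) • y 2) =
      (2 : k) • cr (x 1) (x 2) + (2 : k) • cr (y 1) (y 2)
    simp only [cr_add_left, cr_add_right, cr_smul_left, cr_smul_right]
    module
  | 2 =>
    show (2 : k) • (3 : k)⁻¹ • cr (x 1 + y 1) (x 3 + y 3) + (2 : k) • sh (x 2 + y 2) +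
      ((2 : k) • (3 : k)⁻¹ • cr (x 1 + (-1 : k) • y 1) (x 3 + (-1 : k) • y 3) + (2 : k) • sh (x 2 + (-1 : k) • y 2)) =
      (2 : k) • ((2 : k) • (3 : k)⁻¹ • cr (x 1) (x 3) + (2 : k) • sh (x 2)) +
      (2 : k) • ((2 : k) • (3 : k)⁻¹ • cr (y 1) (y 3) + (2 : k) • sh (y 2))
    simp only [sh_add, sh_smul, cr_add_left, cr_add_right, cr_smul_left, cr_smul_right]
    module
  | 3 =>
    show cr (x 2 + y 2) (x 3 + y 3) + cr (x 2 + (-1 : k) • y 2) (x 3 + (-1 : k) • y 3) =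
      (2 : k) • cr (x 2) (x 3) + (2 : k) • cr (y 2) (y 3)
    simp only [cr_add_left, cr_add_right, cr_smul_left, cr_smul_right]
    module
  | 4 =>
    show (4 : k) • (3 : k)⁻¹ • sh (x 3 + y 3) + (4 : k) • (3 : k)⁻¹ • sh (x 3 + (-1 : k) • y 3) =
      (2 : k) • (4 : k) • (3 : k)⁻¹ • sh (x 3) + (2 : k) • (4 : k) • (3 : k)⁻¹ • sh (y 3)
    simp only [sh_add, sh_smul, cr_smul_right]
    module
  | s + 5 => show (0 : I27 → k) + 0 = (2 : k) • 0 + (2 : k) • 0; simp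

variable {ρ : Representation k (Matrix.SpecialLinearGroup (Fin 2) K) (I27 → k)} {i : ℕ} {x : ℕ → I27 → k}

/-- the hypotheses -/
structure F4Hyp (ι : K →+* k) (p : ℕ) [Fact p.Prime] [CharP k p] [CharP K p]
    (ρ : Representation k (Matrix.SpecialLinearGroup (Fin 2) K) (I27 → k)) (i : ℕ) : Prop where
  act : Act ρ
  hp5 : 5 ≤ p
  hQ : 11 ≤ Fintype.card K
  fix : ∀ y : I27 → k, (∀ g, ρ g y = y) → ∃ c : k, y = c • u0 k
  hv : ∀ y : ℕ → I27 → k, TS ι p ρ 4 i y → sh (y 4) = 0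

theorem F4Hyp.exists_t (C : F4Hyp ι p ρ i) (hx : TS ι p ρ 4 i x) : ∃ t : k, ze x = t • u0 k :=
  C.fix _ (four_ze C.act C.hp5 (by have := C.hQ; omega) hx (C.hv x hx))

theorem F4Hyp.ph (C : F4Hyp ι p ρ i) (hx : TS ι p ρ 4 i x) : TS ι p ρ 4 i (ph x) :=
  four_ph C.act C.hp5 (by have := C.hQ; omega) hx (C.hv x hx)

theorem F4Hyp.tr (C : F4Hyp ι p ρ i) (hx : TS ι p ρ 4 i x) : tr1 (x 2) = 0 :=
  ts4_tr C.act (by have := C.hp5; omega) (by have := C.hp5; omega) (by have := C.hQ; omega) hx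

theorem F4Hyp.mid (C : F4Hyp ι p ρ i) (hx : TS ι p ρ 4 i x) (h : x 2 = 0) : x = 0 :=
  ts4_zero_of_mid (by have := C.hp5; omega) (by have := C.hQ; omega) hx h

theorem F4Hyp.main (C : F4Hyp ι p ρ i) (hx : TS ι p ρ 4 i x) {t : k} (ht : ze x = t • u0 k) :
    R2.F4L.ph (R2.F4L.ph x) = t • R2.F4L.ph x ∧ ze (R2.F4L.ph x) = t ^ 2 • u0 k ∧ (2 * t) • R2.F4L.ph x = cubicT (x 2) • x := by
  obtain ⟨t', ht'⟩ := C.exists_t (C.ph hx)
  obtain ⟨h1, h2, h3⟩ := four_main C.act C.hp5 C.hQ C.hv hx ht ht'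
  exact ⟨h1, by rw [ht', h2], h3⟩

theorem F4Hyp.two (C : F4Hyp ι p ρ i) : (2 : k) ≠ 0 := two_ne p (by have := C.hp5; omega)

theorem F4Hyp.three (C : F4Hyp ι p ρ i) : (3 : k) ≠ 0 := three_ne p (by have := C.hp5; omega)

/-- `x_2 ^ #` -/
theorem F4Hyp.sh2 (C : F4Hyp ι p ρ i) (hx : TS ι p ρ 4 i x) {t : k} (ht : ze x = t • u0 k) :
    sh (x 2) = R2.F4L.ph x 2 - t • u0 k := by
  have := four_sh3 C.act C.hp5 (by have := C.hQ; omega) hx (C.hv x hx) 0 1 0
  rw [zero_smul, zero_add, zero_smul, add_zero, one_smul, ht] at this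
  rw [this]
  module

/-- the form -/
theorem F4Hyp.tf2 (C : F4Hyp ι p ρ i) (hx : TS ι p ρ 4 i x) {t : k} (ht : ze x = t • u0 k) : tf (x 2) (x 2) = 6 * t := by
  have h1 := tr1_sh (x 2)
  rw [C.sh2 hx ht, sub_eq_add_neg, ← neg_smul, tr1_add, tr1_smul, tr1_u0, C.tr hx, C.tr (C.ph hx)] at h1
  linear_combination h1

/-- **the non-isotropic tuples** -/
theorem F4Hyp.scalar (C : F4Hyp ι p ρ i) (hx : TS ι p ρ 4 i x) {t : k} (ht : ze x = t • u0 k) (h0 : t ≠ 0) :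
    ∃ ν : k, R2.F4L.ph x = ν • x ∧ t = ν ^ 2 := by
  obtain ⟨h1, h2, h3⟩ := C.main hx ht
  have ht2 : (2 * t) ≠ 0 := mul_ne_zero C.two h0
  refine ⟨(2 * t)⁻¹ * cubicT (x 2), ?_, ?_⟩
  · rw [mul_smul, ← h3, smul_smul, inv_mul_cancel₀ ht2, one_smul]
  · set ν := (2 * t)⁻¹ * cubicT (x 2) with hν
    have h4 : R2.F4L.ph x = ν • x := by rw [hν, mul_smul, ← h3, smul_smul, inv_mul_cancel₀ ht2, one_smul]
    have hx0 : x ≠ 0 := by
      rintro rfl
      have h5 : ze (0 : ℕ → I27 → k) = 0 := by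
        show (2 : k) • (3 : k)⁻¹ • cr (0 : I27 → k) 0 + sh (0 : I27 → k) = 0
        rw [cr_zero_left, sh_zero]
        simp
      rw [h5] at ht
      exact h0 ((smul_eq_zero.1 ht.symm).resolve_right u0_ne)
    have hν0 : ν ≠ 0 := by
      intro h
      rw [h, zero_smul] at h4
      rw [h4] at h2
      have h5 : ze (0 : ℕ → I27 → k) = 0 := by
        show (2 : k) • (3 : k)⁻¹ • cr (0 : I27 → k) 0 + sh (0 : I27 → k) = 0
        rw [cr_zero_left, sh_zero]
        simp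
      rw [h5] at h2
      exact pow_ne_zero 2 h0 ((smul_eq_zero.1 h2.symm).resolve_right u0_ne)
    rw [h4, ph_smul, h4, smul_smul, smul_smul] at h1
    have h5 : (ν ^ 2 * ν - t * ν) • x = 0 := by rw [sub_smul, h1, sub_self]
    have h6 := (smul_eq_zero.1 h5).resolve_right hx0
    have h7 : (ν ^ 2 - t) * ν = 0 := by linear_combination h6
    exact (sub_eq_zero.1 ((mul_eq_zero.1 h7).resolve_right hν0)).symm

/-- **orthogonal pairs** -/
theorem F4Hyp.pair (C : F4Hyp ι p ρ i) {x y : ℕ → I27 → k} (hx : TS ι p ρ 4 i x) (hy : TS ι p ρ 4 i y)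
    (hxy : tf (x 2) (y 2) = 0) (hxx : tf (x 2) (x 2) ≠ 0) (hyy : tf (y 2) (y 2) ≠ 0) : False := by
  have h2 := C.two
  have h3 := C.three
  have h6 : (6 : k) ≠ 0 := by
    rw [show (6 : k) = 2 * 3 by norm_num]
    exact mul_ne_zero h2 h3
  -- generic coefficients
  have key : ∀ b : k, b ≠ 0 → tf (x 2) (x 2) + b ^ 2 * tf (y 2) (y 2) ≠ 0 → False := by
    intro b hb hne
    obtain ⟨s, hs⟩ := C.exists_t hx
    obtain ⟨t, ht⟩ := C.exists_t hy
    have es := C.tf2 hx hs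
    have et := C.tf2 hy ht
    have hs0 : s ≠ 0 := by
      rintro rfl
      rw [mul_zero] at es
      exact hxx es
    have ht0 : t ≠ 0 := by
      rintro rfl
      rw [mul_zero] at et
      exact hyy et
    obtain ⟨ν, hν, hsν⟩ := C.scalar hx hs hs0
    obtain ⟨μ, hμ, htμ⟩ := C.scalar hy ht ht0
    have hyb := hy.smul b
    have hp := hx.add hyb
    have hm := hx.add (hyb.smul (-1))
    obtain ⟨c, hc⟩ := C.exists_t hp
    obtain ⟨d, hd⟩ := C.exists_t hm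
    have ec := C.tf2 hp hc
    have ed := C.tf2 hm hd
    have e1 : tf ((x + b • y) 2) ((x + b • y) 2) = tf (x 2) (x 2) + b ^ 2 * tf (y 2) (y 2) := by
      show tf (x 2 + b • y 2) (x 2 + b • y 2) = _
      rw [tf_add_left, tf_add_right, tf_add_right, tf_smul_left, tf_smul_left, tf_smul_right, tf_smul_right, hxy,
        tf_comm (y 2) (x 2), hxy]
      ring
    have e2 : tf ((x + (-1 : k) • b • y) 2) ((x + (-1 : k) • b • y) 2) = tf (x 2) (x 2) + b ^ 2 * tf (y 2) (y 2) := by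
      show tf (x 2 + (-1 : k) • b • y 2) (x 2 + (-1 : k) • b • y 2) = _
      rw [tf_add_left, tf_add_right, tf_add_right, tf_smul_left, tf_smul_left, tf_smul_right, tf_smul_left, tf_smul_left,
        tf_smul_right, tf_smul_right, tf_smul_right, hxy, tf_comm (y 2) (x 2), hxy]
      ring
    rw [e1] at ec
    rw [e2] at ed
    have hc0 : c ≠ 0 := by
      rintro rfl
      rw [mul_zero] at ec
      exact hne ec
    have hd0 : d ≠ 0 := by
      rintro rfl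
      rw [mul_zero] at ed
      exact hne ed
    obtain ⟨α, hα, hcα⟩ := C.scalar hp hc hc0
    obtain ⟨β, hβ, hdβ⟩ := C.scalar hm hd hd0
    have par := ph_par x (b • y)
    rw [hα, hβ, hν, ph_smul, hμ] at par
    have par2 := congrFun par 2
    have e3 := congrArg (fun z => tf z (x 2)) par2
    have e4 := congrArg (fun z => tf z (y 2)) par2
    have hyx : tf (y 2) (x 2) = 0 := by rw [tf_comm, hxy]
    have e5 : (α + β) * tf (x 2) (x 2) = 2 * ν * tf (x 2) (x 2) := by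
      have : tf (α • (x 2 + b • y 2) + β • (x 2 + (-1 : k) • b • y 2)) (x 2) =
        tf ((2 : k) • ν • x 2 + (2 : k) • b ^ 2 • μ • y 2) (x 2) := e3
      simp only [tf_add_left, tf_smul_left, hyx] at this
      linear_combination this
    have e6 : (α - β) * b * tf (y 2) (y 2) = 2 * b ^ 2 * μ * tf (y 2) (y 2) := by
      have : tf (α • (x 2 + b • y 2) + β • (x 2 + (-1 : k) • b • y 2)) (y 2) =
        tf ((2 : k) • ν • x 2 + (2 : k) • b ^ 2 • μ • y 2) (y 2) := e4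
      simp only [tf_add_left, tf_smul_left, hxy] at this
      linear_combination this
    have e7 : α + β = 2 * ν := mul_right_cancel₀ hxx e5
    have e8 : α - β = 2 * b * μ := by
      have := mul_right_cancel₀ hyy e6
      have h : ((α - β) - 2 * b * μ) * b = 0 := by linear_combination this
      exact sub_eq_zero.1 ((mul_eq_zero.1 h).resolve_right hb)
    have e9 : α = ν + b * μ := by
      have : (2 : k) * (α - (ν + b * μ)) = 0 := by linear_combination e7 + e8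
      exact sub_eq_zero.1 ((mul_eq_zero.1 this).resolve_left h2)
    have e10 : 6 * (ν ^ 2 + b ^ 2 * μ ^ 2) = 6 * α ^ 2 := by
      rw [← hcα, ← ec, es, et, hsν, htμ]
      ring
    rw [e9] at e10
    have e11 : 6 * (2 * (ν * (b * μ))) = 0 := by linear_combination -e10
    have e12 : ν * (b * μ) = 0 := (mul_eq_zero.1 ((mul_eq_zero.1 e11).resolve_left h6)).resolve_left h2
    rcases mul_eq_zero.1 e12 with h | h
    · rw [h, zero_pow two_ne_zero] at hsν
      exact hs0 hsν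
    · have h' := (mul_eq_zero.1 h).resolve_left hb
      rw [h', zero_pow two_ne_zero] at htμ
      exact ht0 htμ
  by_cases h : tf (x 2) (x 2) + 1 ^ 2 * tf (y 2) (y 2) = 0
  · apply key 2 h2
    intro h'
    have : (3 : k) * tf (y 2) (y 2) = 0 := by linear_combination h' - h
    exact hyy ((mul_eq_zero.1 this).resolve_left h3)
  · exact key 1 one_ne_zero h

/-- radical tuples -/
def RadT (ι : K →+* k) (p : ℕ) [Fact p.Prime] [CharP k p] [CharP K p]
    (ρ : Representation k (Matrix.SpecialLinearGroup (Fin 2) K) (I27 → k)) (i : ℕ) (x : ℕ → I27 → k) : Prop :=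
  ∀ y : ℕ → I27 → k, TS ι p ρ 4 i y → tf (x 2) (y 2) = 0

/-- **`φ` preserves the radical** -/
theorem F4Hyp.rad (C : F4Hyp ι p ρ i) (hx : TS ι p ρ 4 i x) (hr : RadT ι p ρ i x) : RadT ι p ρ i (R2.F4L.ph x) := by
  intro y hy
  obtain ⟨s, hs⟩ := C.exists_t hx
  obtain ⟨t, ht⟩ := C.exists_t hy
  obtain ⟨r, hr'⟩ := C.exists_t (hx.add hy)
  have e1 := C.sh2 hx hs
  have e2 := C.sh2 hy ht
  have e3 := C.sh2 (hx.add hy) hr'
  have e4 : cr (x 2) (y 2) = R2.F4L.ph (x + y) 2 - R2.F4L.ph x 2 - R2.F4L.ph y 2 - (r - s - t) • u0 k := by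
    rw [cr_eq, show x 2 + y 2 = (x + y) 2 from rfl, e3, e1, e2]
    module
  have e5 : tf (x 2) (cr (x 2) (y 2)) = 0 := by
    rw [e4]
    have tfs : ∀ a b c : I27 → k, tf a (b - c) = tf a b - tf a c := fun a b c => by
      rw [sub_eq_add_neg, tf_add_right, show -c = (-1 : k) • c by rw [neg_one_smul], tf_smul_right]
      ring
    rw [tfs, tfs, tfs, tf_smul_right, hr _ (C.ph (hx.add hy)), hr _ (C.ph hx), hr _ (C.ph hy), tf_comm, tf_u0, C.tr hx]
    ring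
  have e6 : tf (cr (x 2) (x 2)) (y 2) = 0 := by rw [tf_cr, e5]
  rw [cr_self, tf_smul_left, e1, sub_eq_add_neg, ← neg_smul, tf_add_left, tf_smul_left, tf_u0, C.tr hy] at e6
  have e7 : (2 : k) * tf (R2.F4L.ph x 2) (y 2) = 0 := by linear_combination e6
  exact (mul_eq_zero.1 e7).resolve_left C.two

/-- the white case -/
theorem F4Hyp.white (C : F4Hyp ι p ρ i) (hx : TS ι p ρ 4 i x) (h1 : R2.F4L.ph x = 0) (h2 : ze x = 0) (a0 a1 a2 a3 a4 : k) :
    sh (a0 • x 0 + a1 • x 1 + a2 • x 2 + a3 • x 3 + a4 • x 4) = 0 := by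
  have Q := four_Q5 C.act C.hp5 (by have := C.hQ; omega) hx (C.hv x hx)
  have h4 : (4 : k) ≠ 0 := by
    rw [show (4 : k) = 2 * 2 by norm_num]
    exact mul_ne_zero C.two C.two
  have eA : (3 : k)⁻¹ • sh (x 1) = 0 := (smul_eq_zero.1 (congrFun h1 0 : (4 : k) • (3 : k)⁻¹ • sh (x 1) = 0)).resolve_left h4
  have eB : cr (x 1) (x 2) = 0 := congrFun h1 1
  have eE : cr (x 2) (x 3) = 0 := congrFun h1 3
  have eF : (3 : k)⁻¹ • sh (x 3) = 0 := (smul_eq_zero.1 (congrFun h1 4 : (4 : k) • (3 : k)⁻¹ • sh (x 3) = 0)).resolve_left h4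
  have e2 : (2 : k) • (3 : k)⁻¹ • cr (x 1) (x 3) + (2 : k) • sh (x 2) = 0 := congrFun h1 2
  have e3 : (2 : k) • (3 : k)⁻¹ • cr (x 1) (x 3) + sh (x 2) = 0 := h2
  have eD : sh (x 2) = 0 := by
    have : sh (x 2) = ((2 : k) • (3 : k)⁻¹ • cr (x 1) (x 3) + (2 : k) • sh (x 2)) -
      ((2 : k) • (3 : k)⁻¹ • cr (x 1) (x 3) + sh (x 2)) := by module
    rw [this, e2, e3, sub_zero]
  have eG : (3 : k)⁻¹ • cr (x 1) (x 3) = 0 := by
    rw [eD, add_zero] at e3
    exact (smul_eq_zero.1 e3).resolve_left C.two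
  rw [eA, eB, eD, eE, eF, eG] at Q
  rw [sh_lin5, Q.s0, Q.s1, Q.s2, Q.s3, Q.s4, Q.c01, Q.c02, Q.c03, Q.c04, Q.c12, Q.c13, Q.c14, Q.c23, Q.c24, Q.c34]
  simp

/-- **dead or one-dimensional** -/
theorem F4Hyp.dead (C : F4Hyp ι p ρ i)
    (hW : ∀ y : ℕ → I27 → k, TS ι p ρ 4 i y →
      (∀ a0 a1 a2 a3 a4 : k, sh (a0 • y 0 + a1 • y 1 + a2 • y 2 + a3 • y 3 + a4 • y 4) = 0) → y = 0)
    (hcount : ∀ y z : ℕ → I27 → k, TS ι p ρ 4 i y → TS ι p ρ 4 i z → RadT ι p ρ i y → RadT ι p ρ i z → y ≠ 0 →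
      ∃ c : k, z = c • y) (hx : TS ι p ρ 4 i x) (hx0 : x ≠ 0) :
    ∃ z : ℕ → I27 → k, TS ι p ρ 4 i z ∧ tf (z 2) (z 2) ≠ 0 ∧ ∀ y : ℕ → I27 → k, TS ι p ρ 4 i y → ∃ c : k, y = c • z := by
  have hrad : ∀ y : ℕ → I27 → k, TS ι p ρ 4 i y → RadT ι p ρ i y → y = 0 := by
    intro y hy hr
    by_contra hne
    obtain ⟨c, hc⟩ := hcount y _ hy (C.ph hy) hr (C.rad hy hr) hne
    obtain ⟨t, ht⟩ := C.exists_t hy
    have h1 := C.tf2 hy ht
    rw [hr y hy] at h1
    have h6 : (6 : k) ≠ 0 := by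
      rw [show (6 : k) = 2 * 3 by norm_num]
      exact mul_ne_zero C.two C.three
    have ht0 : t = 0 := (mul_eq_zero.1 h1.symm).resolve_left h6
    obtain ⟨h2, -, -⟩ := C.main hy ht
    rw [ht0, zero_smul, hc, ph_smul, hc, smul_smul] at h2
    have hc0 : c = 0 := by
      have := (smul_eq_zero.1 h2).resolve_right hne
      have h3 : c ^ 3 = 0 := by rw [← this]; ring
      exact pow_eq_zero_iff (by norm_num) |>.1 h3
    rw [hc0, zero_smul] at hc
    apply hne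
    exact hW y hy (C.white hy hc (by rw [ht, ht0, zero_smul]))
  -- a non-isotropic tuple, orthogonal to a given one or not
  have noniso : ∀ (P : (ℕ → I27 → k) → Prop) (_ : ∀ y z, P y → P z → P (y + z)) (y z : ℕ → I27 → k), TS ι p ρ 4 i y →
      TS ι p ρ 4 i z → P y → P z → tf (y 2) (z 2) ≠ 0 → ∃ z' : ℕ → I27 → k, TS ι p ρ 4 i z' ∧ P z' ∧ tf (z' 2) (z' 2) ≠ 0 := by
    intro P hP y z hy hz hPy hPz hyz
    by_cases h1 : tf (y 2) (y 2) = 0
    · by_cases h2 : tf (z 2) (z 2) = 0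
      · refine ⟨y + z, hy.add hz, hP _ _ hPy hPz, ?_⟩
        show tf (y 2 + z 2) (y 2 + z 2) ≠ 0
        rw [tf_add_left, tf_add_right, tf_add_right, h1, h2, tf_comm (z 2) (y 2), zero_add, add_zero, ← two_mul]
        exact mul_ne_zero C.two hyz
      · exact ⟨z, hz, hPz, h2⟩
    · exact ⟨y, hy, hPy, h1⟩
  have ex : ∀ y : ℕ → I27 → k, TS ι p ρ 4 i y → y ≠ 0 → ∃ z, TS ι p ρ 4 i z ∧ tf (y 2) (z 2) ≠ 0 := by
    intro y hy hy0
    by_contra hne
    push Not at hne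
    exact hy0 (hrad y hy hne)
  obtain ⟨x', hx', hxx'⟩ := ex x hx hx0
  obtain ⟨z, hz, -, hzz⟩ := noniso (fun _ => True) (fun _ _ _ _ => trivial) x x' hx hx' trivial trivial hxx'
  refine ⟨z, hz, hzz, fun y hy => ?_⟩
  -- the projections to the orthogonal space of `z`
  have proj : ∀ y : ℕ → I27 → k, TS ι p ρ 4 i y → ∃ c : k, TS ι p ρ 4 i (y + (-c) • z) ∧ tf ((y + (-c) • z) 2) (z 2) = 0 := by
    intro y hy
    refine ⟨tf (y 2) (z 2) * (tf (z 2) (z 2))⁻¹, hy.add (hz.smul _), ?_⟩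
    show tf (y 2 + (-(tf (y 2) (z 2) * (tf (z 2) (z 2))⁻¹)) • z 2) (z 2) = 0
    rw [tf_add_left, tf_smul_left]
    field_simp
    ring
  obtain ⟨c, hc, hc2⟩ := proj y hy
  refine ⟨c, ?_⟩
  by_contra hne
  have hy1 : y + (-c) • z ≠ 0 := by
    intro h
    apply hne
    have : y = (y + (-c) • z) + c • z := by module
    rw [this, h, zero_add]
  obtain ⟨z1, hz1, hyz1⟩ := ex _ hc hy1
  obtain ⟨d, hd, hd2⟩ := proj z1 hz1
  obtain ⟨z', hz', hP', hz'z'⟩ := noniso (fun y => tf (y 2) (z 2) = 0) (fun a b ha hb => by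
    show tf (a 2 + b 2) (z 2) = 0
    rw [tf_add_left, ha, hb, add_zero]) _ _ hc hd hc2 hd2 (by
      show tf ((y + (-c) • z) 2) (z1 2 + (-d) • z 2) ≠ 0
      rw [tf_add_right, tf_smul_right, hc2, mul_zero, add_zero]
      exact hyz1)
  exact C.pair hz' hz hP' hz'z' hzz

/-- **two generators** -/
theorem F4Hyp.gen (C : F4Hyp ι p ρ i) (hx : TS ι p ρ 4 i x) {t : k} (ht : ze x = t • u0 k) (h0 : t ≠ 0)
    {U : Submodule k (I27 → k)} (hu : u0 k ∈ U) (hcr : ∀ a ∈ U, ∀ b ∈ U, cr a b ∈ U) (h1 : x 1 ∈ U) (h4 : x 4 ∈ U) :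
    ∀ s, x s ∈ U := by
  obtain ⟨ν, hν, hν2⟩ := C.scalar hx ht h0
  have hν0 : ν ≠ 0 := by
    rintro rfl
    rw [zero_pow two_ne_zero] at hν2
    exact h0 hν2
  have Q := four_Q5 C.act C.hp5 (by have := C.hQ; omega) hx (C.hv x hx)
  have can : ∀ {c : k} {x : I27 → k}, c ≠ 0 → c • x ∈ U → x ∈ U := fun {c x} hc hx => by
    have := U.smul_mem c⁻¹ hx
    rwa [smul_smul, inv_mul_cancel₀ hc, one_smul] at this
  have h2' := C.two
  have h3' := C.three
  have h6 : (6 : k) ≠ 0 := by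
    rw [show (6 : k) = 2 * 3 by norm_num]
    exact mul_ne_zero h2' h3'
  -- `x 0`
  have e0 : x 0 ∈ U := by
    have h5 := hcr _ h1 _ h1
    rw [cr_self] at h5
    have h6 : (4 : k) • (3 : k)⁻¹ • sh (x 1) = ν • x 0 := congrFun hν 0
    apply can hν0
    rw [← h6]
    exact U.smul_mem _ (U.smul_mem _ (can h2' h5))
  have e3 : x 3 ∈ U := by
    have h5 := hcr _ h1 _ h4
    rw [Q.c14] at h5
    have h7 : cr (x 2) (x 3) = ν • x 3 := congrFun hν 3
    rw [h7] at h5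
    exact can hν0 (can (neg_ne_zero.2 h6) h5)
  have e2 : x 2 ∈ U := by
    have h5 := hcr _ e0 _ h4
    have h7 : (2 : k) • (3 : k)⁻¹ • cr (x 1) (x 3) + (2 : k) • sh (x 2) = ν • x 2 := congrFun hν 2
    have h8 : (2 : k) • (3 : k)⁻¹ • cr (x 1) (x 3) + sh (x 2) = t • u0 k := ht
    have h9 : cr (x 0) (x 4) = (-12 : k) • ν • x 2 + (-12 : k) • t • u0 k := by
      rw [Q.c04, ← h7, ← h8]
      module
    rw [h9] at h5
    have h10 := U.sub_mem h5 (U.smul_mem (-12 : k) (U.smul_mem t hu))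
    rw [add_sub_cancel_right] at h10
    apply can hν0
    apply can _ h10
    rw [show (-12 : k) = -(2 * 6) by norm_num]
    exact neg_ne_zero.2 (mul_ne_zero h2' h6)
  intro s
  match s with
  | 0 => exact e0
  | 1 => exact h1
  | 2 => exact e2
  | 3 => exact e3
  | 4 => exact h4
  | s + 5 =>
    rw [hx.zero _ (by omega)]
    exact U.zero_mem

end Cfsg.Agent.R2.F4L
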