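import Cfsg.Agent.R2.F4N.Rat
import Cfsg.Agent.R2.F4P.C2
import Cfsg.Agent.R2.F4L.TupD

/-!
# SUB6 (helper2, S5931)

* `Us f φ X` : `X` is the only non-isotropic irreducible submodule of its dimension; `Us.mem`, `Us.sm_mem` : stability;
* `rat_of` : rational bases; `kc_of` : the pointwise stabilizer.
-/

set_option autoImplicit false
set_option linter.unusedSectionVars false
set_option linter.unusedVariables false

namespace Cfsg.Agent.R2.F4L

open Cfsg Cfsg.Lie Module Matrix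
open Cfsg.Agent.ChevalleyStructure.E6Min.Basic
open Cfsg.Agent.H952.F4 Cfsg.Agent.H952.F4.Jord
open Cfsg.Agent.H952.F4.FixV (W0 mem_W0 finrank_W0 u0_ne_zero tr1_eq)
open Cfsg.Agent.R2.H9.E6
open Cfsg.Agent.GpExc.Field (emb)
open Cfsg.Agent.R2.H28.SL2 Cfsg.Agent.H943.RepAdd
open Cfsg.Agent.R2.F4M Cfsg.Agent.R2.F4N

universe u v w

variable {F : Type u} [Field F] [Fintype F] {K : Type v} [Field K] [Fintype K] {p a b : ℕ}
variable {H : Subgroup ↥(chevF4.group F)} {φ : ProjectiveSpecialLinearGroup (Fin 2) K →* ↥(chevF4.group F)}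
variable {k : Type u} [Field k] {f : F →+* k}

/-- the only non-isotropic irreducible submodule of its dimension -/
structure Us (f : F →+* k) (φ : ProjectiveSpecialLinearGroup (Fin 2) K →* ↥(chevF4.group F)) (X : Submodule k (I27 → k)) : Prop
    extends Ir f φ X where
  ns : ∃ x ∈ X, ∃ y ∈ X, tf x y ≠ 0
  us : ∀ Y, Ir f φ Y → finrank k Y = finrank k X → (∃ x ∈ Y, ∃ y ∈ Y, tf x y ≠ 0) → Y = X

theorem Us.sm_mem {X : Submodule k (I27 → k)} (h : Us f φ X) (s : k →+* k) (hs : ∀ c, s (f c) = f c)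
    (hsur : Function.Surjective s) : ∀ x ∈ X, sm s x ∈ X := by
  intro x hx
  obtain ⟨y, hy, z, hz, hyz⟩ := h.ns
  have h1 := h.us _ (h.toIr.smS hs hsur) (finrank_smS s hsur X) ⟨sm s y, ⟨y, hy, rfl⟩, sm s z, ⟨z, hz, rfl⟩, by
    have e : tf (sm s y) (sm s z) = s (tf y z) := map_tf s y z
    rw [e]
    exact (map_ne_zero s).2 hyz⟩
  rw [← h1]
  exact ⟨x, hx, rfl⟩

theorem Us.mem (hc : Cfg p a b H φ) {X : Submodule k (I27 → k)} (h : Us f φ X) {g : ↥(chevF4.group F)} (hg : g ∈ H)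
    {x : I27 → k} (hx : x ∈ X) : Jr k (emb hF4 f g) x ∈ X := by
  obtain ⟨y, hy, z, hz, hyz⟩ := h.ns
  have h1 := h.us _ (h.toIr.map hc hg) (Submodule.equivMapOfInjective _ (Jr_inj _) X).symm.finrank_eq
    ⟨_, ⟨y, hy, rfl⟩, _, ⟨z, hz, rfl⟩, by
      rw [Jr_tf]
      exact hyz⟩
  rw [← h1]
  exact ⟨x, hx, rfl⟩

/-- **the pointwise stabilizer** -/
theorem kc_of (hc : Cfg p a b H φ) (h3 : (3 : F) ≠ 0) {B : Submodule k (I27 → k)}
    (hB : ∀ g ∈ H, ∀ x ∈ B, Jr k (emb hF4 f g) x ∈ B) {v : I27 → F} (hv : v ∈ dn f B)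
    {s : ProjectiveSpecialLinearGroup (Fin 2) K} (hs : Jr F (φ s) v ≠ v) {g : ↥(chevF4.group F)}
    (hg : ∀ x ∈ B, Jr k (emb hF4 f g) x = x) : g = 1 := by
  have hg' : ∀ x ∈ dn f B, Jr F g x = x := by
    intro x hx
    apply up_inj (f := f)
    rw [← Jr_map]
    exact hg _ hx
  by_cases hW : W0 F ≤ dn f B
  · apply Jr_faithful
    intro x
    rw [Jr_one]
    have h1 : x + (-(tr1 x * 3⁻¹)) • u0 F ∈ W0 F := by
      rw [mem_W0, tr1_add, tr1_smul, tr1_u0]
      field_simp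
      ring
    have h2 := hg' _ (hW h1)
    rw [map_add, map_smul, Jr_u0] at h2
    exact add_right_cancel h2
  · refine hc.kc (U := dn f B) ?_ ⟨fun hU => ?_, hW⟩ ⟨s, v, hv, hs⟩ hg'
    · intro h hh x hx
      rw [mem_dn, ← Jr_map]
      exact hB h hh _ hx
    · obtain ⟨c, rfl⟩ := Submodule.mem_span_singleton.1 (hU hv)
      apply hs
      rw [map_smul, Jr_u0]

/-- **descent** (the proof of `F4N.Uq.rat`) -/
theorem rat_of (hc : Cfg p a b H φ) [IsAlgClosed k] {X : Submodule k (I27 → k)}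
    (h : ∀ s : k →+* k, (∀ c, s (f c) = f c) → Function.Surjective s → ∀ x ∈ X, sm s x ∈ X) {n : ℕ} (hn : 1 ≤ n)
    (hnp : n < p) {κ : K →+* k} {x : ℕ → I27 → k} (hx : ∀ s ≤ n, x s ∈ X) (hx0 : ∀ s ≤ n, x s ≠ 0)
    (hS : Str κ (Rk f φ) n x) (htop : ∀ v ∈ X, (∀ t, Rk f φ (Cfsg.Agent.H943.SL2Rel.u t) v = v) → ∃ c : k, v = c • x n) :
    ∃ κ' : K →+* F, f.comp κ' = κ ∧ ∃ (x' : ℕ → I27 → F) (ν : k), ν ≠ 0 ∧
      (∀ s ≤ n, (fun i => f (x' s i)) = ν • x s) ∧ Str κ' (RF φ) n x' := by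
  classical
  have hp : Fact p.Prime := ⟨hc.prime⟩
  have hcF := hc.charF
  have hk : CharP k p := charP_of_injective_ringHom f.injective p
  have hcard := hc.cardF
  have hq : 1 < Fintype.card F := Fintype.one_lt_card
  let s : k →+* k := iterateFrobenius k p b
  have hs1 : ∀ c, s c = c ^ Fintype.card F := fun c => by rw [hcard]; exact iterateFrobenius_def p b c
  have hs : ∀ c, s (f c) = f c := fun c => by rw [hs1, ← map_pow, FiniteField.pow_card]
  have hsur : Function.Surjective s := fun c => by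
    obtain ⟨z, hz⟩ := IsAlgClosed.exists_pow_nat_eq c (n := Fintype.card F) (by omega)
    exact ⟨z, by rw [hs1, hz]⟩
  have hRk : ∀ g v, sm s (Rk f φ g v) = Rk f φ g (sm s v) := fun g v => sm_Jr s f hs _ v
  -- normalization
  obtain ⟨μ, hμ⟩ := htop _ (h s hs hsur _ (hx n le_rfl)) fun t => by rw [← hRk, hS.top]
  have hμ0 : μ ≠ 0 := by
    rintro rfl
    rw [zero_smul, ← sm_zero s] at hμ
    exact hx0 n le_rfl (sm_inj s hμ)
  obtain ⟨ν, hν⟩ := IsAlgClosed.exists_pow_nat_eq μ⁻¹ (n := Fintype.card F - 1) (by omega)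
  have hν0 : ν ≠ 0 := by
    rintro rfl
    rw [zero_pow (by omega)] at hν
    exact hμ0 (inv_eq_zero.1 hν.symm)
  have hν1 : s ν * μ = ν := by
    rw [hs1, show Fintype.card F = Fintype.card F - 1 + 1 by omega, pow_succ, hν]
    field_simp
  set y : ℕ → I27 → k := fun s => ν • x s with hy
  have hSy : Str κ (Rk f φ) n y := hS.smul ν
  have hyn : sm s (y n) = y n := by
    rw [hy]
    show sm s (ν • x n) = ν • x n
    rw [sm_smul, hμ, smul_smul, hν1]
  have hy0 : sm s (y 0) = y 0 := by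
    apply Jr_inj (emb hF4 f (φ (pq Cfsg.Agent.H943.SL2Rel.w)))
    have h1 : Rk f φ Cfsg.Agent.H943.SL2Rel.w (y 0) = y n := by
      rw [hSy.w 0 (Nat.zero_le _), pow_zero, one_smul, Nat.sub_zero]
    change Rk f φ Cfsg.Agent.H943.SL2Rel.w (sm s (y 0)) = Rk f φ Cfsg.Agent.H943.SL2Rel.w (y 0)
    rw [← hRk, h1, hyn]
  -- the Frobenius on K
  have haK := hc.cardK
  have hpow : ∀ t : K, t ^ (p ^ b) = t ^ (p ^ (b % a)) := by
    intro t
    conv_lhs => rw [← Nat.div_add_mod b a, pow_add, pow_mul p a, pow_mul, ← haK, FiniteField.pow_card_pow]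
  have hsκ : ∀ t : K, s (κ t) = κ t ^ (p ^ (b % a)) := by
    intro t
    rw [hs1, hcard, ← map_pow, hpow, map_pow]
  have hlt : b % a < a := Nat.mod_lt _ hc.ha
  have hkey : ∀ (t : K) (i : I27), ∑ j ∈ Finset.range (n + 1), ((n.choose j : k) * y j i) * κ t ^ j =
      ∑ j ∈ Finset.range (n + 1), ((n.choose j : k) * s (y j i)) * κ t ^ (j * p ^ (b % a)) := by
    intro t i
    have h1 : sm s (Rk f φ (Cfsg.Agent.H943.SL2Rel.u t) (y 0)) = Rk f φ (Cfsg.Agent.H943.SL2Rel.u t) (y 0) := by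
      rw [hRk, hy0]
    rw [hSy.u 0 (Nat.zero_le _) t, sm_sum] at h1
    have h2 := congrFun h1 i
    rw [Finset.sum_apply, Finset.sum_apply] at h2
    rw [Nat.sub_zero] at h2
    refine (Eq.trans ?_ h2.symm).trans ?_
    · refine Finset.sum_congr rfl fun j _ => ?_
      rw [Pi.smul_apply, smul_eq_mul, zero_add]
      ring
    · refine Finset.sum_congr rfl fun j _ => ?_
      rw [sm_smul, Pi.smul_apply, smul_eq_mul, zero_add, map_mul, map_natCast, map_pow, hsκ, ← pow_mul,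
        mul_comm (p ^ (b % a)) j]
      show _ * s (y j i) = _
      ring
  have hb1 : ∀ j ∈ Finset.range (n + 1), j < Fintype.card K := by
    intro j hj
    have h1 := Finset.mem_range.1 hj
    rw [haK]
    calc j ≤ n := by omega
      _ < p := hnp
      _ = p ^ 1 := (pow_one p).symm
      _ ≤ p ^ a := Nat.pow_le_pow_right hc.prime.pos hc.ha
  have hb2 : ∀ j ∈ Finset.range (n + 1), j * p ^ (b % a) < Fintype.card K := by
    intro j hj
    have h1 := Finset.mem_range.1 hj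
    rw [haK]
    calc j * p ^ (b % a) < p * p ^ (b % a) := Nat.mul_lt_mul_of_pos_right (by omega) (Nat.pow_pos hc.prime.pos)
      _ = p ^ (b % a + 1) := by rw [pow_succ, mul_comm]
      _ ≤ p ^ a := Nat.pow_le_pow_right hc.prime.pos hlt
  have hcoef : ∀ (i : I27) (m : ℕ), ∑ j ∈ Finset.range (n + 1) with j = m, ((n.choose j : k) * y j i) =
      ∑ j ∈ Finset.range (n + 1) with j * p ^ (b % a) = m, ((n.choose j : k) * s (y j i)) := fun i m =>
    coef_gen κ _ _ (fun j => j) (fun j => j * p ^ (b % a)) _ _ hb1 hb2 (fun t => hkey t i) m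
  have hchoose : ∀ j ≤ n, (n.choose j : k) ≠ 0 := fun j hj => choose_ne hnp hj
  have hyne : ∀ j ≤ n, y j ≠ 0 := fun j hj => smul_ne_zero hν0 (hx0 j hj)
  have he : b % a = 0 := by
    by_contra he
    apply hyne 1 hn
    funext i
    have h1 := hcoef i 1
    rw [Finset.sum_filter, Finset.sum_ite_eq' (Finset.range (n + 1)) 1, if_pos (Finset.mem_range.2 (by omega)),
      Finset.filter_false_of_mem, Finset.sum_empty] at h1
    · exact (mul_eq_zero.1 h1).resolve_left (hchoose 1 hn)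
    · intro j _ hj
      have h2 : p ^ (b % a) = 1 := Nat.dvd_one.1 ⟨j, by rw [mul_comm]; exact hj.symm⟩
      have h3 : 1 < p ^ (b % a) := Nat.one_lt_pow he hc.prime.one_lt
      omega
  have hfix : ∀ j ≤ n, ∀ i, s (y j i) = y j i := by
    intro j hj i
    have h1 := hcoef i j
    simp only [he, pow_zero, mul_one] at h1
    rw [Finset.sum_filter, Finset.sum_ite_eq' (Finset.range (n + 1)) j, if_pos (Finset.mem_range.2 (by omega)),
      Finset.sum_filter, Finset.sum_ite_eq' (Finset.range (n + 1)) j, if_pos (Finset.mem_range.2 (by omega))] at h1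
    exact (mul_left_cancel₀ (hchoose j hj) h1).symm
  have hκ : ∀ t, ∃ d, f d = κ t := fun t => exists_of_pow f (by
    rw [← hs1, hsκ, he, pow_zero, pow_one])
  obtain ⟨κ', hκ'⟩ := exists_lift f κ hκ
  have hex : ∀ j, ∃ z : I27 → F, j ≤ n → (fun i => f (z i)) = y j := by
    intro j
    by_cases hj : j ≤ n
    · have h1 : ∀ i, ∃ d, f d = y j i := fun i => exists_of_pow f (by rw [← hs1, hfix j hj])
      choose z hz using h1
      exact ⟨z, fun _ => funext hz⟩
    · exact ⟨0, fun hj' => absurd hj' hj⟩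
  choose x' hx' using hex
  refine ⟨κ', hκ', x', ν, hν0, fun s hs => hx' s hs, ?_⟩
  rw [← hκ'] at hSy
  exact hSy.down fun s hs => hx' s hs


end Cfsg.Agent.R2.F4L
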