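import Cfsg.Agent.R2.F4L.Sub6
import Cfsg.Agent.R2.F4L.Two

/-!
# SUB6, II (helper2, S5931)

* `emW` : the embedding `W0 k → J`; `ir_of` : spans of tuples;
* `sub4` : the case of a tuple of type `(4, i)`; `sub2` : the case of a tuple of type `(2, i)`.
-/

set_option autoImplicit false
set_option linter.unusedSectionVars false
set_option linter.unusedVariables false

namespace Cfsg.Agent.R2.F4L

open Cfsg Cfsg.Lie Module Matrix
open Cfsg.Agent.ChevalleyStructure.E6Min.Basic
open Cfsg.Agent.H952.F4 (sh cr tf tr1 u0 hF4)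
open Cfsg.Agent.H952.F4.Jord
open Cfsg.Agent.H952.F4.FixV (W0 mem_W0 finrank_W0 u0_ne_zero tr1_eq)
open Cfsg.Agent.R2.H9.E6
open Cfsg.Agent.GpExc.Field (emb)
open Cfsg.Agent.H943.SL2Rel Cfsg.Agent.H943.SL2Mod
open Cfsg.Agent.R2.H28.SL2 Cfsg.Agent.H943.RepAdd
open Cfsg.Agent.R2.F4M Cfsg.Agent.R2.F4N

universe u v w

variable {F : Type u} [Field F] [Fintype F] {K : Type v} [Field K] [Fintype K] [DecidableEq K] {p a b : ℕ}
variable {H : Subgroup ↥(chevF4.group F)} {φ : ProjectiveSpecialLinearGroup (Fin 2) K →* ↥(chevF4.group F)}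
variable {k : Type u} [Field k] [DecidableEq k] {f : F →+* k} {ι : K →+* k} [Fact p.Prime] [CharP k p] [CharP K p]

/-- the embedding -/
theorem emW : Em (Rk f φ) (R0 f φ) (W0 k).subtype where
  inj := Subtype.val_injective
  tr := fun x => (mem_W0 _).1 x.2
  sur := fun y hy => ⟨⟨y, (mem_W0 y).2 hy⟩, rfl⟩
  eqv := fun _ _ => rfl

theorem act_Rk : Act (Rk f φ) := ⟨fun g x => (Rk_sh f φ g x).symm, fun g => Rk_u0 f φ g⟩

theorem TS.str {V : Type*} [AddCommGroup V] [Module k V] {ρ : Representation k (SpecialLinearGroup (Fin 2) K) V} {n i : ℕ}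
    {x : ℕ → V} (hx : TS ι p ρ n i x) : Str ((iterateFrobenius k p i).comp ι) ρ n x where
  u := fun s hs t => hx.u s hs t
  h := fun s hs c => hx.h s hs c
  w := hx.w

section

variable {n i : ℕ} {x : ℕ → I27 → k} (hx : TS ι p (Rk f φ) n i x) (hx0 : x ≠ 0) (hn : n < p) (hn1 : 1 ≤ n)
  (hb : n * p ^ i ≤ Fintype.card K - 1)

include hx hx0 hn hn1 hb

/-- spans of tuples -/
theorem ir_of : Ir f φ (Submodule.span k (Set.range x)) := by
  obtain ⟨hX, hV⟩ := hx.isV hn hb hx0
  refine ⟨?_, hX, ?_, fun Y hY hYs => ?_⟩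
  · rw [Submodule.span_le]
    rintro _ ⟨s, rfl⟩
    exact (mem_W0 _).2 (ts_tr act_Rk hn hn1 hb hx s)
  · intro h
    apply hx0
    funext s
    have h2 : x s ∈ Submodule.span k (Set.range x) := Submodule.subset_span ⟨s, rfl⟩
    rw [h, Submodule.mem_bot] at h2
    exact h2
  · rcases (IsV.irr ι p hV).2 (Y.comap (Submodule.span k (Set.range x)).subtype) (fun g x hx => hYs g _ hx) with h | h
    · left
      rw [eq_bot_iff]
      intro y hy
      have h3 : (⟨y, hY hy⟩ : Submodule.span k (Set.range x)) ∈ Y.comap (Submodule.span k (Set.range x)).subtype := hy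
      rw [h, Submodule.mem_bot] at h3
      exact (Submodule.mem_bot k).2 (congrArg Subtype.val h3)
    · right
      refine le_antisymm hY fun y hy => ?_
      have h3 : (⟨y, hy⟩ : Submodule.span k (Set.range x)) ∈ Y.comap (Submodule.span k (Set.range x)).subtype := by
        rw [h]; trivial
      exact h3

theorem top_of : ∀ v ∈ Submodule.span k (Set.range x), (∀ t, Rk f φ (u t) v = v) → ∃ c : k, v = c • x n := by
  obtain ⟨hX, hV⟩ := hx.isV hn hb hx0
  intro v hv hvu
  obtain ⟨m, hm0, -, -, -, huniq⟩ := IsV.hw ι p hV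
  obtain ⟨c, hc⟩ := huniq ⟨x n, Submodule.subset_span ⟨n, rfl⟩⟩ (fun t => Subtype.ext (hx.u_top t))
  obtain ⟨d, hd⟩ := huniq ⟨v, hv⟩ (fun t => Subtype.ext (hvu t))
  have hc0 : c ≠ 0 := by
    rintro rfl
    rw [zero_smul] at hc
    exact hx0 (hx.zero_of hn hb le_rfl (congrArg Subtype.val hc))
  refine ⟨d * c⁻¹, ?_⟩
  have e1 : x n = c • (m : I27 → k) := congrArg Subtype.val hc
  have e2 : v = d • (m : I27 → k) := congrArg Subtype.val hd
  rw [e2, e1, smul_smul, mul_assoc, inv_mul_cancel₀ hc0, mul_one]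

theorem ne_of (s : ℕ) (hs : s ≤ n) : x s ≠ 0 := fun h => hx0 (hx.zero_of hn hb hs h)

theorem fin_of [IsAlgClosed k] (hF : Fintype.card K = p ^ a) : finrank k (Submodule.span k (Set.range x)) = n + 1 := by
  obtain ⟨hX, hV⟩ := hx.isV hn hb hx0
  exact hV.dim_single ι hF hn

end

/-- the fixed space of an element -/
def fixE (f : F →+* k) (g : ↥(chevF4.group F)) : Submodule k (I27 → k) where
  carrier := {x | Jr k (emb hF4 f g) x = x}
  add_mem' := fun {x y} hx hy => by
    show Jr k (emb hF4 f g) (x + y) = x + y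
    rw [map_add, show Jr k (emb hF4 f g) x = x from hx, show Jr k (emb hF4 f g) y = y from hy]
  zero_mem' := map_zero _
  smul_mem' := fun c x hx => by
    show Jr k (emb hF4 f g) (c • x) = c • x
    rw [map_smul, show Jr k (emb hF4 f g) x = x from hx]

theorem mem_fixE {g : ↥(chevF4.group F)} {x : I27 → k} : x ∈ fixE f g ↔ Jr k (emb hF4 f g) x = x := Iff.rfl

theorem fixE_u0 (g : ↥(chevF4.group F)) : u0 k ∈ fixE f g := Jr_u0 _

theorem fixE_cr {g : ↥(chevF4.group F)} : ∀ a ∈ fixE f g, ∀ b ∈ fixE f g, cr a b ∈ fixE f g := by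
  intro a ha b hb
  rw [mem_fixE] at ha hb ⊢
  rw [← Jr_cr, ha, hb]

theorem fixE_up {g : ↥(chevF4.group F)} {x : I27 → F} (hx : Jr F g x = x) : (fun i => f (x i)) ∈ fixE f g := by
  rw [mem_fixE, Jr_map, hx]

theorem threeF (hc : Cfg p a b H φ) (hp5 : 5 ≤ p) : (3 : F) ≠ 0 := by
  classical
  have := hc.charF
  exact three_ne p (by omega)

/-- **the tuples of type `(4, i)`** -/
theorem sub4 (hc : Cfg p a b H φ) [IsAlgClosed k] {i : ℕ} (hi : i < a) (C : F4Hyp ι p (Rk f φ) i) {z : ℕ → I27 → k}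
    (hz : TS ι p (Rk f φ) 4 i z) (hzz : tf (z 2) (z 2) ≠ 0) (hus : Us f φ (Submodule.span k (Set.range z))) : False := by
  have hp5 := C.hp5
  have hb : 4 * p ^ i ≤ Fintype.card K - 1 := by
    have := single_lt p (by omega : 4 < p) hi
    rw [hc.cardK]
    omega
  have hz0 : z ≠ 0 := by
    rintro rfl
    apply hzz
    show tf (0 : I27 → k) 0 = 0
    rw [tf_zero_left]
  obtain ⟨κ', -, x', ν, hν, hx', hS⟩ := rat_of hc hus.sm_mem (n := 4) (by norm_num) (by omega)
    (fun s _ => Submodule.subset_span ⟨s, rfl⟩) (ne_of hz hz0 (by omega) (by norm_num) hb) hz.str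
    (top_of hz hz0 (by omega) (by norm_num) hb)
  obtain ⟨g, hg1, hga, hgb⟩ := R2.F4P.common_stab (x' 1) (x' 4)
  apply hg1
  have hy := hz.smul ν
  obtain ⟨t, ht⟩ := C.exists_t hy
  have ht0 : t ≠ 0 := by
    rintro rfl
    have h1 := C.tf2 hy ht
    have h2 : ν * (ν * tf (z 2) (z 2)) = 6 * 0 := by
      rw [← h1]
      show _ = tf (ν • z 2) (ν • z 2)
      rw [tf_smul_left, tf_smul_right]
    rw [mul_zero] at h2
    exact (mul_ne_zero hν (mul_ne_zero hν hzz)) h2
  have h1 : (ν • z) 1 ∈ fixE f g := by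
    show ν • z 1 ∈ fixE f g
    rw [← hx' 1 (by norm_num)]
    exact fixE_up hga
  have h4 : (ν • z) 4 ∈ fixE f g := by
    show ν • z 4 ∈ fixE f g
    rw [← hx' 4 (by norm_num)]
    exact fixE_up hgb
  have hall := C.gen hy ht ht0 (fixE_u0 g) fixE_cr h1 h4
  have hfix : ∀ x ∈ Submodule.span k (Set.range z), Jr k (emb hF4 f g) x = x := by
    intro x hx
    have h2 : Submodule.span k (Set.range z) ≤ fixE f g := by
      rw [Submodule.span_le]
      rintro _ ⟨s, rfl⟩
      have h3 := (fixE f g).smul_mem ν⁻¹ (hall s)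
      have h5 : ν⁻¹ • (ν • z) s = z s := by
        show ν⁻¹ • ν • z s = z s
        rw [smul_smul, inv_mul_cancel₀ hν, one_smul]
      rwa [h5] at h3
    exact h2 hx
  refine kc_of hc (threeF hc hp5) (B := Submodule.span k (Set.range z)) (fun g hg x hx => hus.mem hc hg hx) (v := x' 3) ?_
    (s := pq (u 1)) ?_ hfix
  · rw [mem_dn, hx' 3 (by norm_num)]
    exact Submodule.smul_mem _ _ (Submodule.subset_span ⟨3, rfl⟩)
  · intro h
    have h2 := hS.u 3 (by norm_num) 1
    rw [RF_apply, h, show 4 - 3 + 1 = 2 by norm_num, Finset.sum_range_succ, Finset.sum_range_one, map_one, pow_zero, mul_one,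
      pow_one, mul_one, Nat.choose_zero_right, Nat.cast_one, one_smul, add_zero, Nat.choose_self, Nat.cast_one,
      one_smul] at h2
    have h3 : x' 4 = 0 := left_eq_add.1 h2
    have h4 := hx' 4 le_rfl
    rw [h3] at h4
    refine smul_ne_zero hν (ne_of hz hz0 (by omega) (by norm_num) hb 4 le_rfl) ?_
    rw [← h4]
    funext i
    exact map_zero f

/-- the span of the products -/
def Bcr (X : Submodule k (I27 → k)) : Submodule k (I27 → k) := Submodule.span k {v | ∃ a ∈ X, ∃ b ∈ X, v = cr a b}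

theorem cr_mem_Bcr {X : Submodule k (I27 → k)} {a b : I27 → k} (ha : a ∈ X) (hb : b ∈ X) : cr a b ∈ Bcr X :=
  Submodule.subset_span ⟨a, ha, b, hb, rfl⟩

theorem Bcr_le {X Y : Submodule k (I27 → k)} (h : ∀ a ∈ X, ∀ b ∈ X, cr a b ∈ Y) : Bcr X ≤ Y := by
  unfold Bcr
  rw [Submodule.span_le]
  rintro _ ⟨a, ha, b, hb, rfl⟩
  exact h a ha b hb

theorem Bcr_span {x : ℕ → I27 → k} {Y : Submodule k (I27 → k)} (h : ∀ s t, cr (x s) (x t) ∈ Y) :
    Bcr (Submodule.span k (Set.range x)) ≤ Y := by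
  refine Bcr_le fun v hv w hw => ?_
  induction hv using Submodule.span_induction with
  | mem v hv =>
    obtain ⟨s, rfl⟩ := hv
    induction hw using Submodule.span_induction with
    | mem w hw =>
      obtain ⟨t, rfl⟩ := hw
      exact h s t
    | zero => rw [cr_zero_right]; exact Y.zero_mem
    | add a b _ _ ha hb => rw [cr_add_right]; exact Y.add_mem ha hb
    | smul c a _ ha => rw [cr_smul_right]; exact Y.smul_mem _ ha
  | zero => rw [cr_zero_left]; exact Y.zero_mem
  | add a b _ _ ha hb => rw [cr_add_left]; exact Y.add_mem ha hb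
  | smul c a _ ha => rw [cr_smul_left]; exact Y.smul_mem _ ha

/-- **the tuples of type `(2, i)`** -/
theorem sub2 (hc : Cfg p a b H φ) [IsAlgClosed k] {i : ℕ} (hi : i < a) (C : Cx ι p a (Rk f φ)) {z : ℕ → I27 → k}
    (hz : TS ι p (Rk f φ) 2 i z) (hz0 : z ≠ 0) (hus : Us f φ (Submodule.span k (Set.range z))) : False := by
  have hp5 := C.hp5
  have h2 := C.two
  have h3 := C.three
  have hb : 2 * p ^ i ≤ Fintype.card K - 1 := C.lt_card (by omega) hi
  obtain ⟨κ', -, x', ν, hν, hx', hS⟩ := rat_of hc hus.sm_mem (n := 2) (by norm_num) (by omega)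
    (fun s _ => Submodule.subset_span ⟨s, rfl⟩) (ne_of hz hz0 (by omega) (by norm_num) hb) hz.str
    (top_of hz hz0 (by omega) (by norm_num) hb)
  have hy := hz.smul ν
  set y := ν • z with hyd
  have hy0 : y ≠ 0 := smul_ne_zero hν hz0
  have hxy : ∀ s ≤ 2, (fun i => f (x' s i)) = y s := hx'
  obtain ⟨c, hcc⟩ := C.exists_c hy
  have hc0 := C.c_ne hi hy hy0 hcc
  obtain ⟨c0', M⟩ := three_MH C.act (by omega) C.seven C.fix hy
  have ht : (2 : k) ^ 2 ≠ 1 := by
    intro h
    apply h3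
    linear_combination h
  have hc0' : c0' ≠ 0 := by
    rintro rfl
    have hw := M.w
    have e0 : (1 : k) • sh (y 0 + y 2) + (-1 : k) • sh (y 0 - y 2) + (-4 : k) • sh (y 1) = (2 * c) • u0 k := by
      rw [mul_smul, ← hcc, sub_eq_add_neg (y 0) (y 2), sh_add, sh_add, show -y 2 = (-1 : k) • y 2 by rw [neg_one_smul],
        sh_smul, cr_smul_right]
      module
    rw [e0, zero_smul] at hw
    exact (mul_ne_zero h2 hc0) ((smul_eq_zero.1 hw).resolve_right u0_ne)
  -- two generators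
  let e' : I27 → F := (-1 : F) • sh (x' 0 - x' 2) + (2 * (-4) : F) • sh (x' 1)
  let f' : I27 → F := (2 : F)⁻¹ • cr (x' 0 - x' 2) (x' 1) + (2 : F)⁻¹ • cr (x' 0 + x' 2) (x' 0 - x' 2)
  obtain ⟨g, hg1, hga, hgb⟩ := R2.F4P.common_stab e' f'
  apply hg1
  have ups : ∀ v : I27 → F, (fun i => f (sh v i)) = sh (fun i => f (v i)) := fun v => (map_sh f v).symm
  have upc : ∀ v w : I27 → F, (fun i => f (cr v w i)) = cr (fun i => f (v i)) (fun i => f (w i)) := fun v w => (map_cr f v w).symm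
  have upa : ∀ v w : I27 → F, (fun i => f ((v + w) i)) = (fun i => f (v i)) + (fun i => f (w i)) := fun v w => by
    funext i
    exact map_add f _ _
  have upm : ∀ v w : I27 → F, (fun i => f ((v - w) i)) = (fun i => f (v i)) - (fun i => f (w i)) := fun v w => by
    funext i
    exact map_sub f _ _
  have m1 : (-1 : k) • sh (y 0 - y 2) + (2 * (-4) : k) • sh (y 1) ∈ fixE f g := by
    have h5 := fixE_up (f := f) hga
    have e : (fun i => f (e' i)) = (-1 : k) • sh (y 0 - y 2) + (2 * (-4) : k) • sh (y 1) := by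
      show (fun i => f (((-1 : F) • sh (x' 0 - x' 2) + (2 * (-4) : F) • sh (x' 1)) i)) = _
      rw [upa, up_smul, up_smul, ups, ups, upm, hxy 0 (by norm_num), hxy 1 (by norm_num), hxy 2 (by norm_num), map_mul,
        map_neg, map_one, map_neg, map_ofNat, map_ofNat]
    rwa [e] at h5
  have m2 : (2 : k)⁻¹ • cr (y 0 - y 2) (y 1) + (2 : k)⁻¹ • cr (y 0 + y 2) (y 0 - y 2) ∈ fixE f g := by
    have h5 := fixE_up (f := f) hgb
    have e : (fun i => f (f' i)) = (2 : k)⁻¹ • cr (y 0 - y 2) (y 1) + (2 : k)⁻¹ • cr (y 0 + y 2) (y 0 - y 2) := by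
      show (fun i => f (((2 : F)⁻¹ • cr (x' 0 - x' 2) (x' 1) + (2 : F)⁻¹ • cr (x' 0 + x' 2) (x' 0 - x' 2)) i)) = _
      rw [upa, up_smul, up_smul, upc, upc, upm, upa, hxy 0 (by norm_num), hxy 1 (by norm_num), hxy 2 (by norm_num), map_inv₀,
        map_ofNat]
    rwa [e] at h5
  obtain ⟨⟨g1, g2, g3⟩, k1, k2, k3⟩ := M.gen h2 h2 ht hc0' (fixE_u0 g) fixE_cr m1 m2
  have hsm : ∀ {c : k} {x : I27 → k}, c ≠ 0 → c • x ∈ fixE f g → x ∈ fixE f g := fun {c x} hc hx => by
    have := (fixE f g).smul_mem c⁻¹ hx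
    rwa [smul_smul, inv_mul_cancel₀ hc, one_smul] at this
  have h4 : (4 : k) ≠ 0 := by
    rw [show (4 : k) = 2 * 2 by norm_num]
    exact mul_ne_zero h2 h2
  have em : y 0 - y 2 = y 0 + (-1 : k) • y 2 := by module
  have s0 : sh (y 0) ∈ fixE f g := by
    have h5 := (fixE f g).add_mem ((fixE f g).smul_mem (4 : k)⁻¹ ((fixE f g).add_mem g1 g2)) ((fixE f g).smul_mem (2 : k)⁻¹ k3)
    have e : (4 : k)⁻¹ • (sh (y 0 + y 2) + sh (y 0 - y 2)) + (2 : k)⁻¹ • (2 : k)⁻¹ • cr (y 0 + y 2) (y 0 - y 2) = sh (y 0) := by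
      rw [em, sh_add, sh_add, sh_smul]
      simp only [cr_add_left, cr_add_right, cr_smul_right, cr_self]
      rw [cr_comm (y 2) (y 0)]
      match_scalars <;> field_simp <;> ring
    rwa [e] at h5
  have s2 : sh (y 2) ∈ fixE f g := by
    have h5 := (fixE f g).sub_mem ((fixE f g).smul_mem (4 : k)⁻¹ ((fixE f g).add_mem g1 g2)) ((fixE f g).smul_mem (2 : k)⁻¹ k3)
    have e : (4 : k)⁻¹ • (sh (y 0 + y 2) + sh (y 0 - y 2)) - (2 : k)⁻¹ • (2 : k)⁻¹ • cr (y 0 + y 2) (y 0 - y 2) = sh (y 2) := by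
      rw [em, sh_add, sh_add, sh_smul]
      simp only [cr_add_left, cr_add_right, cr_smul_right, cr_self]
      rw [cr_comm (y 2) (y 0)]
      match_scalars <;> field_simp <;> ring
    rwa [e] at h5
  have s02 : cr (y 0) (y 2) ∈ fixE f g := by
    have h5 := (fixE f g).smul_mem (2 : k)⁻¹ ((fixE f g).sub_mem g1 g2)
    have e : (2 : k)⁻¹ • (sh (y 0 + y 2) - sh (y 0 - y 2)) = cr (y 0) (y 2) := by
      rw [em, sh_add, sh_add, sh_smul, cr_smul_right]
      match_scalars <;> field_simp <;> ring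
    rwa [e] at h5
  have s01 : cr (y 0) (y 1) ∈ fixE f g := by
    have h5 := (fixE f g).add_mem k1 k2
    have e : (2 : k)⁻¹ • cr (y 0 - y 2) (y 1) + (2 : k)⁻¹ • cr (y 0 + y 2) (y 1) = cr (y 0) (y 1) := by
      rw [em]
      simp only [cr_add_left, cr_smul_left]
      match_scalars <;> field_simp <;> ring
    rwa [e] at h5
  have s12 : cr (y 1) (y 2) ∈ fixE f g := by
    have h5 := (fixE f g).sub_mem k2 k1
    have e : (2 : k)⁻¹ • cr (y 0 + y 2) (y 1) - (2 : k)⁻¹ • cr (y 0 - y 2) (y 1) = cr (y 1) (y 2) := by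
      rw [em]
      simp only [cr_add_left, cr_smul_left]
      rw [cr_comm (y 2) (y 1)]
      match_scalars <;> field_simp <;> ring
    rwa [e] at h5
  have sall : ∀ s t, cr (y s) (y t) ∈ fixE f g := by
    intro s t
    by_cases hs : 2 < s
    · rw [hy.zero s hs, cr_zero_left]
      exact Submodule.zero_mem _
    by_cases ht : 2 < t
    · rw [hy.zero t ht, cr_zero_right]
      exact Submodule.zero_mem _
    have hs' : s = 0 ∨ s = 1 ∨ s = 2 := by omega
    have ht' : t = 0 ∨ t = 1 ∨ t = 2 := by omega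
    rcases hs' with rfl | rfl | rfl <;> rcases ht' with rfl | rfl | rfl
    · rw [cr_self]; exact Submodule.smul_mem _ _ s0
    · exact s01
    · exact s02
    · rw [cr_comm]; exact s01
    · rw [cr_self]; exact Submodule.smul_mem _ _ g3
    · exact s12
    · rw [cr_comm]; exact s02
    · rw [cr_comm]; exact s12
    · rw [cr_self]; exact Submodule.smul_mem _ _ s2
  have hspan : Submodule.span k (Set.range z) = Submodule.span k (Set.range y) := by
    apply le_antisymm
    · rw [Submodule.span_le]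
      rintro _ ⟨s, rfl⟩
      have h5 : z s = ν⁻¹ • y s := by
        show z s = ν⁻¹ • ν • z s
        rw [smul_smul, inv_mul_cancel₀ hν, one_smul]
      rw [h5]
      exact Submodule.smul_mem _ _ (Submodule.subset_span ⟨s, rfl⟩)
    · rw [Submodule.span_le]
      rintro _ ⟨s, rfl⟩
      exact Submodule.smul_mem _ _ (Submodule.subset_span ⟨s, rfl⟩)
  have hmem : ∀ g ∈ H, ∀ x ∈ Submodule.span k (Set.range y), Jr k (emb hF4 f g) x ∈ Submodule.span k (Set.range y) := by
    intro g hg x hx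
    rw [← hspan] at hx ⊢
    exact hus.mem hc hg hx
  set B := Bcr (Submodule.span k (Set.range y)) with hBd
  have hBfix : ∀ x ∈ B, Jr k (emb hF4 f g) x = x := fun x hx => Bcr_span sall hx
  have hBst : ∀ g ∈ H, ∀ x ∈ B, Jr k (emb hF4 f g) x ∈ B := by
    intro g hg
    have h5 : B ≤ B.comap (Jr k (emb hF4 f g)) := by
      refine Bcr_le fun a ha b hb => ?_
      show Jr k (emb hF4 f g) (cr a b) ∈ B
      rw [← Jr_cr]
      exact cr_mem_Bcr (hmem g hg a ha) (hmem g hg b hb)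
    exact h5
  by_contra hgne
  have hL : ∀ (s : ProjectiveSpecialLinearGroup (Fin 2) K) (v : I27 → F), v ∈ dn f B → Jr F (φ s) v = v := by
    intro s v hv
    by_contra hne
    exact hgne (kc_of hc (threeF hc hp5) hBst hv hne hBfix)
  have hcrs : ∀ s ≤ 2, ∀ t ≤ 2, ∃ d : k, cr (y s) (y t) = d • u0 k := by
    intro s hs t ht
    refine C.fix _ fun r => ?_
    have h5 : cr (x' s) (x' t) ∈ dn f B := by
      rw [mem_dn, upc, hxy s hs, hxy t ht]
      exact cr_mem_Bcr (Submodule.subset_span ⟨s, rfl⟩) (Submodule.subset_span ⟨t, rfl⟩)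
    have h6 := hL (pq r) _ h5
    have h7 := up_RF (f := f) (φ := φ) r (cr (x' s) (x' t))
    rw [RF_apply, h6, upc, hxy s hs, hxy t ht] at h7
    exact h7.symm
  refine hy0 (C.ts_white (by omega) hi hy fun b => ?_)
  set m := ∑ s ∈ Finset.range (2 + 1), b s • y s with hm
  have hN : cubicT m = 0 := by
    have h5 := three_N C.act (by omega) C.seven hy (b 0) (b 1) (b 2)
    rw [hm]
    simp only [Finset.sum_range_succ, Finset.sum_range_zero, zero_add]
    exact h5
  obtain ⟨d, hd⟩ : ∃ d : k, sh m = d • u0 k := by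
    obtain ⟨d00, h00⟩ := hcrs 0 (by norm_num) 0 (by norm_num)
    obtain ⟨d11, h11⟩ := hcrs 1 (by norm_num) 1 (by norm_num)
    obtain ⟨d22, h22⟩ := hcrs 2 (by norm_num) 2 (by norm_num)
    obtain ⟨d01, h01⟩ := hcrs 0 (by norm_num) 1 (by norm_num)
    obtain ⟨d02, h02⟩ := hcrs 0 (by norm_num) 2 (by norm_num)
    obtain ⟨d12, h12⟩ := hcrs 1 (by norm_num) 2 (by norm_num)
    have half : ∀ {v : I27 → k} {d : k}, cr v v = d • u0 k → sh v = (2⁻¹ * d) • u0 k := fun {v d} h => by
      rw [cr_self] at h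
      rw [mul_smul, ← h, smul_smul, inv_mul_cancel₀ h2, one_smul]
    refine ⟨b 0 ^ 2 * (2⁻¹ * d00) + b 1 ^ 2 * (2⁻¹ * d11) + b 2 ^ 2 * (2⁻¹ * d22) + b 0 * b 1 * d01 + b 0 * b 2 * d02 +
      b 1 * b 2 * d12, ?_⟩
    rw [hm]
    simp only [Finset.sum_range_succ, Finset.sum_range_zero, zero_add]
    rw [sh_add3]
    simp only [sh_smul, cr_smul_left, cr_smul_right]
    rw [half h00, half h11, half h22, h01, h02, h12]
    module
  have h5 := sh_sh m
  rw [hN, zero_smul, hd, sh_smul, sh_u0] at h5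
  have h6 : d = 0 := by
    have := (smul_eq_zero.1 h5).resolve_right u0_ne
    exact pow_eq_zero_iff (by norm_num) |>.1 this
  rw [hd, h6, zero_smul]

end Cfsg.Agent.R2.F4L
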