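import Cfsg.Agent.R2.F4L.SubC

/-!
# SUB6, III (helper2, S5931)

* `iso4` : if `z` of type `(4, i)` is not isotropic and `x_4 ^ # = 0`, the tuples of type `(4, l)`, `l ≠ i`, are isotropic;
* `no4` : `V_{4 p^i}` is not in the socle if the highest weight vectors are white;
* `no2` : `V_{2 p^i}` is not in the socle.
-/

set_option autoImplicit false
set_option linter.unusedSectionVars false
set_option linter.unusedVariables false

namespace Cfsg.Agent.R2.F4L

open Cfsg Cfsg.Lie Module Matrix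
open Cfsg.Agent.ChevalleyStructure.E6Min.Basic
open Cfsg.Agent.H952.F4 (sh cr tf tr1 u0 hF4)
open Cfsg.Agent.H952.F4.Jord
open Cfsg.Agent.H952.F4.FixV (W0 mem_W0 finrank_W0 u0_ne_zero tr1_eq)
open Cfsg.Agent.R2.H9.E6
open Cfsg.Agent.GpExc.Field (emb)
open Cfsg.Agent.H943.SL2Rel Cfsg.Agent.H943.SL2Mod
open Cfsg.Agent.R2.H28.SL2 Cfsg.Agent.H943.RepAdd
open Cfsg.Agent.R2.F4M Cfsg.Agent.R2.F4N

universe u v w

section Gen

variable {k : Type u} [Field k] [DecidableEq k] {K : Type w} [Field K] [Fintype K] [DecidableEq K] {ι : K →+* k}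
variable {p : ℕ} [Fact p.Prime] [CharP k p] [CharP K p] {a : ℕ}

theorem tuple_of_isV {V : Type*} [AddCommGroup V] [Module k V] {σ : Representation k (SpecialLinearGroup (Fin 2) K) V}
    {n i : ℕ} (hn : n < p) {X : Submodule k V} {hX : ∀ g, ∀ x ∈ X, σ g x ∈ X} (hV : IsV ι p (subRep σ X hX) (n * p ^ i)) :
    ∃ x : ℕ → V, TS ι p σ n i x ∧ X = Submodule.span k (Set.range x) ∧ ∀ s ≤ n, x s ≠ 0 := by
  obtain ⟨v, hv⟩ := IsV.basS ι p hn hV
  have h1 : TS ι p σ n i (fun s => (v s : V)) := BasS.ts hv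
  refine ⟨fun s => (v s : V), h1, le_antisymm (fun y hy => ?_) ?_, fun s hs h => ?_⟩
  · have h2 : (⟨y, hy⟩ : X) ∈ Submodule.span k (Set.range fun s : Fin (n + 1) => v s) := hv.sp trivial
    have h3 := Submodule.mem_map_of_mem (f := X.subtype) h2
    rw [Submodule.map_span] at h3
    refine Submodule.span_mono ?_ h3
    rintro _ ⟨_, ⟨s, rfl⟩, rfl⟩
    exact ⟨s, rfl⟩
  · rw [Submodule.span_le]
    rintro _ ⟨s, rfl⟩
    exact (v s).2
  · exact hv.li.ne_zero (⟨s, Nat.lt_succ_iff.2 hs⟩ : Fin (n + 1)) (Subtype.ext h)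

variable [IsAlgClosed k]
variable {ρ : Representation k (SpecialLinearGroup (Fin 2) K) (I27 → k)}
variable {V : Type v} [AddCommGroup V] [Module k V] [FiniteDimensional k V]
  {σ : Representation k (SpecialLinearGroup (Fin 2) K) V} {j : V →ₗ[k] (I27 → k)}

/-- **the other positions are isotropic** -/
theorem Cx.iso4 (C : Cx ι p a ρ) (E : Em ρ σ j) (h26 : finrank k V = 26) {i l : ℕ} (hi : i < a) (hl : l < a)
    (hil : i ≠ l) (hF : F4Hyp ι p ρ i) {z x : ℕ → I27 → k} (hz : TS ι p ρ 4 i z) (hzz : tf (z 2) (z 2) ≠ 0)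
    (hx : TS ι p ρ 4 l x) : tf (x 2) (x 2) = 0 := by
  have hp5 := C.hp5
  have h2 := C.two
  have h3 := C.three
  have hz0 : z ≠ 0 := by
    rintro rfl
    apply hzz
    show tf (0 : I27 → k) 0 = 0
    rw [tf_zero_left]
  have h4i := (C.inSoc_of E (by omega) (by norm_num) hi hz hz0).mem_cf
  have hno := C.big44 h26 hil hi hl h4i (by rw [card_Bf_single' (by omega) C hi]; norm_num) (by
    rw [card_Bf_single' (by omega) C hi]; norm_num)
  have hne : 4 * p ^ i ≠ 4 * p ^ l := fun h => hil (Nat.pow_right_injective (by omega : 2 ≤ p) (by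
    exact Nat.eq_of_mul_eq_mul_left (by norm_num) h))
  have mz : z 2 ∈ Submodule.span k (Set.range z) := Submodule.subset_span (Set.mem_range_self 2)
  have mx : x 2 ∈ Submodule.span k (Set.range x) := Submodule.subset_span (Set.mem_range_self 2)
  have o := C.orth E (by omega) (by omega) (by norm_num) (by norm_num) hi hl hne hz hx _ mz _ mx
  have q := C.prod0 E (by omega) (by omega) (by norm_num) (by norm_num) hi hl hil hno hz hx _ mz _ mx
  have tz := ts_tr C.act (by omega) (by norm_num) (C.lt_card (n := 4) (by omega) hi) hz 2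
  have tx := ts_tr C.act (by omega) (by norm_num) (C.lt_card (n := 4) (by omega) hl) hx 2
  obtain ⟨t, ht⟩ := hF.exists_t hz
  have hT := hF.tf2 hz ht
  have ht0 : t ≠ 0 := by
    rintro rfl
    rw [mul_zero] at hT
    exact hzz hT
  obtain ⟨ν, hν, -⟩ := hF.scalar hz ht ht0
  have hsh := hF.sh2 hz ht
  have hst : R2.H1.F4.st (z 2) (z 2) = (2 * ν) • z 2 := by
    unfold R2.H1.F4.st
    rw [cr_self, hsh, hT, hν]
    show (2 : k) • (ν • z 2 - t • u0 k) + (6 * t / 3) • u0 k = (2 * ν) • z 2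
    match_scalars <;> field_simp <;> ring
  have e4 := R2.H1.F4.four h2 h3 tz tz tx tx
  rw [q, hst, tf_smul_left, ← R2.H1.F4.tf_st_rot tz tx, q, o, tf_zero_left] at e4
  have h5 : tf (z 2) (z 2) * tf (x 2) (x 2) = 0 := by
    have h23 : (2 / 3 : k) ≠ 0 := div_ne_zero h2 h3
    have z0 : tf (0 : I27 → k) 0 = 0 := tf_zero_left 0
    have : (2 / 3 : k) * (tf (z 2) (z 2) * tf (x 2) (x 2)) = 0 := by linear_combination 2 * z0 - e4
    exact (mul_eq_zero.1 this).resolve_left h23
  exact (mul_eq_zero.1 h5).resolve_left hzz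

end Gen

section cfg

variable {F : Type u} [Field F] [Fintype F] {K : Type v} [Field K] [Fintype K] [DecidableEq K] {p a b : ℕ}
variable {H : Subgroup ↥(chevF4.group F)} {φ : ProjectiveSpecialLinearGroup (Fin 2) K →* ↥(chevF4.group F)}
variable {k : Type u} [Field k] [DecidableEq k] {f : F →+* k} {ι : K →+* k} [Fact p.Prime] [CharP k p] [CharP K p]
variable [IsAlgClosed k]

/-- labels of irreducible submodules -/
theorem isV_of_ir (hc : Cfg p a b H φ) {Y : Submodule k (I27 → k)} (hY : Ir f φ Y) :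
    ∃ c, IsV ι p (subRep (Rk f φ) Y hY.st) c ∧ finrank k Y = (Bf k c).card := by
  obtain ⟨c, hcV⟩ := (Sy.{u, u, v} ι p).ex (subRep (Rk f φ) Y hY.st) (irr_of_min (Rk f φ) hY.st hY.ne fun W hW hWs => hY.ir W hW hWs)
  obtain ⟨-, -, -, -, -, -, h5, -⟩ := IsV.hw2 ι p hcV
  exact ⟨c, hcV, h5⟩

theorem pos_lt (hc : Cfg p a b H φ) {n l : ℕ} (hn : 1 ≤ n) (h : n * p ^ l ≤ Fintype.card K - 1) : l < a := by
  have hp := hc.prime
  by_contra hl
  have h1 : p ^ a ≤ p ^ l := Nat.pow_le_pow_right hp.pos (by omega)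
  have h2 : p ^ l ≤ n * p ^ l := Nat.le_mul_of_pos_left _ hn
  have h3 : 0 < p ^ a := Nat.pow_pos hp.pos
  rw [hc.cardK] at h
  omega

/-- **`V_{4 p^i}` with white highest weight vectors** -/
theorem no4 (hc : Cfg p a b H φ) (C : Cx ι p a (Rk f φ)) (hQ : 11 ≤ Fintype.card K) {i : ℕ} (hi : i < a)
    (hv : ∀ y, TS ι p (Rk f φ) 4 i y → sh (y 4) = 0)
    (hcount : (cf (Sy.{u, u, v} ι p) (R0 f φ)).count (4 * p ^ i) ≤ 3) : ¬ InSoc ι p (R0 f φ) (4 * p ^ i) := by
  intro h
  have hp5 := C.hp5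
  have hb := C.lt_card (n := 4) (i := i) (by omega) hi
  have hF := C.f4 hQ hv
  obtain ⟨z, hz, hzz, hall⟩ := C.dead4 emW hQ hi hv hcount h
  have hz0 : z ≠ 0 := by
    rintro rfl
    apply hzz
    show tf (0 : I27 → k) 0 = 0
    rw [tf_zero_left]
  refine sub4 hc hi hF hz hzz ⟨ir_of hz hz0 (by omega) (by norm_num) hb, ⟨z 2, Submodule.subset_span ⟨2, rfl⟩, z 2,
    Submodule.subset_span ⟨2, rfl⟩, hzz⟩, fun Y hY hdim hns => ?_⟩
  rw [fin_of hz hz0 (by omega) (by norm_num) hb hc.cardK] at hdim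
  obtain ⟨c, hcV, hcd⟩ := isV_of_ir (ι := ι) hc hY
  rw [hdim] at hcd
  obtain ⟨l, rfl⟩ := card_five hp5 c hcd.symm
  obtain ⟨x, hx, hYx, hne⟩ := tuple_of_isV (by omega : 4 < p) hcV
  have hl : l < a := pos_lt hc (by norm_num) hcV.choose
  have hx0 : x ≠ 0 := fun h => hne 0 (by norm_num) (by rw [h]; rfl)
  by_cases hil : i = l
  · subst hil
    obtain ⟨d, hd⟩ := hall x hx
    have hd0 : d ≠ 0 := by
      rintro rfl
      apply hx0
      rw [hd, zero_smul]
    rw [hYx, hd]
    apply le_antisymm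
    · rw [Submodule.span_le]
      rintro _ ⟨s, rfl⟩
      exact Submodule.smul_mem _ _ (Submodule.subset_span ⟨s, rfl⟩)
    · rw [Submodule.span_le]
      rintro _ ⟨s, rfl⟩
      have h5 : z s = d⁻¹ • (d • z) s := by
        show z s = d⁻¹ • d • z s
        rw [smul_smul, inv_mul_cancel₀ hd0, one_smul]
      rw [h5]
      exact Submodule.smul_mem _ _ (Submodule.subset_span ⟨s, rfl⟩)
  · exfalso
    have h5 := C.iso4 emW finrank_W0 hi hl hil hF hz hzz hx
    obtain ⟨v, hv, w, hw, hvw⟩ := hns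
    rw [hYx] at hv hw
    apply hvw
    have h6 := ts4_orth C.act hp5 hQ hx hx h5
    induction hv using Submodule.span_induction with
    | mem v hv =>
      obtain ⟨s, rfl⟩ := hv
      clear hvw
      induction hw using Submodule.span_induction with
      | mem w hw =>
        obtain ⟨t, rfl⟩ := hw
        exact h6 s t
      | zero => rw [tf_comm, tf_zero_left]
      | add a b _ _ ha hb => rw [tf_add_right, ha, hb, add_zero]
      | smul c a _ ha => rw [tf_smul_right, ha, mul_zero]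
    | zero => exact tf_zero_left _
    | add a b _ _ ha hb =>
      rw [tf_add_left]
      by_cases h1 : tf a w = 0
      · by_cases h2 : tf b w = 0
        · rw [h1, h2, add_zero]
        · exact absurd (hb h2) h2
      · exact absurd (ha h1) h1
    | smul c a _ ha =>
      rw [tf_smul_left]
      by_cases h1 : tf a w = 0
      · rw [h1, mul_zero]
      · exact absurd (ha h1) h1

/-- **`V_{2 p^i}`** -/
theorem no2 (hc : Cfg p a b H φ) (C : Cx ι p a (Rk f φ)) {i : ℕ} (hi : i < a) : ¬ InSoc ι p (R0 f φ) (2 * p ^ i) := by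
  intro h
  have hp5 := C.hp5
  have hb := C.lt_card (n := 2) (i := i) (by omega) hi
  obtain ⟨X, hX, hV⟩ := h
  obtain ⟨x', hx', hz, -, -, hne⟩ := ts_of_isV (emW (f := f) (φ := φ) (k := k)) (by omega : 2 < p) hV
  set z : ℕ → I27 → k := fun s => (W0 k).subtype (x' s) with hzd
  have hz0 : z ≠ 0 := by
    intro h
    apply hne 0 (by norm_num)
    have h1 : z 0 = 0 := by rw [h]; rfl
    exact Subtype.ext h1
  have hns : ∃ v ∈ Submodule.span k (Set.range z), ∃ w ∈ Submodule.span k (Set.range z), tf v w ≠ 0 := by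
    by_contra hcon
    push Not at hcon
    have m : ∀ s, z s ∈ Submodule.span k (Set.range z) := fun s => Submodule.subset_span ⟨s, rfl⟩
    apply C.form2 hi hz hz0
    rw [hcon _ (m 1) _ (m 1), hcon _ (m 0) _ (m 2), sub_zero]
  refine sub2 hc hi C hz hz0 ⟨ir_of hz hz0 (by omega) (by norm_num) hb, hns, fun Y hY hdim _ => ?_⟩
  rw [fin_of hz hz0 (by omega) (by norm_num) hb hc.cardK] at hdim
  obtain ⟨c, hcV, hcd⟩ := isV_of_ir (ι := ι) hc hY
  rw [hdim] at hcd
  obtain ⟨-, l, rfl⟩ := (card_cases k p (by omega) c).2.2.1 hcd.symm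
  obtain ⟨x, hx, hYx, hne'⟩ := tuple_of_isV (by omega : 2 < p) hcV
  have hl : l < a := pos_lt hc (by norm_num) hcV.choose
  have hx0 : x ≠ 0 := fun h => hne' 0 (by norm_num) (by rw [h]; rfl)
  by_cases hil : i = l
  · subst hil
    obtain ⟨d, hd⟩ := C.uniq2 hi hz hz0 hx
    have hd0 : d ≠ 0 := by
      rintro rfl
      apply hx0
      rw [hd, zero_smul]
    rw [hYx, hd]
    apply le_antisymm
    · rw [Submodule.span_le]
      rintro _ ⟨s, rfl⟩
      exact Submodule.smul_mem _ _ (Submodule.subset_span ⟨s, rfl⟩)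
    · rw [Submodule.span_le]
      rintro _ ⟨s, rfl⟩
      have h5 : z s = d⁻¹ • (d • z) s := by
        show z s = d⁻¹ • d • z s
        rw [smul_smul, inv_mul_cancel₀ hd0, one_smul]
      rw [h5]
      exact Submodule.smul_mem _ _ (Submodule.subset_span ⟨s, rfl⟩)
  · exact (C.pair2 emW finrank_W0 hi hl hil hz hz0 hx hx0).elim

end cfg

end Cfsg.Agent.R2.F4L
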