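import Cfsg.Agent.R2.F4L.Rules
import Cfsg.Agent.R2.H28.SL2.TK

/-!
# Tuples and submodules (helper2, S5931)

* `TS.lin` : the homomorphism of a tuple; `TS.isV` : the span of a nonzero tuple is `V_{n p ^ i}`;
* `TS.schur` : tuples in an irreducible module are proportional;
* `ts4_orth` : the form on two tuples of type `(4, i)` is determined by the middle vectors;
* `count_two` : two independent radical tuples.
-/

set_option autoImplicit false
set_option linter.unusedSectionVars false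
set_option linter.unusedVariables false

namespace Cfsg.Agent.R2.F4L

open Cfsg.Agent.H943.SL2Rel Cfsg.Agent.H943.SL2Mod Cfsg.Agent.R2.H28.SL2 Cfsg.Agent.H943.RepAdd

universe u v w

variable {k : Type u} [Field k] [DecidableEq k] {K : Type w} [Field K] [Fintype K] [DecidableEq K] {ι : K →+* k}
variable {p : ℕ} [Fact p.Prime] [CharP k p] [CharP K p] {a : ℕ}
variable {V : Type v} [AddCommGroup V] [Module k V] {σ : Representation k (Matrix.SpecialLinearGroup (Fin 2) K) V}
variable {n i : ℕ} {x y : ℕ → V}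

/-- **the homomorphism of a tuple** -/
theorem TS.lin {M : Type*} [AddCommGroup M] [Module k M] {τ : Representation k (Matrix.SpecialLinearGroup (Fin 2) K) M}
    {v : ℕ → M} (hv : BasS ι p τ n i v) (hx : TS ι p σ n i x) :
    ∃ f : M →ₗ[k] V, (∀ s, f (v s) = x s) ∧ ∀ g m, f (τ g m) = σ g (f m) := by
  let B : Module.Basis (Fin (n + 1)) k M := Module.Basis.mk hv.li hv.sp
  have hB : ∀ s : Fin (n + 1), B s = v s := fun s => Module.Basis.mk_apply _ _ _
  let f : M →ₗ[k] V := B.constr k fun s : Fin (n + 1) => x s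
  have hf0 : ∀ s : Fin (n + 1), f (v s) = x s := fun s => by
    rw [← hB, Module.Basis.constr_basis]
  have hf : ∀ s, f (v s) = x s := by
    intro s
    by_cases hs : s ≤ n
    · exact hf0 ⟨s, by omega⟩
    · rw [hv.zero s (by omega), hx.zero s (by omega), map_zero]
  have ext : ∀ g, (∀ s ≤ n, f (τ g (v s)) = σ g (x s)) → ∀ m, f (τ g m) = σ g (f m) := by
    intro g hg m
    have h1 : f ∘ₗ τ g = σ g ∘ₗ f := by
      refine B.ext fun s => ?_
      rw [LinearMap.comp_apply, LinearMap.comp_apply, hB, hf]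
      exact hg s (by omega)
    exact LinearMap.congr_fun h1 m
  refine ⟨f, hf, ?_⟩
  refine induct (P := fun g => ∀ m, f (τ g m) = σ g (f m)) (fun t => ext _ fun s hs => ?_) (fun b => ext _ fun s hs => ?_)
    (ext _ fun s hs => ?_) (fun g g' hg hg' m => ?_)
  · rw [hv.u s hs, hx.u s hs, map_sum]
    exact Finset.sum_congr rfl fun j _ => by rw [map_smul, hf]
  · rw [hv.h s hs, hx.h s hs, map_smul, hf]
  · rw [hv.w s hs, hx.w s hs, map_smul, hf]
  · rw [map_mul, map_mul, Module.End.mul_apply, Module.End.mul_apply, hg, hg']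

theorem isV_RB {b : ℕ} (hb : b ≤ Fintype.card K - 1) : IsV ι p (RB ι p hb) b := ⟨hb, LinearEquiv.refl k _, fun _ _ => rfl⟩

/-- **the span of a tuple** -/
theorem TS.isV (hn : n < p) (hb : n * p ^ i ≤ Fintype.card K - 1) (hx : TS ι p σ n i x) (hx0 : x ≠ 0) :
    ∃ hX : ∀ g, ∀ y ∈ Submodule.span k (Set.range x), σ g y ∈ Submodule.span k (Set.range x),
      IsV ι p (subRep σ (Submodule.span k (Set.range x)) hX) (n * p ^ i) := by
  have hV : IsV ι p (RB (k := k) ι p hb) (n * p ^ i) := isV_RB hb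
  obtain ⟨v, hv⟩ := IsV.basS ι p hn hV
  obtain ⟨f, hf, he⟩ := hx.lin hv
  have hne : f ≠ 0 := by
    intro h0
    apply hx0
    funext s
    rw [← hf s, h0]
    rfl
  have hker : LinearMap.ker f = ⊥ := by
    rcases (IsV.irr ι p hV).2 (LinearMap.ker f) (fun g m hm => by
      rw [LinearMap.mem_ker] at hm ⊢
      rw [he, hm, map_zero]) with h1 | h1
    · exact h1
    · exfalso
      exact hne (LinearMap.ker_eq_top.1 h1)
  have hr : LinearMap.range f = Submodule.span k (Set.range x) := by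
    apply le_antisymm
    · rintro _ ⟨m, rfl⟩
      have h1 : m ∈ Submodule.span k (Set.range fun s : Fin (n + 1) => v s) := hv.sp trivial
      have h2 := Submodule.mem_map_of_mem (f := f) h1
      rw [Submodule.map_span] at h2
      refine Submodule.span_mono ?_ h2
      rintro _ ⟨_, ⟨s, rfl⟩, rfl⟩
      exact ⟨s, (hf s).symm⟩
    · rw [Submodule.span_le]
      rintro _ ⟨s, rfl⟩
      exact ⟨v s, hf s⟩
  have hX : ∀ g, ∀ y ∈ Submodule.span k (Set.range x), σ g y ∈ Submodule.span k (Set.range x) := by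
    rw [← hr]
    rintro g _ ⟨m, rfl⟩
    exact ⟨_, he g m⟩
  refine ⟨hX, ?_⟩
  let e : Vb (k := k) ι (n * p ^ i) ≃ₗ[k] Submodule.span k (Set.range x) :=
    (LinearEquiv.ofInjective f (LinearMap.ker_eq_bot.1 hker)).trans (LinearEquiv.ofEq _ _ hr)
  exact IsV.iso ι p e (fun g m => Subtype.ext (he g m)) hV

/-- a nonzero tuple has no zero entries -/
theorem TS.zero_of (hn : n < p) (hb : n * p ^ i ≤ Fintype.card K - 1) (hx : TS ι p σ n i x) {s : ℕ} (hs : s ≤ n)
    (h0 : x s = 0) : x = 0 := by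
  have hV : IsV ι p (RB (k := k) ι p hb) (n * p ^ i) := isV_RB hb
  obtain ⟨v, hv⟩ := IsV.basS ι p hn hV
  obtain ⟨f, hf, he⟩ := hx.lin hv
  have hv0 : v s ≠ 0 := hv.li.ne_zero (⟨s, Nat.lt_succ_iff.2 hs⟩ : Fin (n + 1))
  rcases (IsV.irr ι p hV).2 (LinearMap.ker f) (fun g m hm => by
      rw [LinearMap.mem_ker] at hm ⊢
      rw [he, hm, map_zero]) with h1 | h1
  · exfalso
    have h2 : v s ∈ LinearMap.ker f := by rw [LinearMap.mem_ker, hf, h0]
    rw [h1, Submodule.mem_bot] at h2
    exact hv0 h2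
  · funext s'
    rw [← hf s', LinearMap.ker_eq_top.1 h1]
    rfl

/-- **Schur** : two tuples in an irreducible module -/
theorem TS.schur (hn : n < p) (hx : TS ι p σ n i x) (hy : TS ι p σ n i y) {X : Submodule k V}
    {hX : ∀ g, ∀ x ∈ X, σ g x ∈ X} (hV : IsV ι p (subRep σ X hX) (n * p ^ i)) (hxX : ∀ s, x s ∈ X) (hyX : ∀ s, y s ∈ X)
    (hx0 : x ≠ 0) : ∃ c : k, y = c • x := by
  have hb : n * p ^ i ≤ Fintype.card K - 1 := hV.choose
  obtain ⟨m, hm0, -, -, -, huniq⟩ := IsV.hw ι p hV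
  obtain ⟨c, hc⟩ := huniq ⟨x n, hxX n⟩ (fun t => Subtype.ext (hx.u_top t))
  obtain ⟨d, hd⟩ := huniq ⟨y n, hyX n⟩ (fun t => Subtype.ext (hy.u_top t))
  have hc0 : c ≠ 0 := by
    rintro rfl
    rw [zero_smul] at hc
    exact hx0 (hx.zero_of hn hb le_rfl (congrArg Subtype.val hc))
  refine ⟨d * c⁻¹, ?_⟩
  have h1 : y n = (d * c⁻¹) • x n := by
    have e1 : x n = c • (m : V) := congrArg Subtype.val hc
    have e2 : y n = d • (m : V) := congrArg Subtype.val hd
    rw [e2, e1, smul_smul, mul_assoc, inv_mul_cancel₀ hc0, mul_one]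
  have h2 : y + (-(d * c⁻¹)) • x = 0 := by
    refine (hy.add (hx.smul _)).zero_of hn hb le_rfl ?_
    show y n + (-(d * c⁻¹)) • x n = 0
    rw [h1]
    module
  have h3 : y = (y + (-(d * c⁻¹)) • x) + (d * c⁻¹) • x := by module
  rw [h3, h2, zero_add]

end Cfsg.Agent.R2.F4L
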